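import Mathlib
import Cfsg.Agent.H209.EPX.Defs_m3
import Cfsg.Agent.H419.EP.Targets_m3
import Cfsg.Agent.H914.Sub
import Cfsg.Agent.Lib.Cores
import Cfsg.Agent.LieClassical.HermBasic
import Cfsg.Agent.H879.ExtSymp
import Cfsg.Agent.H913.GeoBasic
import Cfsg.Agent.ClassicalGeometry.SympBasic
import Cfsg.Agent.H919.AschWreathForm2
import Cfsg.Agent.H921.SympDim
import Cfsg.Agent.H876.SpGen
import Cfsg.Agent.H883.Sub
import Cfsg.Agent.ClassicalGeometry.OrthAut1
import Cfsg.Agent.ClassicalGeometry.Discriminant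
import Cfsg.Agent.H925.EvenFine
import Cfsg.Agent.FastGrp
import Cfsg.Agent.Prune
set_option linter.all false

section
prune_inst 0x7fffb8f9bbb8fddfdfff7e77a69ccdfc39901fffa4dff94b7fe061cf0bdf03000dc1638d09e010fc0e83421410a87843f9ffcfffe26bd87ffffd1df41ffbee0fe5f6b508519488340fbc0ff703f0778e7f3fffffffffffffffffffffffffffaeffbdfffffffd

-- part: H765/EPS/Basic
section
prune_inst 0x10000000000002
set_option linter.all false
open scoped Cfsg.Agent.FastGrp

/-!
# The modules of dimension 16 of `Sp₈(2)`: basic relations (helper765)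

`t x`, `0 < x < 256`, are the transvections; the vector `x` has the coordinates of its bits, `u₁ .. u₄` the bits `0 .. 3`,
`w₁ .. w₄` the bits `4 .. 7`.
-/

set_option autoImplicit false
set_option linter.unusedSectionVars false

namespace Cfsg.Agent.H765.EPS

/-- parity of the four lowest bits -/
def par (x : ℕ) : Bool := (x.testBit 0 ^^ x.testBit 1) ^^ (x.testBit 2 ^^ x.testBit 3)

/-- the symplectic form -/
def sf (x y : ℕ) : Bool := par ((x &&& 15) &&& (y >>> 4)) ^^ par ((x >>> 4) &&& (y &&& 15))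

/-- the transvection -/
def act (x y : ℕ) : ℕ := if sf x y = true then y ^^^ x else y

/-- words of transvections -/
def aw (l : List ℕ) (y : ℕ) : ℕ := l.foldr act y

/-- nonzero vectors -/
def Ok (x : ℕ) : Prop := 0 < x ∧ x < 256

instance (x : ℕ) : Decidable (Ok x) := inferInstanceAs (Decidable (_ ∧ _))

def OkL (l : List ℕ) : Prop := ∀ x ∈ l, Ok x

instance (l : List ℕ) : Decidable (OkL l) := inferInstanceAs (Decidable (∀ x ∈ l, Ok x))

theorem sf_self (x : ℕ) : sf x x = false := by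
  unfold sf
  rw [Nat.land_comm (x >>> 4) (x &&& 15)]
  exact Bool.xor_self _

theorem Ok.act {x y : ℕ} (hx : Ok x) (hy : Ok y) : Ok (act x y) := by
  unfold EPS.act
  split_ifs with h
  · refine ⟨?_, Nat.xor_lt_two_pow (n := 8) hy.2 hx.2⟩
    rw [Nat.pos_iff_ne_zero]
    intro e
    have : y = x := Nat.xor_eq_zero_iff.1 e
    rw [this, sf_self] at h
    exact Bool.noConfusion h
  · exact hy

theorem OkL.aw {l : List ℕ} (hl : OkL l) {y : ℕ} (hy : Ok y) : Ok (aw l y) := by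
  induction l with
  | nil => exact hy
  | cons x l ih =>
    exact (hl x (List.mem_cons_self)).act (ih fun z hz => hl z (List.mem_cons_of_mem _ hz))

variable {F V : Type*} [Field F] [AddCommGroup V] [Module F V]

/-- The relations between the transvections in a linear representation of `Sp₈(2)` of degree 16 in characteristic 2. -/
structure Rep (t : ℕ → Module.End F V) : Prop where
  sq : ∀ x, Ok x → t x * t x = 1
  cj : ∀ x y, Ok x → Ok y → t x * t y * t x = t (act x y)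
  seven : t 1 * t 4 * t 8 * t 5 * t 9 * t 12 * t 13 = 1
  irr : ∀ U : Submodule F V, (∀ x, Ok x → ∀ v ∈ U, t x v ∈ U) → U = ⊥ ∨ U = ⊤
  nt : t 1 ≠ 1
  rank : Module.finrank F V = 16
  two : (2 : F) = 0

/-- conjugation as a ring homomorphism -/
def conjHom {R : Type*} [Ring R] (u : Rˣ) : R →+* R where
  toFun r := u * r * ↑u⁻¹
  map_one' := by simp
  map_mul' a b := by simp [mul_assoc]
  map_zero' := by simp
  map_add' a b := by simp [mul_add, add_mul]

theorem conjHom_apply {R : Type*} [Ring R] (u : Rˣ) (r : R) : conjHom u r = u * r * ↑u⁻¹ := rfl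

theorem conjHom_mul {R : Type*} [Ring R] (u v : Rˣ) (r : R) : conjHom (u * v) r = conjHom u (conjHom v r) := by
  simp only [conjHom_apply, mul_inv_rev, Units.val_mul, mul_assoc]

namespace Rep

variable {t : ℕ → Module.End F V} (h : Rep t)

include h

theorem add_self (r : Module.End F V) : r + r = 0 := by
  rw [← two_smul F r, h.two, zero_smul]

theorem add_selfV (v : V) : v + v = 0 := by
  rw [← two_smul F v, h.two, zero_smul]

omit h in
open Classical in
/-- the unit `t x` -/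
noncomputable def ux (t : ℕ → Module.End F V) (x : ℕ) : (Module.End F V)ˣ :=
  if hx : t x * t x = 1 then ⟨t x, t x, hx, hx⟩ else 1

theorem ux_val {x : ℕ} (hx : Ok x) : ((ux t x : (Module.End F V)ˣ) : Module.End F V) = t x := by
  unfold ux
  rw [dif_pos (h.sq x hx)]

theorem ux_inv {x : ℕ} (hx : Ok x) : (((ux t x)⁻¹ : (Module.End F V)ˣ) : Module.End F V) = t x := by
  unfold ux
  rw [dif_pos (h.sq x hx)]
  rfl

omit h in
/-- the unit of a word -/
noncomputable def wu (t : ℕ → Module.End F V) (l : List ℕ) : (Module.End F V)ˣ := (l.map (ux t)).prod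

theorem cjt {l : List ℕ} (hl : OkL l) {y z : ℕ} (hy : Ok y) (e : aw l y = z) : conjHom (wu t l) (t y) = t z := by
  subst e
  induction l with
  | nil =>
    show conjHom 1 (t y) = t y
    rw [conjHom_apply]
    simp
  | cons x l ih =>
    have hx : Ok x := hl x List.mem_cons_self
    have hl' : OkL l := fun z hz => hl z (List.mem_cons_of_mem _ hz)
    show conjHom (ux t x * wu t l) (t y) = t (act x (aw l y))
    rw [conjHom_mul, ih hl', conjHom_apply, h.ux_val hx, h.ux_inv hx, h.cj x _ hx (hl'.aw hy)]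

omit h in
/-- `FF a b` is the idempotent `z + z⁻¹` for `z = t a * t b` -/
def FF (t : ℕ → Module.End F V) (a b : ℕ) : Module.End F V := t a * t b + t b * t a

omit h in
def NN (t : ℕ → Module.End F V) (a : ℕ) : Module.End F V := t a + 1

theorem cjF {l : List ℕ} (hl : OkL l) {a b c d : ℕ} (ha : Ok a) (hb : Ok b) (e1 : aw l a = c) (e2 : aw l b = d) :
    conjHom (wu t l) (FF t a b) = FF t c d := by
  unfold FF
  rw [map_add, map_mul, map_mul, h.cjt hl ha e1, h.cjt hl hb e2]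

theorem cjN {l : List ℕ} (hl : OkL l) {a c : ℕ} (ha : Ok a) (e1 : aw l a = c) :
    conjHom (wu t l) (NN t a) = NN t c := by
  unfold NN
  rw [map_add, map_one, h.cjt hl ha e1]

theorem comm_of {a b : ℕ} (ha : Ok a) (hb : Ok b) (e : act a b = b) : t a * t b = t b * t a := by
  have h1 := h.cj a b ha hb
  rw [e] at h1
  calc t a * t b = t a * t b * (t a * t a) := by rw [h.sq a ha, mul_one]
    _ = (t a * t b * t a) * t a := by simp only [mul_assoc]
    _ = t b * t a := by rw [h1]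

theorem NN_sq {a : ℕ} (ha : Ok a) : NN t a * NN t a = 0 := by
  unfold NN
  have h1 := h.sq a ha
  have : (t a + 1) * (t a + 1) = t a * t a + (t a + t a) + 1 := by noncomm_ring
  rw [this, h1, h.add_self, add_zero, h.add_self]

/-- `N_a N_b + N_b N_a = F_ab` -/
theorem NN_anti (a b : ℕ) : NN t a * NN t b + NN t b * NN t a = FF t a b := by
  unfold NN FF
  have : (t a + 1) * (t b + 1) + (t b + 1) * (t a + 1) =
      t a * t b + t b * t a + ((t a + t a) + (t b + t b)) + (1 + 1) := by noncomm_ring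
  rw [this, h.add_self (t a), h.add_self (t b), h.add_self 1, add_zero, add_zero, add_zero]

/-- for `f(a, b) = 1` the product `t a * t b` has order three -/
theorem braid {a b : ℕ} (ha : Ok a) (hb : Ok b) (e : sf a b = true) (e' : sf b a = true) :
    t a * t b * t a = t b * t a * t b := by
  rw [h.cj a b ha hb, h.cj b a hb ha]
  unfold act
  rw [if_pos e, if_pos e', Nat.xor_comm]

theorem FF_idem {a b : ℕ} (ha : Ok a) (hb : Ok b) (e : sf a b = true) (e' : sf b a = true) :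
    FF t a b * FF t a b = FF t a b := by
  have h1 := h.braid ha hb e e'
  have h2 := h.sq a ha
  have h3 := h.sq b hb
  unfold FF
  have e1 : (t a * t b + t b * t a) * (t a * t b + t b * t a) =
      (t a * t b * t a) * t b + t a * (t b * t b) * t a + (t b * (t a * t a) * t b + (t b * t a * t b) * t a) := by
    noncomm_ring
  rw [e1, h2, h3, h1, mul_one, mul_one, h2, h3]
  have e2 : t b * t a * t b * t b = t b * t a := by rw [mul_assoc, h3, mul_one]
  rw [e2, ← h1]
  have e3 : t a * t b * t a * t a = t a * t b := by rw [mul_assoc, h2, mul_one]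
  rw [e3]
  have : t b * t a + 1 + (1 + t a * t b) = t a * t b + t b * t a + (1 + 1) := by abel
  rw [this, h.add_self, add_zero]

omit h in
theorem FF_symm (a b : ℕ) : FF t a b = FF t b a := by
  unfold FF
  rw [add_comm]

theorem FF_comm {a b c d : ℕ} (h1 : t a * t c = t c * t a) (h2 : t a * t d = t d * t a) (h3 : t b * t c = t c * t b)
    (h4 : t b * t d = t d * t b) : FF t a b * FF t c d = FF t c d * FF t a b := by
  have c1 : Commute (t a) (t c) := h1
  have c2 : Commute (t a) (t d) := h2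
  have c3 : Commute (t b) (t c) := h3
  have c4 : Commute (t b) (t d) := h4
  have c5 : Commute (FF t a b) (FF t c d) := by
    unfold FF
    exact (((c1.mul_left c3).mul_right (c2.mul_left c4)).add_right
      ((c2.mul_left c4).mul_right (c1.mul_left c3))).add_left
      (((c3.mul_left c1).mul_right (c4.mul_left c2)).add_right ((c4.mul_left c2).mul_right (c3.mul_left c1)))
  exact c5

end Rep

/-- splitting by an idempotent -/
theorem split [FiniteDimensional F V] {X : Submodule F V} {g : Module.End F V} (h2 : ∀ v : V, v + v = 0)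
    (hg : g * g = g) (hX : ∀ v ∈ X, g v ∈ X) :
    Module.finrank F X = Module.finrank F (X ⊓ LinearMap.ker (g + 1) : Submodule F V) +
      Module.finrank F (X ⊓ LinearMap.ker g : Submodule F V) := by
  have hgg : ∀ v, g (g v) = g v := fun v => by
    rw [← Module.End.mul_apply, hg]
  have h1 : (X ⊓ LinearMap.ker (g + 1)) ⊔ (X ⊓ LinearMap.ker g) = X := by
    apply le_antisymm (sup_le inf_le_left inf_le_left)
    intro v hv
    rw [Submodule.mem_sup]
    refine ⟨g v, ⟨hX v hv, ?_⟩, v + g v, ⟨X.add_mem hv (hX v hv), ?_⟩, ?_⟩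
    · show g v ∈ LinearMap.ker (g + 1)
      rw [LinearMap.mem_ker, LinearMap.add_apply, Module.End.one_apply, hgg, h2]
    · show v + g v ∈ LinearMap.ker g
      rw [LinearMap.mem_ker, map_add, hgg, h2]
    · rw [add_comm v, ← add_assoc, h2, zero_add]
  have h3 : (X ⊓ LinearMap.ker (g + 1)) ⊓ (X ⊓ LinearMap.ker g) = ⊥ := by
    rw [Submodule.eq_bot_iff]
    rintro v ⟨⟨_, h4⟩, ⟨_, h5⟩⟩
    rw [SetLike.mem_coe, LinearMap.mem_ker] at h4 h5
    rw [LinearMap.add_apply, h5, zero_add, Module.End.one_apply] at h4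
    exact h4
  have h4 := Submodule.finrank_sup_add_finrank_inf_eq (X ⊓ LinearMap.ker (g + 1)) (X ⊓ LinearMap.ker g)
  rw [h1, h3, finrank_bot, add_zero] at h4
  exact h4

/-- halving by an annihilation and a creation operator -/
theorem step [FiniteDimensional F V] {X : Submodule F V} {a c : Module.End F V}
    (ha : a * a = 0) (hc : c * c = 0) (hXa : ∀ v ∈ X, a v ∈ X) (hXc : ∀ v ∈ X, c v ∈ X)
    (h1 : ∀ v ∈ X, a (c v) + c (a v) = v) :
    Module.finrank F X = 2 * Module.finrank F (X ⊓ LinearMap.ker a : Submodule F V) := by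
  have haa : ∀ v, a (a v) = 0 := fun v => by rw [← Module.End.mul_apply, ha, LinearMap.zero_apply]
  have hcc : ∀ v, c (c v) = 0 := fun v => by rw [← Module.End.mul_apply, hc, LinearMap.zero_apply]
  let f : X →ₗ[F] X := a.restrict hXa
  have hf : ∀ v : X, ((f v : X) : V) = a v := fun v => rfl
  have hker : Module.finrank F (LinearMap.ker f) = Module.finrank F (X ⊓ LinearMap.ker a : Submodule F V) := by
    have e : (LinearMap.ker f).map X.subtype = X ⊓ LinearMap.ker a := by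
      ext v
      constructor
      · rintro ⟨w, hw, rfl⟩
        refine ⟨w.2, ?_⟩
        have := Subtype.ext_iff.1 (LinearMap.mem_ker.1 hw)
        exact this
      · rintro ⟨h2, h3⟩
        exact ⟨⟨v, h2⟩, LinearMap.mem_ker.2 (Subtype.ext h3), rfl⟩
    rw [← e]
    exact (LinearEquiv.finrank_eq (Submodule.equivMapOfInjective X.subtype X.injective_subtype _))
  have hrange : LinearMap.range f = LinearMap.ker f := by
    ext v
    rw [LinearMap.mem_ker]
    constructor
    · rintro ⟨w, rfl⟩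
      exact Subtype.ext (haa w)
    · intro hv
      have h2 : a v = 0 := Subtype.ext_iff.1 hv
      refine ⟨⟨c v, hXc v v.2⟩, Subtype.ext ?_⟩
      have h3 := h1 v v.2
      rw [h2, map_zero, add_zero] at h3
      exact h3
  have h2 := LinearMap.finrank_range_add_finrank_ker f
  rw [hrange, hker] at h2
  omega

end Cfsg.Agent.H765.EPS
end

-- part: H681/EP/TTwo
section
set_option linter.all false
open scoped Cfsg.Agent.FastGrp

/-!
# S3499: commuting invariant subgroups (helper681)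

* `inf_cj_eq_bot` : (T2) commuting `Γ`-invariant `X`, `Y ≠ 1` in `A`: `X ∩ A^x = 1` for `x ∉ A`;
* `card_eq` : then `|X| = |Y|` if `X ≠ 1`;
* `mem_of_comm` : some `1 ≠ z ∈ A` commutes with the elements `g ∈ A`, `g ^ p = 1`: then `C_Q(u) ≤ A` for each of them,
  `u ≠ 1`.
-/

set_option autoImplicit false

namespace Cfsg.Agent.H681.EP

open Subgroup Cfsg.Agent.H284

variable {Q : Type*} [Group Q] {A : Subgroup Q} {Γ : Subgroup (MulAut Q)}

/-- **(T2)** -/
theorem inf_cj_eq_bot (h : EPT A Γ) {X Y : Subgroup Q} (hXA : X ≤ A) (hYA : Y ≤ A)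
    (hX : ∀ σ ∈ Γ, ∀ k ∈ X, σ k ∈ X) (hY : ∀ σ ∈ Γ, ∀ k ∈ Y, σ k ∈ Y) (hYne : Y ≠ ⊥)
    (hc : ∀ a ∈ X, ∀ b ∈ Y, a * b = b * a) {x : Q} (hx : x ∉ A) : X ⊓ cj x A = ⊥ := by
  refine h.F1 x hx _ (inf_le_left.trans hXA) ?_ inf_le_right
  intro σ hσ d hd
  obtain ⟨k, hk, τ, hτ, hτx, rfl⟩ := h.fac hYA hY hYne hx hσ
  have h1 : τ d ∈ A ⊓ cj x A := h.stab_M0 hτ hτx ⟨hXA (mem_inf.1 hd).1, (mem_inf.1 hd).2⟩
  have h2 : τ d ∈ X := hX τ hτ d (mem_inf.1 hd).1
  rw [MulAut.mul_apply, MulAut.conj_apply, ← hc (τ d) h2 k hk, mul_inv_cancel_right]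
  exact mem_inf.2 ⟨h2, (mem_inf.1 h1).2⟩

/-- `C_Q(u) ≤ A` for `1 ≠ u ∈ X` -/
theorem mem_of_comm' (h : EPT A Γ) {X Y : Subgroup Q} (hXA : X ≤ A) (hYA : Y ≤ A)
    (hX : ∀ σ ∈ Γ, ∀ k ∈ X, σ k ∈ X) (hY : ∀ σ ∈ Γ, ∀ k ∈ Y, σ k ∈ Y) (hYne : Y ≠ ⊥)
    (hc : ∀ a ∈ X, ∀ b ∈ Y, a * b = b * a) {u t : Q} (hu : u ∈ X) (hu1 : u ≠ 1) (ht : t * u = u * t) : t ∈ A := by
  by_contra htA
  have h1 := inf_cj_eq_bot h hXA hYA hX hY hYne hc htA
  apply hu1
  rw [← mem_bot, ← h1]
  refine mem_inf.2 ⟨hu, mem_cj.2 ?_⟩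
  rw [mul_assoc, ← ht, inv_mul_cancel_left]
  exact hXA hu

/-- the centralizer in `A` of a `Γ`-invariant subgroup is `Γ`-invariant -/
theorem centralizer_inv (h : EPT A Γ) {X : Subgroup Q} (hX : ∀ σ ∈ Γ, ∀ k ∈ X, σ k ∈ X) :
    ∀ σ ∈ Γ, ∀ k ∈ A ⊓ centralizer (X : Set Q), σ k ∈ A ⊓ centralizer (X : Set Q) := by
  intro σ hσ k hk
  refine mem_inf.2 ⟨(h.inv σ hσ k).2 (mem_inf.1 hk).1, ?_⟩
  rw [mem_centralizer_iff]
  intro x hx
  have h1 := mem_centralizer_iff.1 (mem_inf.1 hk).2 _ (hX σ⁻¹ (inv_mem hσ) x hx)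
  have h2 := congrArg σ h1
  rwa [map_mul, map_mul, MulAut.apply_inv_self] at h2

/-- **Kill criterion for a commuting element**: some `1 ≠ z ∈ A` commutes with all `g ∈ A` with `g ^ p = 1`. -/
theorem mem_of_comm (h : EPT A Γ) {p : ℕ} {z : Q} (hz : z ∈ A) (hz1 : z ≠ 1)
    (hzc : ∀ g ∈ A, g ^ p = 1 → g * z = z * g) {u t : Q} (hu : u ∈ A) (hup : u ^ p = 1) (hu1 : u ≠ 1)
    (ht : t * u = u * t) : t ∈ A := by
  set X : Subgroup Q := closure {g | g ∈ A ∧ g ^ p = 1} with hXdef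
  have hXA : X ≤ A := (closure_le A).2 fun g hg => hg.1
  have hX : ∀ σ ∈ Γ, ∀ k ∈ X, σ k ∈ X := by
    intro σ hσ
    have h1 : X ≤ X.comap σ.toMonoidHom := by
      rw [hXdef, closure_le]
      rintro g ⟨hg, hgp⟩
      exact subset_closure ⟨(h.inv σ hσ g).2 hg, by
        change (σ g) ^ p = 1
        rw [← map_pow, hgp, map_one]⟩
    exact fun k hk => h1 hk
  have hzX : z ∈ centralizer (X : Set Q) := by
    have h1 : X ≤ centralizer ({z} : Set Q) := by
      rw [hXdef, closure_le]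
      rintro g ⟨hg, hgp⟩
      exact mem_centralizer_singleton_iff.2 (hzc g hg hgp)
    rw [mem_centralizer_iff]
    intro x hx
    exact mem_centralizer_singleton_iff.1 (h1 hx)
  refine mem_of_comm' h hXA (inf_le_left : A ⊓ centralizer (X : Set Q) ≤ A) hX (centralizer_inv h hX) ?_ ?_
    (subset_closure ⟨hu, hup⟩) hu1 ht
  · intro h1
    apply hz1
    rw [← mem_bot, ← h1]
    exact mem_inf.2 ⟨hz, hzX⟩
  · intro a ha b hb
    exact mem_centralizer_iff.1 (mem_inf.1 hb).2 a ha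

end Cfsg.Agent.H681.EP
end

-- part: H729/EPM/Crude
section
set_option linter.all false
open scoped Cfsg.Agent.FastGrp

/-!
# S3499: a crude bound for the order (helper729)

`crude` : if `|A|` divides `N` and `N` has at most `k + 1` prime factors (with multiplicity) then `|Q| ≤ N ^ (2 k + 1)`
(every proper subgroup of `A` is generated by `k` elements).
-/

set_option autoImplicit false

namespace Cfsg.Agent.H729.EPM

open Subgroup Cfsg.Agent.H284

theorem exists_gen {G : Type*} [Group G] [Finite G] (k : ℕ) :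
    ∀ H : Subgroup G, ArithmeticFunction.cardFactors H.index ≤ k → ∃ f : Fin k → G, H ⊔ closure (Set.range f) = ⊤ := by
  induction k with
  | zero =>
    intro H h
    refine ⟨Fin.elim0, ?_⟩
    have h1 : H.index = 1 := by
      rcases ArithmeticFunction.cardFactors_eq_zero_iff_eq_zero_or_one.1 (Nat.le_zero.1 h) with h2 | h2
      · exact absurd h2 H.index_ne_zero_of_finite
      · exact h2
    rw [index_eq_one.1 h1, top_sup_eq]
  | succ k ih =>
    intro H h
    by_cases hH : H = ⊤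
    · exact ⟨fun _ => 1, by rw [hH, top_sup_eq]⟩
    · obtain ⟨g, hg⟩ : ∃ g, g ∉ H := by
        by_contra hcon
        push Not at hcon
        exact hH ((eq_top_iff' H).2 hcon)
      have hle : H ≤ H ⊔ zpowers g := le_sup_left
      have hmul := relIndex_mul_index hle
      have h0 : (H ⊔ zpowers g).index ≠ 0 := index_ne_zero_of_finite
      have h0' : H.relIndex (H ⊔ zpowers g) ≠ 0 := by
        intro h0'
        rw [h0', zero_mul] at hmul
        exact H.index_ne_zero_of_finite hmul.symm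
      have h1 : H.relIndex (H ⊔ zpowers g) ≠ 1 := by
        intro h1
        rw [relIndex_eq_one] at h1
        exact hg (h1 (mem_sup_right (mem_zpowers g)))
      have h2 : 1 ≤ ArithmeticFunction.cardFactors (H.relIndex (H ⊔ zpowers g)) := by
        by_contra hcon
        rcases ArithmeticFunction.cardFactors_eq_zero_iff_eq_zero_or_one.1 (by omega : ArithmeticFunction.cardFactors (H.relIndex (H ⊔ zpowers g)) = 0) with h3 | h3
        · exact h0' h3
        · exact h1 h3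
      rw [← hmul, ArithmeticFunction.cardFactors_mul h0' h0] at h
      obtain ⟨f, hf⟩ := ih (H ⊔ zpowers g) (by omega)
      refine ⟨Fin.cons g f, ?_⟩
      rw [Fin.range_cons, Set.insert_eq, Subgroup.closure_union, ← zpowers_eq_closure, ← sup_assoc]
      exact hf

theorem exists_closure {G : Type*} [Group G] [Finite G] {M : Subgroup G} {k : ℕ}
    (h : ArithmeticFunction.cardFactors (Nat.card M) ≤ k) : ∃ f : Fin k → M, M = closure (Set.range fun i => (f i : G)) := by
  obtain ⟨f, hf⟩ := exists_gen k (⊥ : Subgroup M) (by rwa [index_bot])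
  refine ⟨f, ?_⟩
  rw [bot_sup_eq] at hf
  have h1 := congrArg (Subgroup.map M.subtype) hf
  rw [MonoidHom.map_closure, ← MonoidHom.range_eq_map, range_subtype, ← Set.range_comp] at h1
  exact h1.symm

theorem cardFactors_lt {a b : ℕ} (hb : b ≠ 0) (h : a ∣ b) (hne : a ≠ b) :
    ArithmeticFunction.cardFactors a < ArithmeticFunction.cardFactors b := by
  obtain ⟨c, rfl⟩ := h
  have ha : a ≠ 0 := left_ne_zero_of_mul hb
  have hc : c ≠ 0 := right_ne_zero_of_mul hb
  rw [ArithmeticFunction.cardFactors_mul ha hc]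
  have h1 : c ≠ 1 := by
    rintro rfl
    exact hne (mul_one a).symm
  have h2 : ArithmeticFunction.cardFactors c ≠ 0 := by
    intro h3
    rcases ArithmeticFunction.cardFactors_eq_zero_iff_eq_zero_or_one.1 h3 with h4 | h4
    · exact hc h4
    · exact h1 h4
  omega

theorem cardFactors_le {a b : ℕ} (hb : b ≠ 0) (h : a ∣ b) :
    ArithmeticFunction.cardFactors a ≤ ArithmeticFunction.cardFactors b := by
  by_cases hne : a = b
  · rw [hne]
  · exact (cardFactors_lt hb h hne).le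

/-- the number of proper subgroups -/
theorem ncard_lt_le {Q : Type*} [Group Q] [Finite Q] {A : Subgroup Q} {k : ℕ}
    (hk : ArithmeticFunction.cardFactors (Nat.card A) ≤ k + 1) : {M : Subgroup Q | M < A}.ncard ≤ Nat.card A ^ k := by
  let Φ : (Fin k → A) → Subgroup Q := fun f => closure (Set.range fun i => (f i : Q))
  have h1 : {M : Subgroup Q | M < A} ⊆ Φ '' Set.univ := by
    intro M hM
    have hMA : M < A := hM
    have h2 : ArithmeticFunction.cardFactors (Nat.card M) < ArithmeticFunction.cardFactors (Nat.card A) := by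
      apply cardFactors_lt Nat.card_pos.ne' (Subgroup.card_dvd_of_le hMA.le)
      intro h3
      exact hMA.ne (Subgroup.eq_of_le_of_card_ge hMA.le h3.ge)
    obtain ⟨f, hf⟩ := exists_closure (M := M) (k := k) (by omega)
    exact ⟨fun i => ⟨f i, hMA.le (f i).2⟩, Set.mem_univ _, hf.symm⟩
  calc {M : Subgroup Q | M < A}.ncard ≤ (Φ '' Set.univ).ncard := Set.ncard_le_ncard h1 (Set.toFinite _)
    _ ≤ (Set.univ : Set (Fin k → A)).ncard := Set.ncard_image_le (Set.toFinite _)
    _ = Nat.card A ^ k := by rw [Set.ncard_univ, Nat.card_fun, Nat.card_eq_fintype_card (α := Fin k), Fintype.card_fin]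

variable {Q : Type*} [Group Q] [Finite Q] {A : Subgroup Q} {Γ : Subgroup (MulAut Q)}

/-- **The crude bound**: `|Q : A| ≤ |A| ^ (2 k)` if `|A|` has at most `k + 1` prime factors. -/
theorem index_le_crude (h : EPT A Γ) {k : ℕ} (hk : ArithmeticFunction.cardFactors (Nat.card A) ≤ k + 1) :
    A.index ≤ (Nat.card A ^ k) ^ 2 := by
  refine h.index_le.trans (Nat.pow_le_pow_left ?_ 2)
  refine le_trans (Set.ncard_le_ncard ?_ (Set.toFinite _)) (ncard_lt_le hk)
  rintro M ⟨x, hx, rfl⟩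
  have hle : A ⊓ cj x A ≤ A := inf_le_left
  refine lt_of_le_of_ne hle fun e => hx ?_
  have h1 : ∀ a ∈ A, x⁻¹ * a * x ∈ A := fun a ha => by
    have h2 : a ∈ A ⊓ cj x A := by rw [e]; exact ha
    exact mem_cj.1 (mem_inf.1 h2).2
  have h2 := h.selfnorm x⁻¹ (fun a ha => by rw [inv_inv]; exact h1 a ha)
  exact (A.inv_mem_iff).1 h2

/-- the order of `Q` -/
theorem crude (h : EPT A Γ) {N k : ℕ} (hN0 : N ≠ 0) (hN : Nat.card A ∣ N) (hk : ArithmeticFunction.cardFactors N ≤ k + 1) :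
    Nat.card Q ≤ N * (N ^ k) ^ 2 := by
  have h1 := index_le_crude h (k := k) ((cardFactors_le hN0 hN).trans hk)
  have h2 := Nat.le_of_dvd (Nat.pos_of_ne_zero hN0) hN
  rw [← A.card_mul_index]
  exact Nat.mul_le_mul h2 (h1.trans (Nat.pow_le_pow_left (Nat.pow_le_pow_left h2 k) 2))

end Cfsg.Agent.H729.EPM
end

-- part: H458/EP/Norm
section
prune_inst 0x4502444600000000818859631203c62be0004b2004b0800c0830a420ec9ec2269872e61b2b021174a908cd560390060020000804068000004200c00011d018010800200a14c0000020086000080000000000000000000000000000000010000200000002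
set_option linter.all false
open scoped Cfsg.Agent.FastGrp

/-!
# S3499: the kill criterion `N_A(M0) = M0` and its form for the similarity groups of forms (helper458)

* `kill_norm` : `M̂0 = Â ∩ Â^x`; every `g ∈ Â` which normalises `M̂0` lies in `Â^x`.
* `sim_row` : `Â = similarityGroup f ∩ S`, `x ∈ S` with `f(xu, xv) = f(cu, v)`, `g₀ ∈ Â` with `c g₀ c = l g₀`, `c²` not a
  scalar: `False`. (`f` bilinear or sesquilinear, linear in the first argument.)
-/

set_option autoImplicit false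

namespace Cfsg.Agent.H458.EP

open Subgroup Cfsg.Agent.H284 Cfsg.Agent.H419.EP Cfsg.Geo Matrix
open scoped MatrixGroups

section kill

variable {Q : Type*} [Group Q] [Finite Q] {A : Subgroup Q} {Γ : Subgroup (MulAut Q)} (h : EPT A Γ)
variable {ι : Type} [Fintype ι] [DecidableEq ι] {F : Type*} [Field F] {S : Subgroup (GL ι F)} (m : Model Q S)

include h

/-- **Kill criterion `N_A(M0) = M0`**: for `x ∈ S`, `x ∉ Â`, every `g ∈ Â` which normalises `Â ∩ Â^x` lies in `Â^x`. -/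
theorem kill_norm {x : GL ι F} (hxS : x ∈ S) (hx : x ∉ m.hat A) {g : GL ι F} (hg : g ∈ m.hat A)
    (hgK : ∀ k ∈ m.hat A, k ∈ cj x (m.hat A) → g * k * g⁻¹ ∈ cj x (m.hat A)) : g ∈ cj x (m.hat A) := by
  have hx' : m.π ⟨x, hxS⟩ ∉ A := fun e => hx ((m.mem_hat_iff ⟨x, hxS⟩).2 e)
  obtain ⟨hgS, hgA⟩ := m.mem_hat.1 hg
  have key : m.π ⟨g, hgS⟩ ∈ cj (m.π ⟨x, hxS⟩) A := by
    refine h.norm_aut hx' (K := A ⊓ cj (m.π ⟨x, hxS⟩) A) le_rfl (fun σ hσ => hσ) (h.M0 _ hx') hgA ?_
    intro k hk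
    obtain ⟨s, rfl⟩ := m.surj k
    have h1 : (s : GL ι F) ∈ m.hat A := (m.mem_hat_iff s).2 (mem_inf.1 hk).1
    have h2 : (s : GL ι F) ∈ cj x (m.hat A) := by
      rw [← m.hat_cj A ⟨x, hxS⟩]
      exact (m.mem_hat_iff s).2 (mem_inf.1 hk).2
    have h3 := hgK _ h1 h2
    rw [← m.hat_cj A ⟨x, hxS⟩] at h3
    have h4 : (((⟨g, hgS⟩ * s * ⟨g, hgS⟩⁻¹ : S)) : GL ι F) ∈ m.hat (cj (m.π ⟨x, hxS⟩) A) := h3
    have h5 := (m.mem_hat_iff _).1 h4
    rw [map_mul, map_mul, map_inv] at h5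
    exact ⟨A.mul_mem (A.mul_mem hgA (mem_inf.1 hk).1) (A.inv_mem hgA), h5⟩
  rw [← m.hat_cj A ⟨x, hxS⟩]
  exact m.mem_hat.2 ⟨hgS, key⟩

omit h in
/-- `Â = M ∩ S` if `Â ≤ M` and `S` is not contained in `M` -/
theorem hat_eq {M : Subgroup (GL ι F)} (hmax : IsCoatom A) (hA : m.hat A ≤ M) (hS : ¬ S ≤ M) : m.hat A = M ⊓ S := by
  rcases (m.isMaximalIn hmax).2 (M ⊓ S) (le_inf hA (m.hat_le A)) inf_le_right with h1 | h1
  · exact h1.symm
  · exact absurd (inf_eq_right.1 h1) hS

end kill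

section forms

variable {ι : Type} [Fintype ι] [DecidableEq ι] {F : Type*} [Field F] {f : (ι → F) → (ι → F) → F}

theorem eq_of_form (hadd : ∀ x y v, f (x + y) v = f x v + f y v) (hsmul : ∀ (c : F) (x v : ι → F), f (c • x) v = c * f x v)
    (hnd : IsNondegenerateForm f) {u w : ι → F} (h : ∀ v, f u v = f w v) : u = w := by
  by_contra hne
  obtain ⟨-, x, hx⟩ := hnd (u - w) (sub_ne_zero.2 hne)
  apply hx
  rw [sub_eq_add_neg, ← neg_one_smul F w, hadd, hsmul, h x]
  ring

/-- the elements of `Â ∩ Â^{x⁻¹}` commute with `c` up to a scalar -/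
theorem sim_iff (hadd : ∀ x y v, f (x + y) v = f x v + f y v) (hsmul : ∀ (c : F) (x v : ι → F), f (c • x) v = c * f x v)
    (hnd : IsNondegenerateForm f) {x c : GL ι F}
    (hx : ∀ u v, f ((x : Matrix ι ι F) *ᵥ u) ((x : Matrix ι ι F) *ᵥ v) = f ((c : Matrix ι ι F) *ᵥ u) v) {g : GL ι F}
    (hg : g ∈ similarityGroup f) :
    g ∈ cj x⁻¹ (similarityGroup f) ↔
      ∃ l : F, l ≠ 0 ∧ (c : Matrix ι ι F) * (g : Matrix ι ι F) = l • ((g : Matrix ι ι F) * (c : Matrix ι ι F)) := by
  obtain ⟨ν, hν⟩ := hg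
  have hxx : ∀ u : ι → F, ((x⁻¹ : GL ι F) : Matrix ι ι F) *ᵥ ((x : Matrix ι ι F) *ᵥ u) = u := by
    intro u
    rw [Matrix.mulVec_mulVec, ← Units.val_mul, inv_mul_cancel, Units.val_one, Matrix.one_mulVec]
  have hxx' : ∀ u : ι → F, (x : Matrix ι ι F) *ᵥ (((x⁻¹ : GL ι F) : Matrix ι ι F) *ᵥ u) = u := by
    intro u
    rw [Matrix.mulVec_mulVec, ← Units.val_mul, mul_inv_cancel, Units.val_one, Matrix.one_mulVec]
  have hgg' : ∀ u : ι → F, (g : Matrix ι ι F) *ᵥ (((g⁻¹ : GL ι F) : Matrix ι ι F) *ᵥ u) = u := by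
    intro u
    rw [Matrix.mulVec_mulVec, ← Units.val_mul, mul_inv_cancel, Units.val_one, Matrix.one_mulVec]
  have hco : ((x⁻¹⁻¹ * g * x⁻¹ : GL ι F) : Matrix ι ι F) = (x : Matrix ι ι F) * (g : Matrix ι ι F) *
      ((x⁻¹ : GL ι F) : Matrix ι ι F) := by
    rw [inv_inv]
    rfl
  rw [mem_cj]
  constructor
  · rintro ⟨μ, hμ⟩
    refine ⟨(μ : F) * (ν : F)⁻¹, mul_ne_zero μ.ne_zero (inv_ne_zero ν.ne_zero), ?_⟩
    have h1 : ∀ u : ι → F, (c : Matrix ι ι F) *ᵥ ((g : Matrix ι ι F) *ᵥ u) =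
        ((μ : F) * (ν : F)⁻¹) • ((g : Matrix ι ι F) *ᵥ ((c : Matrix ι ι F) *ᵥ u)) := by
      intro u
      apply eq_of_form hadd hsmul hnd
      intro v
      have h2 := hμ ((x : Matrix ι ι F) *ᵥ u) ((x : Matrix ι ι F) *ᵥ (((g⁻¹ : GL ι F) : Matrix ι ι F) *ᵥ v))
      rw [hco, ← Matrix.mulVec_mulVec, ← Matrix.mulVec_mulVec, hxx, ← Matrix.mulVec_mulVec, ← Matrix.mulVec_mulVec, hxx, hgg',
        hx, hx] at h2
      have h3 := hν ((c : Matrix ι ι F) *ᵥ u) (((g⁻¹ : GL ι F) : Matrix ι ι F) *ᵥ v)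
      rw [hgg'] at h3
      rw [h2, hsmul, h3]
      have := ν.ne_zero
      field_simp
    apply Matrix.toLin'.injective
    apply LinearMap.ext
    intro u
    rw [Matrix.toLin'_apply, Matrix.toLin'_apply, ← Matrix.mulVec_mulVec, h1, Matrix.smul_mulVec, ← Matrix.mulVec_mulVec]
  · rintro ⟨l, hl, hc⟩
    refine ⟨Units.mk0 (l * ν) (mul_ne_zero hl ν.ne_zero), fun u v => ?_⟩
    rw [hco, ← Matrix.mulVec_mulVec, ← Matrix.mulVec_mulVec, ← Matrix.mulVec_mulVec, ← Matrix.mulVec_mulVec, hx,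
      Matrix.mulVec_mulVec, hc, Matrix.smul_mulVec, hsmul, ← Matrix.mulVec_mulVec, hν, Units.val_mk0]
    have h4 := hx (((x⁻¹ : GL ι F) : Matrix ι ι F) *ᵥ u) (((x⁻¹ : GL ι F) : Matrix ι ι F) *ᵥ v)
    rw [hxx', hxx'] at h4
    rw [h4]
    ring

variable {Q : Type*} [Group Q] [Finite Q] {A : Subgroup Q} {Γ : Subgroup (MulAut Q)}

/-- **The kill for similarity groups.** -/
theorem sim_row (h : EPT A Γ) {S : Subgroup (GL ι F)} (m : Model Q S) (hadd : ∀ x y v, f (x + y) v = f x v + f y v)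
    (hsmul : ∀ (c : F) (x v : ι → F), f (c • x) v = c * f x v) (hnd : IsNondegenerateForm f)
    (hA : m.hat A = similarityGroup f ⊓ S) {x c : GL ι F} (hxS : x ∈ S)
    (hx : ∀ u v, f ((x : Matrix ι ι F) *ᵥ u) ((x : Matrix ι ι F) *ᵥ v) = f ((c : Matrix ι ι F) *ᵥ u) v) {g : GL ι F}
    (hg : g ∈ similarityGroup f) (hgS : g ∈ S) {l0 : F} (hl0 : l0 ≠ 0)
    (hcg : (c : Matrix ι ι F) * (g : Matrix ι ι F) * (c : Matrix ι ι F) = l0 • (g : Matrix ι ι F))
    (hcc : ∀ l : F, (c : Matrix ι ι F) * (c : Matrix ι ι F) ≠ l • (1 : Matrix ι ι F)) : False := by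
  have hxM : x⁻¹ ∉ m.hat A := by
    intro hmem
    rw [hA] at hmem
    obtain ⟨μ, hμ⟩ := (similarityGroup f).inv_mem (mem_inf.1 hmem).1
    rw [inv_inv] at hμ
    have h1 : (c : Matrix ι ι F) = (μ : F) • (1 : Matrix ι ι F) := by
      apply Matrix.toLin'.injective
      apply LinearMap.ext
      intro u
      rw [Matrix.toLin'_apply, Matrix.toLin'_apply, Matrix.smul_mulVec, Matrix.one_mulVec]
      apply eq_of_form hadd hsmul hnd
      intro v
      rw [← hx, hμ, hsmul]
    apply hcc ((μ : F) * μ)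
    rw [h1, Matrix.smul_mul, Matrix.one_mul, smul_smul]
  have hgA : g ∈ m.hat A := by
    rw [hA]
    exact ⟨hg, hgS⟩
  -- inverses
  set C : Matrix ι ι F := (c : Matrix ι ι F) with hC
  set G : Matrix ι ι F := (g : Matrix ι ι F) with hG
  set C' : Matrix ι ι F := ((c⁻¹ : GL ι F) : Matrix ι ι F) with hC'
  set G' : Matrix ι ι F := ((g⁻¹ : GL ι F) : Matrix ι ι F) with hG'
  have cc' : C * C' = 1 := by rw [hC, hC', ← Units.val_mul, mul_inv_cancel, Units.val_one]
  have c'c : C' * C = 1 := by rw [hC, hC', ← Units.val_mul, inv_mul_cancel, Units.val_one]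
  have gg' : G * G' = 1 := by rw [hG, hG', ← Units.val_mul, mul_inv_cancel, Units.val_one]
  have g'g : G' * G = 1 := by rw [hG, hG', ← Units.val_mul, inv_mul_cancel, Units.val_one]
  have e1 : C * G = l0 • (G * C') := by
    calc C * G = (C * G * C) * C' := by rw [Matrix.mul_assoc (C * G), cc', Matrix.mul_one]
      _ = l0 • (G * C') := by rw [hcg, Matrix.smul_mul]
  have e2 : C' * G' = l0⁻¹ • (G' * C) := by
    have h1 : G' * C = l0 • (C' * G') := by
      calc G' * C = G' * (C * G) * G' := by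
            rw [Matrix.mul_assoc, Matrix.mul_assoc C, gg', Matrix.mul_one]
        _ = l0 • (C' * G') := by
            rw [e1, Matrix.mul_smul, Matrix.smul_mul, ← Matrix.mul_assoc, g'g, Matrix.one_mul]
    rw [h1, smul_smul, inv_mul_cancel₀ hl0, one_smul]
  have key : g ∈ cj x⁻¹ (m.hat A) := by
    refine kill_norm h m (S.inv_mem hxS) hxM hgA ?_
    intro k hk hkx
    rw [hA] at hk hkx ⊢
    have hk1 := (mem_inf.1 hk).1
    have hkx1 : k ∈ cj x⁻¹ (similarityGroup f) := by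
      rw [mem_cj] at hkx ⊢
      exact (mem_inf.1 hkx).1
    obtain ⟨l, hl, e3⟩ := (sim_iff hadd hsmul hnd hx hk1).1 hkx1
    have hk2 : g * k * g⁻¹ ∈ similarityGroup f :=
      (similarityGroup f).mul_mem ((similarityGroup f).mul_mem hg hk1) ((similarityGroup f).inv_mem hg)
    have h5 : g * k * g⁻¹ ∈ cj x⁻¹ (similarityGroup f) := by
      refine (sim_iff hadd hsmul hnd hx hk2).2 ⟨l⁻¹, inv_ne_zero hl, ?_⟩
      have hco : ((g * k * g⁻¹ : GL ι F) : Matrix ι ι F) = G * (k : Matrix ι ι F) * G' := rfl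
      rw [hco, ← hC]
      rw [← hC] at e3
      set K : Matrix ι ι F := (k : Matrix ι ι F) with hK
      have e4 : C' * K = l⁻¹ • (K * C') := by
        have h1 : K * C' = l • (C' * K) := by
          calc K * C' = C' * (C * K) * C' := by
                rw [← Matrix.mul_assoc, c'c, Matrix.one_mul]
            _ = l • (C' * K) := by
                rw [e3, Matrix.mul_smul, Matrix.smul_mul, ← Matrix.mul_assoc, Matrix.mul_assoc, cc', Matrix.mul_one]
        rw [h1, smul_smul, inv_mul_cancel₀ hl, one_smul]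
      calc C * (G * K * G') = (C * G) * K * G' := by simp only [Matrix.mul_assoc]
        _ = l0 • (G * (C' * K) * G') := by rw [e1]; simp only [Matrix.smul_mul, Matrix.mul_assoc]
        _ = (l0 * l⁻¹) • (G * K * (C' * G')) := by
            rw [e4]
            simp only [Matrix.smul_mul, Matrix.mul_smul, Matrix.mul_assoc, smul_smul]
        _ = (l0 * l⁻¹ * l0⁻¹) • (G * K * G' * C) := by
            rw [e2]
            simp only [Matrix.mul_smul, Matrix.mul_assoc, smul_smul]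
        _ = l⁻¹ • (G * K * G' * C) := by
            congr 1
            field_simp
    rw [mem_cj] at h5 ⊢
    refine ⟨h5, ?_⟩
    have hkS := (mem_inf.1 hk).2
    rw [inv_inv]
    exact S.mul_mem (S.mul_mem hxS (S.mul_mem (S.mul_mem hgS hkS) (S.inv_mem hgS))) (S.inv_mem hxS)
  rw [hA] at key
  have key1 : g ∈ cj x⁻¹ (similarityGroup f) := by
    rw [mem_cj] at key ⊢
    exact (mem_inf.1 key).1
  obtain ⟨l, hl, e3⟩ := (sim_iff hadd hsmul hnd hx hg).1 key1
  rw [← hC, ← hG] at e3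
  have e5 : l • (G * (C * C)) = l0 • G := by
    rw [← hcg, e3, Matrix.smul_mul, Matrix.mul_assoc]
  apply hcc (l0 * l⁻¹)
  have e6 : G * (C * C) = (l0 * l⁻¹) • G := by
    calc G * (C * C) = l⁻¹ • (l • (G * (C * C))) := by rw [smul_smul, inv_mul_cancel₀ hl, one_smul]
      _ = (l0 * l⁻¹) • G := by rw [e5, smul_smul, mul_comm]
  calc C * C = G' * (G * (C * C)) := by rw [← Matrix.mul_assoc, g'g, Matrix.one_mul]
    _ = (l0 * l⁻¹) • (1 : Matrix ι ι F) := by rw [e6, Matrix.mul_smul, g'g]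

end forms

end Cfsg.Agent.H458.EP
end

-- part: H96/C5/Crit
section
prune_inst 0x502444702200000018858431203c62fe0005b200680801c8020b4006c9ed2260c70921b6a031160a1aaa5520390060030000c04068000004000c00011c018010880204a048a000000080008080000000000000000000000000000000010004200000002
set_option linter.all false
open scoped Cfsg.Agent.FastGrp

/-!
# S3499, subfield classes: the criteria (helper96)

* `kill_norm` : `g ∈ Â` normalises `Â ∩ Â^x` and `g ∉ Â^x`: impossible;
* `Phi φ B` : the field automorphism `φ` with respect to the basis `B`;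
* `mem_iff` : `subfieldSubgroup F₁ B = {g | Phi φ B g ∈ g * scalars}`;
* `kill_subfield` : `Â ≤ subfieldSubgroup F₁ B` is impossible if `x, g ∈ S`, `g ∈ subfieldSubgroup F₁ B`,
  `g x g⁻¹ = x⁻¹`, `x` commutes with `Phi φ B x` and `x ^ 2 ∉ subfieldSubgroup F₁ B`.
-/

set_option autoImplicit false
set_option linter.unusedSectionVars false

namespace Cfsg.Agent.H96.C5

open Subgroup Cfsg.Geo Cfsg.Agent.H284 Cfsg.Agent.H419.EP
open scoped MatrixGroups Matrix

section norm

variable {Q : Type*} [Group Q] [Finite Q] {A : Subgroup Q} {Γ : Subgroup (MulAut Q)} (h : EPT A Γ)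
variable {ι : Type} [Fintype ι] [DecidableEq ι] {F : Type*} [Field F] {S : Subgroup (GL ι F)} (m : Model Q S)

include h

/-- **`M̂0 = Â ∩ Â^x` is its own normaliser in `Â`.** -/
theorem kill_norm {x g : GL ι F} (hxS : x ∈ S) (hx : x ∉ m.hat A) (hg : g ∈ m.hat A)
    (hgx : g ∉ cj x (m.hat A)) (hn : ∀ a ∈ m.hat A ⊓ cj x (m.hat A), g * a * g⁻¹ ∈ cj x (m.hat A)) : False := by
  apply hgx
  refine kill_char h m hxS hx (m.hat A ⊓ cj x (m.hat A)) le_rfl ?_ ?_ hg ?_
  · intro hle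
    obtain ⟨s, hs, hs'⟩ := exists_nonscalar h m hxS hx
    exact hs' (hle hs)
  · have h1 : (((m.hat A ⊓ cj x (m.hat A)).subgroupOf S).map m.π).subgroupOf (A ⊓ cj (m.π ⟨x, hxS⟩) A) = ⊤ := by
      rw [← M0_eq_map m hxS]
      exact subgroupOf_self _
    rw [h1]
    infer_instance
  · intro k hk
    exact ⟨(m.hat A).mul_mem ((m.hat A).mul_mem hg hk.1) ((m.hat A).inv_mem hg), hn k hk⟩

end norm

section Phi

variable {ι : Type} [Fintype ι] [DecidableEq ι] {F : Type*} [Field F]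

/-- the automorphism of `GL` given by `φ` and the basis `B` -/
def Phi (φ : F →+* F) (B : GL ι F) : GL ι F →* GL ι F :=
  (MulAut.conj B).toMonoidHom.comp ((Matrix.GeneralLinearGroup.map φ).comp (MulAut.conj B⁻¹).toMonoidHom)

theorem Phi_apply (φ : F →+* F) (B g : GL ι F) :
    Phi φ B g = B * Matrix.GeneralLinearGroup.map φ (B⁻¹ * g * B) * B⁻¹ := by
  show B * Matrix.GeneralLinearGroup.map φ (B⁻¹ * g * B⁻¹⁻¹) * B⁻¹ = _
  rw [inv_inv]

/-- the fixed field of a power of the Frobenius automorphism -/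
theorem exists_phi [Finite F] (F₁ : Subfield F) : ∃ φ : F →+* F, ∀ a, a ∈ F₁ ↔ φ a = a := by
  obtain ⟨p, hp⟩ := CharP.exists F
  have hpp : p.Prime := (CharP.char_is_prime_or_zero F p).resolve_right (CharP.char_ne_zero_of_finite F p)
  have : Fact p.Prime := ⟨hpp⟩
  have := Fintype.ofFinite F₁
  have hp1 : CharP F₁ p := (algebraMap F₁ F).charP (algebraMap F₁ F).injective p
  obtain ⟨n, -, hn⟩ := FiniteField.card F₁ p
  refine ⟨iterateFrobenius F p n, fun a => ?_⟩
  rw [Cfsg.Agent.H914.mem_subfield_iff_pow, iterateFrobenius_def, Nat.card_eq_fintype_card, hn]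

variable {F₁ : Subfield F} {φ : F →+* F} (hφ : ∀ a, a ∈ F₁ ↔ φ a = a) {B : GL ι F}

include hφ

theorem mem_iff {g : GL ι F} : g ∈ subfieldSubgroup F₁ B ↔ ∃ z ∈ scalars ι F, Phi φ B g = g * z := by
  rw [Cfsg.Agent.H914.mem_subfieldSubgroup_iff]
  set M : GL ι F := B⁻¹ * g * B with hM
  have hg : g = B * M * B⁻¹ := by rw [hM]; group
  constructor
  · rintro ⟨c, hc0, hc⟩
    have hφc : φ c ≠ 0 := (map_ne_zero φ).2 hc0
    let d : Fˣ := Units.mk0 (c / φ c) (div_ne_zero hc0 hφc)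
    let z : GL ι F := Units.map (Matrix.scalar ι : F →+* Matrix ι ι F).toMonoidHom d
    have hz : z ∈ scalars ι F := ⟨d, rfl⟩
    refine ⟨z, hz, ?_⟩
    have h1 : Matrix.GeneralLinearGroup.map φ M = M * z := by
      apply Units.ext
      ext i j
      have h2 : ((M * z : GL ι F) : Matrix ι ι F) i j = (M : Matrix ι ι F) i j * (c / φ c) := by
        rw [Units.val_mul]
        show ((M : Matrix ι ι F) * Matrix.scalar ι (c / φ c)) i j = _
        rw [Matrix.scalar_apply, Matrix.mul_diagonal]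
      rw [h2]
      show φ ((M : Matrix ι ι F) i j) = _
      have h3 := (hφ _).1 (hc i j)
      rw [map_mul] at h3
      field_simp
      linear_combination h3
    -- z is central
    have hzc : z * B⁻¹ = B⁻¹ * z := by
      apply Units.ext
      rw [Units.val_mul, Units.val_mul]
      exact (Matrix.scalar_commute (c / φ c) (fun r' => mul_comm _ _) _).eq
    calc Phi φ B g = B * (M * z) * B⁻¹ := by rw [Phi_apply, ← hM, h1]
      _ = B * M * (z * B⁻¹) := by group
      _ = B * M * B⁻¹ * z := by rw [hzc]; group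
      _ = g * z := by rw [← hg]
  · rintro ⟨z, hz, hgz⟩
    obtain ⟨d, hd⟩ := (mem_scalars_iff z).1 hz
    have hzc : z * B = B * z := by
      apply Units.ext
      rw [Units.val_mul, Units.val_mul, hd]
      simp
    have h1 : Matrix.GeneralLinearGroup.map φ M = M * z := by
      rw [Phi_apply, ← hM] at hgz
      have h2 : Matrix.GeneralLinearGroup.map φ M = B⁻¹ * (g * z) * B := by
        rw [← hgz]; group
      rw [h2, hM, mul_assoc, mul_assoc, hzc, ← mul_assoc, ← mul_assoc]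
    have h2 : ∀ i j, φ ((M : Matrix ι ι F) i j) = (M : Matrix ι ι F) i j * d := by
      intro i j
      have h3 := congrArg (fun N : GL ι F => (N : Matrix ι ι F) i j) h1
      have h4 : ((M * z : GL ι F) : Matrix ι ι F) i j = (M : Matrix ι ι F) i j * d := by
        rw [Units.val_mul, hd, mul_smul_comm, mul_one, Matrix.smul_apply, smul_eq_mul, mul_comm]
      rw [← h4]
      exact h3
    by_cases hex : ∃ k l, (M : Matrix ι ι F) k l ≠ 0
    · obtain ⟨k, l, hkl⟩ := hex
      refine ⟨((M : Matrix ι ι F) k l)⁻¹, inv_ne_zero hkl, fun i j => ?_⟩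
      rw [hφ, map_mul, map_inv₀, h2, h2]
      have hd0 : (d : F) ≠ 0 := d.ne_zero
      field_simp
    · push Not at hex
      exact ⟨1, one_ne_zero, fun i j => by rw [hex, mul_zero]; exact F₁.zero_mem⟩

/-- **The key computation.** -/
theorem key {x a : GL ι F} (hc : Phi φ B x * x = x * Phi φ B x) (ha : a ∈ subfieldSubgroup F₁ B)
    (hax : x⁻¹ * a * x ∈ subfieldSubgroup F₁ B) : x * a * x⁻¹ ∈ subfieldSubgroup F₁ B := by
  rw [mem_iff hφ] at ha hax ⊢
  obtain ⟨z₁, hz₁, h1⟩ := ha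
  obtain ⟨z₂, hz₂, h2⟩ := hax
  rw [map_mul, map_mul, map_inv, h1] at h2
  set y := Phi φ B x with hy
  have hcomm : ∀ {z : GL ι F}, z ∈ scalars ι F → ∀ b : GL ι F, z * b = b * z := by
    intro z hz b
    obtain ⟨d, hd⟩ := (mem_scalars_iff z).1 hz
    apply Units.ext
    rw [Units.val_mul, Units.val_mul, hd]
    simp
  refine ⟨z₁ * z₁ * z₂⁻¹, (scalars ι F).mul_mem ((scalars ι F).mul_mem hz₁ hz₁) ((scalars ι F).inv_mem hz₂), ?_⟩
  rw [map_mul, map_mul, map_inv, h1]
  show y * (a * z₁) * y⁻¹ = x * a * x⁻¹ * (z₁ * z₁ * z₂⁻¹)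
  -- `y⁻¹ a z₁ y = x⁻¹ a x z₂`
  have e1 : y⁻¹ * a * y = x⁻¹ * a * x * (z₂ * z₁⁻¹) := by
    have e2 : y⁻¹ * (a * z₁) * y = y⁻¹ * a * y * z₁ := by
      rw [mul_assoc y⁻¹ (a * z₁) y, mul_assoc a z₁ y, hcomm hz₁ y]
      group
    rw [e2] at h2
    rw [← mul_assoc, ← h2]
    group
  -- `a` commutes with `w = y x⁻¹` modulo scalars
  have hyx : y * x⁻¹ = x⁻¹ * y := by
    rw [mul_inv_eq_iff_eq_mul, mul_assoc, hc]
    group
  set s := z₂ * z₁⁻¹ with hs
  have hsS : s ∈ scalars ι F := (scalars ι F).mul_mem hz₂ ((scalars ι F).inv_mem hz₁)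
  -- a = (y x⁻¹) a (y x⁻¹)⁻¹ s
  have e3 : a = (y * x⁻¹) * a * (y * x⁻¹)⁻¹ * s := by
    have e4 : a = y * (x⁻¹ * a * x * s) * y⁻¹ := by
      rw [← e1]; group
    have e5 : y * (x⁻¹ * a * x * s) * y⁻¹ = (y * x⁻¹) * a * x * (s * y⁻¹) := by group
    rw [e5, hcomm hsS] at e4
    rw [mul_inv_rev, inv_inv]
    calc a = (y * x⁻¹) * a * x * (y⁻¹ * s) := e4
      _ = y * x⁻¹ * a * (x * y⁻¹) * s := by group
  have e6 : (y * x⁻¹) * a * (y * x⁻¹)⁻¹ = a * s⁻¹ := by
    rw [eq_mul_inv_iff_mul_eq]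
    exact e3.symm
  have e7 : y * a * y⁻¹ = x * a * x⁻¹ * s⁻¹ := by
    have e8 : y = x * (y * x⁻¹) := by
      rw [hyx]; group
    calc y * a * y⁻¹ = x * ((y * x⁻¹) * a * (y * x⁻¹)⁻¹) * x⁻¹ := by
          conv_lhs => rw [e8]
          group
      _ = x * (a * s⁻¹) * x⁻¹ := by rw [e6]
      _ = x * a * (s⁻¹ * x⁻¹) := by group
      _ = x * a * (x⁻¹ * s⁻¹) := by rw [hcomm ((scalars ι F).inv_mem hsS)]
      _ = x * a * x⁻¹ * s⁻¹ := by group
  calc y * (a * z₁) * y⁻¹ = y * a * (z₁ * y⁻¹) := by group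
    _ = y * a * (y⁻¹ * z₁) := by rw [hcomm hz₁]
    _ = y * a * y⁻¹ * z₁ := by group
    _ = x * a * x⁻¹ * s⁻¹ * z₁ := by rw [e7]
    _ = x * a * x⁻¹ * (z₁ * z₂⁻¹ * z₁) := by rw [hs]; group
    _ = x * a * x⁻¹ * (z₁ * z₁ * z₂⁻¹) := by
      rw [mul_assoc z₁ z₂⁻¹ z₁, hcomm ((scalars ι F).inv_mem hz₂) z₁]
      group

end Phi

section kill

variable {Q : Type*} [Group Q] [Finite Q] {A : Subgroup Q} {Γ : Subgroup (MulAut Q)} (h : EPT A Γ)
variable {ι : Type} [Fintype ι] [DecidableEq ι] {F : Type*} [Field F] {S : Subgroup (GL ι F)} (m : Model Q S)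

include h

/-- **The kill for the subfield classes.** -/
theorem kill_subfield {F₁ : Subfield F} {φ : F →+* F} (hφ : ∀ a, a ∈ F₁ ↔ φ a = a) {B : GL ι F}
    (hA : m.hat A ≤ subfieldSubgroup F₁ B) {x g : GL ι F} (hxS : x ∈ S) (hgS : g ∈ S)
    (hgM : g ∈ subfieldSubgroup F₁ B) (hgx : g * x * g⁻¹ = x⁻¹) (hc : Phi φ B x * x = x * Phi φ B x)
    (hx2 : x * x ∉ subfieldSubgroup F₁ B) : False := by
  set M := subfieldSubgroup F₁ B with hM
  have hxM : x ∉ M := fun hx => hx2 (M.mul_mem hx hx)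
  have hhat : m.hat A = S ⊓ M := by
    rcases (m.isMaximalIn h.max).2 (S ⊓ M) (le_inf (m.hat_le A) hA) inf_le_left with h1 | h1
    · exact h1.symm
    · exfalso
      apply hxM
      have h2 : x ∈ S ⊓ M := by rw [h1]; exact hxS
      exact h2.2
  have hx : x ∉ m.hat A := fun hx => hxM (hA hx)
  have hg : g ∈ m.hat A := by rw [hhat]; exact ⟨hgS, hgM⟩
  have e0 : x⁻¹ * g = g * x := by
    rw [← hgx]; group
  refine kill_norm h m hxS hx hg ?_ ?_
  · rw [mem_cj]
    intro h1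
    apply hx2
    have e1 : x⁻¹ * g * x = g * (x * x) := by rw [e0]; group
    rw [e1] at h1
    have h2 := M.mul_mem (M.inv_mem hgM) (hA h1)
    rwa [inv_mul_cancel_left] at h2
  · rintro a ⟨ha, hax⟩
    have hax := mem_cj.1 hax
    rw [mem_cj]
    have e1 : x⁻¹ * (g * a * g⁻¹) * x = g * (x * a * x⁻¹) * g⁻¹ := by
      have e2 : g⁻¹ * x = x⁻¹ * g⁻¹ := by
        have e3 := congrArg (fun t => t⁻¹) e0
        simp only [mul_inv_rev, inv_inv] at e3
        exact e3
      calc x⁻¹ * (g * a * g⁻¹) * x = (x⁻¹ * g) * a * (g⁻¹ * x) := by group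
        _ = g * x * a * (x⁻¹ * g⁻¹) := by rw [e0, e2]
        _ = g * (x * a * x⁻¹) * g⁻¹ := by group
    rw [e1]
    have h1 := key hφ hc (hA ha) (hA hax)
    have haS := m.hat_le A ha
    rw [hhat]
    exact ⟨S.mul_mem (S.mul_mem hgS (S.mul_mem (S.mul_mem hxS haS) (S.inv_mem hxS))) (S.inv_mem hgS),
      M.mul_mem (M.mul_mem hgM h1) (M.inv_mem hgM)⟩

end kill

end Cfsg.Agent.H96.C5
end

-- part: H29/EP/Kill
section
prune_inst 0x10000000000002
set_option linter.all false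
open scoped Cfsg.Agent.FastGrp

/-!
# S3499: two kill criteria on the level of the matrix group (helper29)

* `EPT.pgroup` : a normal `p`-subgroup `R` of `A` is abelian and `R ∩ A^x = 1` for `x ∉ A`;
* `kill_p_comm`, `kill_p_conj` : the same for a normal subgroup of `Â` of `p`-elements;
* `kill_norm` : `Â ∩ Â^x` is self-normalising in `Â`.
-/

set_option autoImplicit false

namespace Cfsg.Agent.H29.EP

open Subgroup Cfsg Cfsg.Agent.H284 Cfsg.Agent.H419.EP
open scoped MatrixGroups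

section abstract

variable {Q : Type*} [Group Q] [Finite Q] {A : Subgroup Q} {Γ : Subgroup (MulAut Q)}

/-- the automorphism of `A` induced by an element of `Γ` -/
noncomputable def resAut (h : EPT A Γ) {σ : MulAut Q} (hσ : σ ∈ Γ) : A ≃* A where
  toFun a := ⟨σ a, (h.inv σ hσ a).2 a.2⟩
  invFun a := ⟨σ⁻¹ a, (h.inv σ⁻¹ (inv_mem hσ) a).2 a.2⟩
  left_inv a := Subtype.ext (MulAut.inv_apply_self _ σ a)
  right_inv a := Subtype.ext (MulAut.apply_inv_self _ σ a)
  map_mul' _ _ := Subtype.ext (map_mul σ _ _)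

omit [Finite Q] in
/-- characteristic subgroups of `A` are invariant under `Γ` -/
theorem char_inv (h : EPT A Γ) (K : Subgroup A) [hK : K.Characteristic] {σ : MulAut Q} (hσ : σ ∈ Γ) :
    ∀ k ∈ K.map A.subtype, σ k ∈ K.map A.subtype := by
  rintro _ ⟨k, hk, rfl⟩
  have h1 := (characteristic_iff_map_le.1 hK) (resAut h hσ)
  have h2 : resAut h hσ k ∈ K := h1 ⟨k, hk, rfl⟩
  exact ⟨resAut h hσ k, h2, rfl⟩

/-- **normal `p`-subgroups of `A`** -/
theorem pgroup (h : EPT A Γ) {p : ℕ} [Fact p.Prime] {R : Subgroup Q} (hR : R ≤ A)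
    (hn : ∀ a ∈ A, ∀ r ∈ R, a * r * a⁻¹ ∈ R) (hp : IsPGroup p R) :
    (∀ a ∈ R, ∀ b ∈ R, a * b = b * a) ∧ ∀ x, x ∉ A → R ⊓ cj x A = ⊥ := by
  by_cases hne : R = ⊥
  · subst hne
    refine ⟨?_, fun x _ => bot_inf_eq _⟩
    intro a ha b hb
    rw [mem_bot] at ha hb
    rw [ha, hb]
  set K : Subgroup Q := (pCore p A).map A.subtype with hKdef
  have hRA : R.subgroupOf A ≤ pCore p A := by
    refine Lib.Cores.le_pCore ⟨?_⟩ hp.comap_subtype
    intro r hr a
    rw [mem_subgroupOf] at hr ⊢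
    exact hn a a.2 _ hr
  have hRK : R ≤ K := by
    intro r hr
    exact ⟨⟨r, hR hr⟩, hRA (mem_subgroupOf.2 hr), rfl⟩
  have hKp : IsPGroup p K := (Lib.Cores.pCore_isPGroup p).map _
  have hKn : K ≠ ⊥ := fun e => hne (le_bot_iff.1 (e ▸ hRK))
  have hchar := Lib.Cores.pCore_characteristic (G := A) p
  obtain ⟨h1, -, -, h4, -⟩ := h.nilp K (by rintro _ ⟨k, _, rfl⟩; exact k.2) (fun σ hσ => char_inv h _ hσ)
    hKp.isNilpotent hKn
  refine ⟨fun a ha b hb => h1 a (hRK ha) b (hRK hb), fun x hx => ?_⟩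
  rw [eq_bot_iff, ← (h4 x hx).1]
  exact inf_le_inf_right _ hRK

end abstract

section matrix

variable {Q : Type*} [Group Q] [Finite Q] {A : Subgroup Q} {Γ : Subgroup (MulAut Q)} (h : EPT A Γ)
variable {ι : Type} [Fintype ι] [DecidableEq ι] {F : Type*} [Field F] {S : Subgroup (GL ι F)} (m : Model Q S)

include h

/-- `Â ∩ Â^x` is self-normalising in `Â` -/
theorem kill_norm {x : GL ι F} (hxS : x ∈ S) (hx : x ∉ m.hat A) {p : GL ι F} (hp : p ∈ m.hat A)
    (hn : ∀ g ∈ m.hat A, x⁻¹ * g * x ∈ m.hat A → x⁻¹ * (p * g * p⁻¹) * x ∈ m.hat A) : x⁻¹ * p * x ∈ m.hat A := by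
  rw [← mem_cj (x := x)]
  have hx' : m.π ⟨x, hxS⟩ ∉ A := fun e => hx ((m.mem_hat_iff ⟨x, hxS⟩).2 e)
  obtain ⟨hpS, hpA⟩ := m.mem_hat.1 hp
  have key : m.π ⟨p, hpS⟩ ∈ cj (m.π ⟨x, hxS⟩) A := by
    refine h.norm_aut hx' (K := A ⊓ cj (m.π ⟨x, hxS⟩) A) le_rfl (fun σ hσ => hσ) (h.M0 _ hx') hpA ?_
    intro k hk
    obtain ⟨s, rfl⟩ := m.surj k
    have hs1 : (s : GL ι F) ∈ m.hat A := (m.mem_hat_iff s).2 (mem_inf.1 hk).1
    have hs2 : x⁻¹ * (s : GL ι F) * x ∈ m.hat A := by
      have := (mem_cj.1 (mem_inf.1 hk).2)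
      rw [← map_inv, ← map_mul, ← map_mul, ← m.mem_hat_iff] at this
      exact this
    have h3 := hn _ hs1 hs2
    refine mem_inf.2 ⟨A.mul_mem (A.mul_mem hpA (mem_inf.1 hk).1) (A.inv_mem hpA), mem_cj.2 ?_⟩
    rw [← map_inv, ← map_inv, ← map_mul, ← map_mul, ← map_mul, ← map_mul, ← m.mem_hat_iff]
    exact h3
  rw [← m.hat_cj A ⟨x, hxS⟩]
  exact m.mem_hat.2 ⟨hpS, key⟩

omit [Finite Q] h in
theorem map_p {p : ℕ} {R : Subgroup (GL ι F)} (hp : ∀ r ∈ R, ∃ k : ℕ, r ^ p ^ k = 1) :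
    IsPGroup p ((R.subgroupOf S).map m.π) := by
  rintro ⟨_, r, hr, rfl⟩
  obtain ⟨k, hk⟩ := hp _ hr
  refine ⟨k, Subtype.ext ?_⟩
  change m.π r ^ p ^ k = 1
  rw [← map_pow]
  have : r ^ p ^ k = 1 := Subtype.ext hk
  rw [this, map_one]

theorem kill_p_aux {p : ℕ} [Fact p.Prime] {R : Subgroup (GL ι F)} (hR : R ≤ m.hat A)
    (hn : ∀ a ∈ m.hat A, ∀ r ∈ R, a * r * a⁻¹ ∈ R) (hp : ∀ r ∈ R, ∃ k : ℕ, r ^ p ^ k = 1) :
    (∀ a ∈ (R.subgroupOf S).map m.π, ∀ b ∈ (R.subgroupOf S).map m.π, a * b = b * a) ∧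
      ∀ x, x ∉ A → (R.subgroupOf S).map m.π ⊓ cj x A = ⊥ := by
  refine pgroup h ?_ ?_ (map_p m hp)
  · rintro _ ⟨r, hr, rfl⟩
    exact (m.mem_hat_iff r).1 (hR hr)
  · rintro a ha _ ⟨r, hr, rfl⟩
    obtain ⟨s, rfl⟩ := m.surj a
    refine ⟨s * r * s⁻¹, hn _ ((m.mem_hat_iff s).2 ha) _ hr, ?_⟩
    rw [map_mul, map_mul, map_inv]

/-- a normal subgroup of `p`-elements of `Â` is abelian modulo scalars -/
theorem kill_p_comm {p : ℕ} [Fact p.Prime] {R : Subgroup (GL ι F)} (hR : R ≤ m.hat A)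
    (hn : ∀ a ∈ m.hat A, ∀ r ∈ R, a * r * a⁻¹ ∈ R) (hp : ∀ r ∈ R, ∃ k : ℕ, r ^ p ^ k = 1) {r s : GL ι F} (hr : r ∈ R)
    (hs : s ∈ R) : ∃ z ∈ Geo.scalars ι F, r * s = s * r * z := by
  have hrS := m.hat_le A (hR hr)
  have hsS := m.hat_le A (hR hs)
  have h1 := (kill_p_aux h m hR hn hp).1 (m.π ⟨r, hrS⟩) ⟨⟨r, hrS⟩, hr, rfl⟩ (m.π ⟨s, hsS⟩) ⟨⟨s, hsS⟩, hs, rfl⟩
  rw [← map_mul, ← map_mul, m.π_eq_iff] at h1
  exact h1

/-- a normal subgroup of `p`-elements of `Â` meets `Â^x` in scalars -/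
theorem kill_p_conj {p : ℕ} [Fact p.Prime] {R : Subgroup (GL ι F)} (hR : R ≤ m.hat A)
    (hn : ∀ a ∈ m.hat A, ∀ r ∈ R, a * r * a⁻¹ ∈ R) (hp : ∀ r ∈ R, ∃ k : ℕ, r ^ p ^ k = 1) {x : GL ι F} (hxS : x ∈ S)
    (hx : x ∉ m.hat A) {r : GL ι F} (hr : r ∈ R) (hrx : x⁻¹ * r * x ∈ m.hat A) : r ∈ Geo.scalars ι F := by
  have hx' : m.π ⟨x, hxS⟩ ∉ A := fun e => hx ((m.mem_hat_iff ⟨x, hxS⟩).2 e)
  have hrS := m.hat_le A (hR hr)
  have h1 := (kill_p_aux h m hR hn hp).2 _ hx'
  have h2 : m.π ⟨r, hrS⟩ ∈ (R.subgroupOf S).map m.π ⊓ cj (m.π ⟨x, hxS⟩) A := by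
    refine mem_inf.2 ⟨⟨⟨r, hrS⟩, hr, rfl⟩, mem_cj.2 ?_⟩
    rw [← map_inv, ← map_mul, ← map_mul, ← m.mem_hat_iff]
    exact hrx
  rw [h1, mem_bot, m.ker] at h2
  exact h2

end matrix

end Cfsg.Agent.H29.EP
end

-- part: H511/EP/SUC5
section
prune_inst 0x100400702200000000808401200020140000b0000008002082024002090000c0c20040020020060208000108000020030000804040000004000000000401001000000020400000000080000000000000000000000000000000000000010004200000002
set_option linter.all false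
open scoped Cfsg.Agent.FastGrp

-- part: H511/EP/SUC5a
section
/-!
# S3499-III-SU-C5, part 1 (helper511): rank one operators for the unitary form

`E a b` is the matrix of `z ↦ f(z, b) a`.
-/

set_option autoImplicit false
set_option linter.unusedSectionVars false

namespace Cfsg.Agent.H511.EP

open Subgroup Cfsg Cfsg.Geo Cfsg.Agent.LieClassical.HermBasic
open scoped Matrix MatrixGroups

section E

variable {F : Type*} [Field F] {n : ℕ}

/-- the operator `z ↦ f(z, b) a` -/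
def E (q : ℕ) (a b : Fin n → F) : Matrix (Fin n) (Fin n) F := Matrix.vecMulVec a (fun j => b j ^ q)

variable {q : ℕ}

theorem E_mulVec (a b z : Fin n → F) : E q a b *ᵥ z = hermForm n F q z b • a := by
  funext i
  rw [E, Matrix.vecMulVec_mulVec]
  show (MulOpposite.op ((fun j => b j ^ q) ⬝ᵥ z) • a) i = _
  rw [Pi.smul_apply, Pi.smul_apply, MulOpposite.smul_eq_mul_unop, MulOpposite.unop_op, smul_eq_mul, mul_comm]
  congr 1
  unfold hermForm dotProduct
  exact Finset.sum_congr rfl fun j _ => mul_comm _ _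

theorem E_mul (a b c d : Fin n → F) : E q a b * E q c d = hermForm n F q c b • E q a d := by
  ext i j
  rw [Matrix.mul_apply, Matrix.smul_apply]
  simp only [E, Matrix.vecMulVec_apply, smul_eq_mul]
  unfold hermForm
  rw [Finset.sum_mul]
  exact Finset.sum_congr rfl fun k _ => by ring

theorem det_one_add_E (c : F) (a b : Fin n → F) : (1 + c • E q a b).det = 1 + c * hermForm n F q a b := by
  have h : c • E q a b = Matrix.replicateCol Unit (c • a) * Matrix.replicateRow Unit (fun j => b j ^ q) := by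
    ext i j
    simp [E, Matrix.vecMulVec_apply, Matrix.mul_apply, mul_assoc]
  rw [h, Matrix.det_one_add_replicateCol_mul_replicateRow]
  congr 1
  unfold hermForm dotProduct
  rw [Finset.mul_sum]
  refine Finset.sum_congr rfl fun j _ => ?_
  rw [Pi.smul_apply, smul_eq_mul]
  ring

variable [Fintype F] (hF : Fintype.card F = q ^ 2)
include hF

theorem E_add_left (a a' b : Fin n → F) : E q (a + a') b = E q a b + E q a' b := by
  ext i j; simp [E, Matrix.vecMulVec_apply, add_mul]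

theorem E_add_right (a b b' : Fin n → F) : E q a (b + b') = E q a b + E q a b' := by
  ext i j; simp [E, Matrix.vecMulVec_apply, add_pow_q hF, mul_add]

theorem E_sub_left (a a' b : Fin n → F) : E q (a - a') b = E q a b - E q a' b := by
  ext i j; simp [E, Matrix.vecMulVec_apply, sub_mul]

theorem E_sub_right (a b b' : Fin n → F) : E q a (b - b') = E q a b - E q a b' := by
  ext i j; simp [E, Matrix.vecMulVec_apply, sub_pow_q hF, mul_sub]

/-- `Y` is the adjoint of `X` -/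
def IsAdj (q : ℕ) (X Y : Matrix (Fin n) (Fin n) F) : Prop :=
  ∀ u v, hermForm n F q (X *ᵥ u) v = hermForm n F q u (Y *ᵥ v)

omit hF in
theorem IsAdj.one : IsAdj q (1 : Matrix (Fin n) (Fin n) F) 1 := fun u v => by simp

theorem IsAdj.add {X Y X' Y' : Matrix (Fin n) (Fin n) F} (h : IsAdj q X Y) (h' : IsAdj q X' Y') :
    IsAdj q (X + X') (Y + Y') := fun u v => by
  rw [Matrix.add_mulVec, Matrix.add_mulVec, herm_add_left, herm_add_right hF, h, h']

theorem IsAdj.E (c : F) (a b : Fin n → F) : IsAdj q (c • EP.E q a b) (c ^ q • EP.E q b a) := fun u v => by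
  rw [Matrix.smul_mulVec, Matrix.smul_mulVec, E_mulVec, E_mulVec, herm_smul_left, herm_smul_left, herm_smul_right,
    herm_smul_right, pow_q_pow_q hF, herm_swap hF v a]
  ring

omit hF in
theorem mem_of_adj {X Y : Matrix (Fin n) (Fin n) F} {x : GL (Fin n) F} (hx : (x : Matrix (Fin n) (Fin n) F) = X)
    (hXY : IsAdj q X Y) (hYX : Y * X = 1) (hdet : X.det = 1) : x ∈ GU n F q ⊓ specialLinear (Fin n) F := by
  refine Subgroup.mem_inf.2 ⟨?_, ?_⟩
  · rw [mem_GU_iff]
    intro u v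
    rw [hx, hXY, Matrix.mulVec_mulVec, hYX, Matrix.one_mulVec]
  · show Matrix.GeneralLinearGroup.det x = 1
    apply Units.ext
    show (x : Matrix (Fin n) (Fin n) F).det = 1
    rw [hx, hdet]

end E

section Phi

variable {F : Type*} [Field F] {n : ℕ}

/-- the semilinear conjugation on matrices -/
def PhiM (φ : F →+* F) (P : GL (Fin n) F) : Matrix (Fin n) (Fin n) F →+* Matrix (Fin n) (Fin n) F where
  toFun X := (P : Matrix (Fin n) (Fin n) F) * (((P⁻¹ : GL (Fin n) F) : Matrix (Fin n) (Fin n) F) * X * P).map φ *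
    ((P⁻¹ : GL (Fin n) F) : Matrix (Fin n) (Fin n) F)
  map_one' := by
    rw [mul_one, Units.inv_mul, Matrix.map_one φ (map_zero φ) (map_one φ), mul_one, Units.mul_inv]
  map_zero' := by
    rw [mul_zero, zero_mul, Matrix.map_zero _ (map_zero φ), mul_zero, zero_mul]
  map_add' X Y := by
    rw [mul_add, add_mul, Matrix.map_add _ (map_add φ), mul_add, add_mul]
  map_mul' X Y := by
    have e : ((P⁻¹ : GL (Fin n) F) : Matrix (Fin n) (Fin n) F) * (X * Y) * P =
        (((P⁻¹ : GL (Fin n) F) : Matrix (Fin n) (Fin n) F) * X * P) *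
        (((P⁻¹ : GL (Fin n) F) : Matrix (Fin n) (Fin n) F) * Y * P) := by
      have h : (P : Matrix (Fin n) (Fin n) F) * ((P⁻¹ : GL (Fin n) F) : Matrix (Fin n) (Fin n) F) = 1 := Units.mul_inv P
      calc _ = ((P⁻¹ : GL (Fin n) F) : Matrix (Fin n) (Fin n) F) * X *
            ((P : Matrix (Fin n) (Fin n) F) * ((P⁻¹ : GL (Fin n) F) : Matrix (Fin n) (Fin n) F)) * Y * P := by
            rw [h]; noncomm_ring
        _ = _ := by noncomm_ring
    rw [e, Matrix.map_mul]
    generalize (((P⁻¹ : GL (Fin n) F) : Matrix (Fin n) (Fin n) F) * X * P).map φ = X'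
    generalize (((P⁻¹ : GL (Fin n) F) : Matrix (Fin n) (Fin n) F) * Y * P).map φ = Y'
    have h : ((P⁻¹ : GL (Fin n) F) : Matrix (Fin n) (Fin n) F) * (P : Matrix (Fin n) (Fin n) F) = 1 := Units.inv_mul P
    calc (P : Matrix (Fin n) (Fin n) F) * (X' * Y') * ((P⁻¹ : GL (Fin n) F) : Matrix (Fin n) (Fin n) F) =
          (P : Matrix (Fin n) (Fin n) F) * X' * (((P⁻¹ : GL (Fin n) F) : Matrix (Fin n) (Fin n) F) *
            (P : Matrix (Fin n) (Fin n) F)) * Y' * ((P⁻¹ : GL (Fin n) F) : Matrix (Fin n) (Fin n) F) := by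
          rw [h]; noncomm_ring
      _ = _ := by noncomm_ring

theorem PhiM_apply (φ : F →+* F) (P : GL (Fin n) F) (X : Matrix (Fin n) (Fin n) F) :
    PhiM φ P X = (P : Matrix (Fin n) (Fin n) F) *
      (((P⁻¹ : GL (Fin n) F) : Matrix (Fin n) (Fin n) F) * X * P).map φ *
      ((P⁻¹ : GL (Fin n) F) : Matrix (Fin n) (Fin n) F) := rfl

theorem coe_Phi (φ : F →+* F) (P g : GL (Fin n) F) :
    ((H96.C5.Phi φ P g : GL (Fin n) F) : Matrix (Fin n) (Fin n) F) = PhiM φ P (g : Matrix (Fin n) (Fin n) F) := by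
  rw [H96.C5.Phi_apply, PhiM_apply]
  rfl

theorem PhiM_smul (φ : F →+* F) (P : GL (Fin n) F) (c : F) (X : Matrix (Fin n) (Fin n) F) :
    PhiM φ P (c • X) = φ c • PhiM φ P X := by
  rw [PhiM_apply, PhiM_apply, mul_smul_comm, smul_mul_assoc, Matrix.map_smul' , mul_smul_comm, smul_mul_assoc]
  exact fun a b => map_mul φ a b

/-- a vector is rational if it has coordinates in `F₀` with respect to the columns of `P` -/
def Rt (F₀ : Subfield F) (P : GL (Fin n) F) (v : Fin n → F) : Prop :=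
  ∃ u : Fin n → F, (∀ i, u i ∈ F₀) ∧ v = (P : Matrix (Fin n) (Fin n) F) *ᵥ u

variable {F₀ : Subfield F} {P : GL (Fin n) F} {q : ℕ}

theorem Rt.add {v w : Fin n → F} (hv : Rt F₀ P v) (hw : Rt F₀ P w) : Rt F₀ P (v + w) := by
  obtain ⟨a, ha, rfl⟩ := hv
  obtain ⟨b, hb, rfl⟩ := hw
  exact ⟨a + b, fun i => F₀.add_mem (ha i) (hb i), (Matrix.mulVec_add _ _ _).symm⟩

theorem Rt.smul {c : F} (hc : c ∈ F₀) {v : Fin n → F} (hv : Rt F₀ P v) : Rt F₀ P (c • v) := by
  obtain ⟨a, ha, rfl⟩ := hv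
  exact ⟨c • a, fun i => F₀.mul_mem hc (ha i), (Matrix.mulVec_smul _ _ _).symm⟩

theorem Rt.neg {v : Fin n → F} (hv : Rt F₀ P v) : Rt F₀ P (-v) := by
  obtain ⟨a, ha, rfl⟩ := hv
  exact ⟨-a, fun i => F₀.neg_mem (ha i), (Matrix.mulVec_neg _ _).symm⟩

theorem Rt.sub {v w : Fin n → F} (hv : Rt F₀ P v) (hw : Rt F₀ P w) : Rt F₀ P (v - w) := by
  rw [sub_eq_add_neg]
  exact hv.add hw.neg

/-- `ζ E a b` is rational -/
theorem PhiM_E {φ : F →+* F} (hφ : ∀ a, a ∈ F₀ ↔ φ a = a) {ζ : F}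
    (hform : IsFormRationalStructure (hermForm n F q) F₀ ζ P) {a b : Fin n → F} (ha : Rt F₀ P a) (hb : Rt F₀ P b) :
    PhiM φ P (ζ • E q a b) = ζ • E q a b := by
  obtain ⟨a', ha', rfl⟩ := ha
  obtain ⟨b', hb', rfl⟩ := hb
  set X : Matrix (Fin n) (Fin n) F := ζ • E q ((P : Matrix (Fin n) (Fin n) F) *ᵥ a') ((P : Matrix (Fin n) (Fin n) F) *ᵥ b')
    with hX
  have h1 : (((P⁻¹ : GL (Fin n) F) : Matrix (Fin n) (Fin n) F) * X * P).map φ =
      ((P⁻¹ : GL (Fin n) F) : Matrix (Fin n) (Fin n) F) * X * P := by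
    ext i j
    rw [Matrix.map_apply, ← hφ]
    have e : (((P⁻¹ : GL (Fin n) F) : Matrix (Fin n) (Fin n) F) * X * (P : Matrix (Fin n) (Fin n) F)) i j =
        ((((P⁻¹ : GL (Fin n) F) : Matrix (Fin n) (Fin n) F) * X * (P : Matrix (Fin n) (Fin n) F)) *ᵥ
          (Pi.single j 1)) i := by
      rw [Matrix.mulVec_single_one]; rfl
    rw [e, ← Matrix.mulVec_mulVec, ← Matrix.mulVec_mulVec, hX, Matrix.smul_mulVec, E_mulVec, Matrix.mulVec_smul,
      Matrix.mulVec_smul, Matrix.mulVec_mulVec, Units.inv_mul, Matrix.one_mulVec, ← mul_smul, Pi.smul_apply, smul_eq_mul]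
    refine F₀.mul_mem (hform _ _ (fun i => ?_) hb') (ha' i)
    by_cases hij : i = j
    · subst hij; rw [Pi.single_eq_same]; exact F₀.one_mem
    · rw [Pi.single_eq_of_ne hij]; exact F₀.zero_mem
  rw [PhiM_apply, h1]
  have h2 : (P : Matrix (Fin n) (Fin n) F) * ((P⁻¹ : GL (Fin n) F) : Matrix (Fin n) (Fin n) F) = 1 := Units.mul_inv P
  calc (P : Matrix (Fin n) (Fin n) F) * (((P⁻¹ : GL (Fin n) F) : Matrix (Fin n) (Fin n) F) * X * P) *
        ((P⁻¹ : GL (Fin n) F) : Matrix (Fin n) (Fin n) F) =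
        ((P : Matrix (Fin n) (Fin n) F) * ((P⁻¹ : GL (Fin n) F) : Matrix (Fin n) (Fin n) F)) * X *
        ((P : Matrix (Fin n) (Fin n) F) * ((P⁻¹ : GL (Fin n) F) : Matrix (Fin n) (Fin n) F)) := by noncomm_ring
    _ = X := by rw [h2, one_mul, mul_one]

end Phi

end Cfsg.Agent.H511.EP
end

-- part: H511/EP/SUC5b
section
/-!
# S3499-III-SU-C5, part 2 (helper511): rational vectors
-/

set_option autoImplicit false
set_option linter.unusedSectionVars false
set_option linter.unusedSimpArgs false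

namespace Cfsg.Agent.H511.EP

open Subgroup Cfsg Cfsg.Geo Cfsg.Agent.LieClassical.HermBasic
open scoped Matrix MatrixGroups

/-- Binary quadratic forms over a finite field of odd order are universal. -/
theorem exists_two_sq {K : Type*} [Field K] [Finite K] (h2 : (2 : K) ≠ 0) {a b : K} (ha : a ≠ 0) (hb : b ≠ 0) (c : K) :
    ∃ s t : K, a * s ^ 2 + b * t ^ 2 = c := by
  have := Fintype.ofFinite K
  have hodd : Fintype.card K % 2 = 1 := FiniteField.odd_card_of_char_ne_two (by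
    intro h
    apply h2
    have := ringChar.Nat.cast_ringChar (R := K)
    rw [h] at this
    exact_mod_cast this)
  obtain ⟨s, t, h⟩ := FiniteField.exists_root_sum_quadratic (f := Polynomial.C a * Polynomial.X ^ 2)
    (g := Polynomial.C b * Polynomial.X ^ 2 - Polynomial.C c)
    (Polynomial.degree_C_mul_X_pow 2 ha)
    (by
      rw [Polynomial.degree_sub_eq_left_of_degree_lt]
      · exact Polynomial.degree_C_mul_X_pow 2 hb
      · rw [Polynomial.degree_C_mul_X_pow 2 hb]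
        exact (Polynomial.degree_C_le).trans_lt (by norm_num)) hodd
  refine ⟨s, t, ?_⟩
  simp only [_root_.Polynomial.eval_mul, _root_.Polynomial.eval_C, _root_.Polynomial.eval_pow, _root_.Polynomial.eval_X, _root_.Polynomial.eval_sub] at h
  linear_combination h

variable {F : Type*} [Field F] [Fintype F] {n q : ℕ} (hF : Fintype.card F = q ^ 2)
variable {F₀ : Subfield F} {P : GL (Fin n) F}

omit [Fintype F] in
theorem form_mem {ζ : F} (hform : IsFormRationalStructure (hermForm n F q) F₀ ζ P) {a b : Fin n → F}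
    (ha : Rt F₀ P a) (hb : Rt F₀ P b) : ζ * hermForm n F q a b ∈ F₀ := by
  obtain ⟨a', ha', rfl⟩ := ha
  obtain ⟨b', hb', rfl⟩ := hb
  exact hform _ _ ha' hb'

omit [Fintype F] in
theorem form_mem1 (hform : IsFormRationalStructure (hermForm n F q) F₀ 1 P) {a b : Fin n → F}
    (ha : Rt F₀ P a) (hb : Rt F₀ P b) : hermForm n F q a b ∈ F₀ := by
  have := form_mem hform ha hb
  rwa [one_mul] at this

omit [Fintype F] in
theorem Rt_col (i : Fin n) : Rt F₀ P ((P : Matrix (Fin n) (Fin n) F) *ᵥ (Pi.single i 1)) := by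
  refine ⟨_, fun j => ?_, rfl⟩
  by_cases hij : j = i
  · subst hij; rw [Pi.single_eq_same]; exact F₀.one_mem
  · rw [Pi.single_eq_of_ne hij]; exact F₀.zero_mem

include hF

/-- the rational vectors detect zero -/
theorem exists_pair {u : Fin n → F} (hu : u ≠ 0) : ∃ w, Rt F₀ P w ∧ hermForm n F q u w ≠ 0 := by
  by_contra hcon
  push Not at hcon
  obtain ⟨v, hv⟩ := exists_herm_ne_zero hF hu
  apply hv
  have e : v = (P : Matrix (Fin n) (Fin n) F) *ᵥ (((P⁻¹ : GL (Fin n) F) : Matrix (Fin n) (Fin n) F) *ᵥ v) := by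
    rw [Matrix.mulVec_mulVec, Units.mul_inv, Matrix.one_mulVec]
  have e2 : ((P⁻¹ : GL (Fin n) F) : Matrix (Fin n) (Fin n) F) *ᵥ v =
      ∑ i, (((P⁻¹ : GL (Fin n) F) : Matrix (Fin n) (Fin n) F) *ᵥ v) i • (Pi.single i (1 : F) : Fin n → F) := by
    funext j
    rw [Finset.sum_apply]
    simp only [Pi.single_apply, _root_.Matrix.coe_units_inv, _root_.Pi.smul_apply, _root_.smul_eq_mul, _root_.mul_ite, _root_.mul_one, _root_.MulZeroClass.mul_zero, _root_.Finset.sum_ite_eq, _root_.Finset.mem_univ, ↓ _root_.reduceIte]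
  rw [e, e2, Matrix.mulVec_sum, herm_sum_right hF]
  refine Finset.sum_eq_zero fun i _ => ?_
  rw [Matrix.mulVec_smul, herm_smul_right, hcon _ (Rt_col i), mul_zero]

omit hF in
/-- a rational vector perpendicular to given ones -/
theorem exists_perp {ζ : F} (hζ : ζ ≠ 0) (hform : IsFormRationalStructure (hermForm n F q) F₀ ζ P) {k : ℕ}
    (hk : k < n) (b : Fin k → Fin n → F) (hb : ∀ i, Rt F₀ P (b i)) :
    ∃ u, Rt F₀ P u ∧ u ≠ 0 ∧ ∀ i, hermForm n F q u (b i) = 0 := by
  have hco : ∀ (u : Fin n → F₀), Rt F₀ P ((P : Matrix (Fin n) (Fin n) F) *ᵥ (fun i => (u i : F))) :=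
    fun u => ⟨_, fun i => (u i).2, rfl⟩
  let L : (Fin n → F₀) →ₗ[F₀] (Fin k → F₀) :=
    { toFun := fun u j => ⟨ζ * hermForm n F q ((P : Matrix (Fin n) (Fin n) F) *ᵥ (fun i => (u i : F))) (b j),
        form_mem hform (hco u) (hb j)⟩
      map_add' := by
        intro u v
        funext j
        apply Subtype.ext
        have e : (fun i => ((u + v) i : F)) = (fun i => (u i : F)) + fun i => (v i : F) := rfl
        show ζ * hermForm n F q ((P : Matrix (Fin n) (Fin n) F) *ᵥ (fun i => ((u + v) i : F))) (b j) = _ + _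
        rw [e, Matrix.mulVec_add, herm_add_left, mul_add]
      map_smul' := by
        intro c u
        funext j
        apply Subtype.ext
        have e : (fun i => ((c • u) i : F)) = (c : F) • fun i => (u i : F) := rfl
        show ζ * hermForm n F q ((P : Matrix (Fin n) (Fin n) F) *ᵥ (fun i => ((c • u) i : F))) (b j) = c * _
        rw [e, Matrix.mulVec_smul, herm_smul_left]
        ring }
  have h1 : LinearMap.ker L ≠ ⊥ := LinearMap.ker_ne_bot_of_finrank_lt (by
    rw [Module.finrank_fin_fun, Module.finrank_fin_fun]; exact hk)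
  obtain ⟨u, hu, hu0⟩ := Submodule.exists_mem_ne_zero_of_ne_bot h1
  refine ⟨_, hco u, ?_, fun j => ?_⟩
  · intro h0
    apply hu0
    have h2 : (fun i => (u i : F)) = 0 := by
      have := congrArg (fun v => ((P⁻¹ : GL (Fin n) F) : Matrix (Fin n) (Fin n) F) *ᵥ v) h0
      simpa only [Matrix.mulVec_mulVec, _root_.Matrix.coe_units_inv, _root_.Matrix.inv_mul_of_invertible, _root_.Matrix.one_mulVec, _root_.Matrix.mulVec_zero] using this
    funext i
    apply Subtype.ext
    exact congrFun h2 i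
  · have h2 := congrArg Subtype.val (congrFun (LinearMap.mem_ker.1 hu) j)
    exact (mul_eq_zero.1 h2).resolve_left hζ

/-- an anisotropic rational vector perpendicular to given orthogonal anisotropic ones -/
theorem exists_aniso (hform : IsFormRationalStructure (hermForm n F q) F₀ 1 P)
    (hl : ∃ l : F, l ∈ F₀ ∧ l + l ^ q ≠ 0) {k : ℕ} (hk : k < n) (b : Fin k → Fin n → F) (hb : ∀ i, Rt F₀ P (b i))
    (hb0 : ∀ i, hermForm n F q (b i) (b i) ≠ 0) (hbb : ∀ i j, i ≠ j → hermForm n F q (b i) (b j) = 0) :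
    ∃ e, Rt F₀ P e ∧ hermForm n F q e e ≠ 0 ∧ ∀ i, hermForm n F q e (b i) = 0 := by
  by_contra hcon
  push Not at hcon
  obtain ⟨u, hu, hu0, hub⟩ := exists_perp one_ne_zero hform hk b hb
  obtain ⟨w, hw, huw⟩ := exists_pair (P := P) (F₀ := F₀) hF hu0
  obtain ⟨l, hl, hl0⟩ := hl
  obtain ⟨w', hw'⟩ : ∃ w', w' = w - ∑ i, (hermForm n F q w (b i) / hermForm n F q (b i) (b i)) • b i := ⟨_, rfl⟩
  have hsum : ∀ (s : Finset (Fin k)) (c : Fin k → F), (∀ i, c i ∈ F₀) → Rt F₀ P (∑ i ∈ s, c i • b i) := by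
    intro s c hc
    classical
    induction s using Finset.induction_on with
    | empty => exact ⟨0, fun i => F₀.zero_mem, by rw [Finset.sum_empty, Matrix.mulVec_zero]⟩
    | insert a s ha ih =>
      rw [Finset.sum_insert ha]
      exact ((hb a).smul (hc a)).add ih
  have hw'r : Rt F₀ P w' := by
    rw [hw']
    exact hw.sub (hsum _ _ fun i => F₀.div_mem (form_mem1 hform hw (hb i)) (form_mem1 hform (hb i) (hb i)))
  have hw'b : ∀ j, hermForm n F q w' (b j) = 0 := by
    intro j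
    rw [hw', herm_sub_left, herm_sum_left, Finset.sum_eq_single j, herm_smul_left, div_mul_cancel₀ _ (hb0 j), sub_self]
    · intro i _ hij
      rw [herm_smul_left, hbb i j hij, mul_zero]
    · intro h; exact absurd (Finset.mem_univ j) h
  have huw' : hermForm n F q u w' = hermForm n F q u w := by
    rw [hw', herm_sub_right hF, herm_sum_right hF, Finset.sum_eq_zero, sub_zero]
    intro i _
    rw [herm_smul_right, hub, mul_zero]
  set c := hermForm n F q u w with hc
  obtain ⟨u1, hu1⟩ : ∃ u1, u1 = (l * c⁻¹) • u := ⟨_, rfl⟩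
  have hu1r : Rt F₀ P u1 := by
    rw [hu1]
    exact hu.smul (F₀.mul_mem hl (F₀.inv_mem (form_mem1 hform hu hw)))
  have hu1b : ∀ j, hermForm n F q u1 (b j) = 0 := fun j => by rw [hu1, herm_smul_left, hub, mul_zero]
  have hu1w : hermForm n F q u1 w' = l := by
    rw [hu1, herm_smul_left, huw', mul_assoc, inv_mul_cancel₀ huw, mul_one]
  have hz : ∀ e, Rt F₀ P e → (∀ i, hermForm n F q e (b i) = 0) → hermForm n F q e e = 0 := by
    intro e he heb
    by_contra h
    obtain ⟨i, hi⟩ := hcon e he h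
    exact hi (heb i)
  have h1 := hz _ hu1r hu1b
  have h2 := hz _ hw'r hw'b
  have h3 := hz _ (hu1r.add hw'r) (fun i => by rw [herm_add_left, hu1b, hw'b, add_zero])
  rw [herm_add_left, herm_add_right hF, herm_add_right hF, h1, h2, herm_swap hF u1 w', hu1w] at h3
  apply hl0
  linear_combination h3

/-- the quadratic form in three variables over the fixed field is isotropic -/
theorem exists_three (F₀ : Subfield F) {a1 a2 a3 : F} (h1 : a1 ∈ F₀) (h2 : a2 ∈ F₀) (h3 : a3 ∈ F₀) (k1 : a1 ^ q = a1)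
    (k2 : a2 ^ q = a2) (k3 : a3 ^ q = a3) (n1 : a1 ≠ 0) (n2 : a2 ≠ 0) :
    ∃ x y : F, x ∈ F₀ ∧ y ∈ F₀ ∧ x ^ q = x ∧ y ^ q = y ∧ a1 * x ^ 2 + a2 * y ^ 2 + a3 = 0 := by
  let K : Subfield F := F₀ ⊓ RingHom.eqLocusField (conj hF : F →+* F) (RingHom.id F)
  have hK : ∀ a, a ∈ K ↔ a ∈ F₀ ∧ a ^ q = a := fun a => Iff.rfl
  by_cases hc : (2 : F) = 0
  · have hc' : (2 : K) = 0 := Subtype.ext hc
    have hch : ringChar K = 2 := by
      have : CharP K 2 := CharTwo.of_one_ne_zero_of_two_eq_zero one_ne_zero hc'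
      exact (ringChar.eq K 2).symm ▸ rfl
    have : Fintype K := Fintype.ofFinite K
    obtain ⟨s, hs⟩ := FiniteField.isSquare_of_char_two hch (⟨-a3 / a1, (hK _).2 ⟨F₀.div_mem (F₀.neg_mem h3) h1, by
      rw [div_pow, neg_pow_q hF, k3, k1]⟩⟩ : K)
    have hs' : -a3 / a1 = (s : F) * s := congrArg Subtype.val hs
    refine ⟨s, 0, ((hK _).1 s.2).1, F₀.zero_mem, ((hK _).1 s.2).2, zero_pow_q hF, ?_⟩
    rw [pow_two, ← hs']
    field_simp
    ring
  · have hc' : (2 : K) ≠ 0 := fun h => hc (congrArg Subtype.val h)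
    obtain ⟨s, t, h⟩ := exists_two_sq hc' (a := (⟨a1, (hK _).2 ⟨h1, k1⟩⟩ : K)) (b := ⟨a2, (hK _).2 ⟨h2, k2⟩⟩)
      (fun h => n1 (congrArg Subtype.val h)) (fun h => n2 (congrArg Subtype.val h))
      ⟨-a3, (hK _).2 ⟨F₀.neg_mem h3, by rw [neg_pow_q hF, k3]⟩⟩
    have h' : a1 * (s : F) ^ 2 + a2 * (t : F) ^ 2 = -a3 := congrArg Subtype.val h
    refine ⟨s, t, ((hK _).1 s.2).1, ((hK _).1 t.2).1, ((hK _).1 s.2).2, ((hK _).1 t.2).2, ?_⟩
    rw [h']
    ring

/-- **rational vectors for (a), (b)** -/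
theorem exists_vwe (hn : 3 ≤ n) (hform : IsFormRationalStructure (hermForm n F q) F₀ 1 P)
    (hl : ∃ l : F, l ∈ F₀ ∧ l + l ^ q ≠ 0) :
    ∃ v w e : Fin n → F, Rt F₀ P v ∧ Rt F₀ P w ∧ Rt F₀ P e ∧ hermForm n F q v v = 0 ∧ hermForm n F q w w = 0 ∧
      hermForm n F q v w = 1 ∧ hermForm n F q e v = 0 ∧ hermForm n F q e w = 0 ∧ hermForm n F q e e ≠ 0 := by
  obtain ⟨e1, r1, n1, -⟩ := exists_aniso hF hform hl (k := 0) (by omega) (fun i => i.elim0) (fun i => i.elim0)
    (fun i => i.elim0) (fun i => i.elim0)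
  obtain ⟨e2, r2, n2, o2⟩ := exists_aniso hF hform hl (k := 1) (by omega) (fun _ => e1) (fun _ => r1)
    (fun _ => n1) (fun i j hij => absurd (Subsingleton.elim i j) hij)
  have o21 := o2 0
  have o12 := herm_eq_zero_swap hF o21
  obtain ⟨e3, r3, n3, o3⟩ := exists_aniso hF hform hl (k := 2) (by omega) ![e1, e2] (by
      intro i; fin_cases i <;> assumption) (by intro i; fin_cases i <;> assumption) (by
      intro i j hij
      fin_cases i <;> fin_cases j
      · exact absurd rfl hij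
      · exact o12
      · exact o21
      · exact absurd rfl hij)
  have o31 : hermForm n F q e3 e1 = 0 := o3 0
  have o32 : hermForm n F q e3 e2 = 0 := o3 1
  have o13 := herm_eq_zero_swap hF o31
  have o23 := herm_eq_zero_swap hF o32
  have m1 := form_mem1 hform r1 r1
  have m2 := form_mem1 hform r2 r2
  have m3 := form_mem1 hform r3 r3
  have k1 := herm_self_pow hF e1
  have k2 := herm_self_pow hF e2
  have k3 := herm_self_pow hF e3
  set a1 := hermForm n F q e1 e1 with ha1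
  set a2 := hermForm n F q e2 e2 with ha2
  set a3 := hermForm n F q e3 e3 with ha3
  obtain ⟨x, y, hx, hy, kx, ky, hxy⟩ := exists_three hF F₀ m1 m2 m3 k1 k2 k3 n1 n2
  obtain ⟨l, hl, hl0⟩ := hl
  have ki3 : (a3⁻¹) ^ q = a3⁻¹ := by rw [inv_pow, k3]
  have kya : (y * a2) ^ q = y * a2 := by rw [mul_pow, ky, k2]
  have kxa : (x * a1) ^ q = x * a1 := by rw [mul_pow, kx, k1]
  set d := l + l ^ q with hd
  have kd : (d⁻¹) ^ q = d⁻¹ := by rw [inv_pow, hd, trace_pow_q hF]
  have hdm : l ^ q ∈ F₀ := F₀.pow_mem hl q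
  set t := -(l * a3⁻¹ * d⁻¹) with ht
  have htq : t ^ q = -(l ^ q * a3⁻¹ * d⁻¹) := by rw [ht, neg_pow_q hF, mul_pow, mul_pow, ki3, kd]
  have htt : t + t ^ q = -a3⁻¹ := by
    rw [htq, ht]
    have : l * a3⁻¹ * d⁻¹ + l ^ q * a3⁻¹ * d⁻¹ = a3⁻¹ * (d * d⁻¹) := by rw [hd]; ring
    rw [mul_inv_cancel₀ hl0, mul_one] at this
    linear_combination -this
  have hvr : Rt F₀ P (x • e1 + y • e2 + e3) := ((r1.smul hx).add (r2.smul hy)).add r3
  have herr : Rt F₀ P ((y * a2) • e1 - (x * a1) • e2) :=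
    (r1.smul (F₀.mul_mem hy m2)).sub (r2.smul (F₀.mul_mem hx m1))
  set v := x • e1 + y • e2 + e3 with hv
  set e := (y * a2) • e1 - (x * a1) • e2 with he
  have fvv : hermForm n F q v v = 0 := by
    rw [hv]
    simp only [herm_add_left, herm_add_right hF, herm_smul_left, herm_smul_right, o12, o21, o13, o31, o23, o32, kx, ky,
      ← ha1, ← ha2, ← ha3]
    linear_combination hxy
  have fev : hermForm n F q e v = 0 := by
    rw [hv, he]
    simp only [herm_add_left, herm_add_right hF, herm_smul_left, herm_smul_right, herm_sub_left, o12, o21, o13, o31, o23,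
      o32, kx, ky, ← ha1, ← ha2, ← ha3]
    ring
  have fee : hermForm n F q e e = -(a1 * a2 * a3) := by
    rw [he]
    simp only [herm_smul_left, herm_smul_right, herm_sub_left, herm_sub_right hF, o12, o21, kya, kxa, ← ha1, ← ha2]
    linear_combination (a1 * a2) * hxy
  have f3v : hermForm n F q e3 v = a3 := by
    rw [hv]
    simp only [herm_add_right hF, herm_smul_right, o31, o32, ← ha3]
    ring
  have fv3 : hermForm n F q v e3 = a3 := by
    rw [hv]
    simp only [herm_add_left, herm_smul_left, o13, o23, ← ha3]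
    ring
  have fe3 : hermForm n F q e e3 = 0 := by
    rw [he]
    simp only [herm_sub_left, herm_smul_left, o13, o23]
    ring
  have hwr : Rt F₀ P (a3⁻¹ • e3 + t • v) := (r3.smul (F₀.inv_mem m3)).add (hvr.smul (F₀.neg_mem
    (F₀.mul_mem (F₀.mul_mem hl (F₀.inv_mem m3)) (F₀.inv_mem (F₀.add_mem hl hdm)))))
  refine ⟨v, a3⁻¹ • e3 + t • v, e, hvr, hwr, herr, fvv, ?_, ?_, fev, ?_, ?_⟩
  · simp only [herm_add_left, herm_add_right hF, herm_smul_left, herm_smul_right, fvv, f3v, fv3, ki3, ← ha3]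
    have : a3 * a3⁻¹ = 1 := mul_inv_cancel₀ n3
    linear_combination (a3 * a3⁻¹) * htt
  · simp only [herm_add_right hF, herm_smul_right, fvv, fv3, ki3]
    rw [mul_zero, add_zero, inv_mul_cancel₀ n3]
  · simp only [herm_add_right hF, herm_smul_right, fev, fe3]
    ring
  · rw [fee]
    exact neg_ne_zero.2 (mul_ne_zero (mul_ne_zero n1 n2) n3)

/-- **rational vectors for (c)** -/
theorem exists_c (hn : 3 ≤ n) {ζ : F} (hζ : ζ ≠ 0) (hform : IsFormRationalStructure (hermForm n F q) F₀ ζ P)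
    (hf0 : ∀ a ∈ F₀, a ^ q = a) :
    ∃ v w e : Fin n → F, Rt F₀ P v ∧ Rt F₀ P w ∧ Rt F₀ P e ∧ ζ * hermForm n F q v w = 1 ∧ e ≠ 0 ∧
      hermForm n F q e v = 0 ∧ hermForm n F q e w = 0 := by
  obtain ⟨v, hv, hv0, -⟩ := exists_perp (q := q) hζ hform (k := 0) (by omega) (fun i => i.elim0) (fun i => i.elim0)
  obtain ⟨w0, hw0, hvw⟩ := exists_pair (P := P) (F₀ := F₀) hF hv0
  have hm := form_mem hform hv hw0
  have hw : Rt F₀ P ((ζ * hermForm n F q v w0)⁻¹ • w0) := hw0.smul (F₀.inv_mem hm)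
  obtain ⟨e, he, he0, heb⟩ := exists_perp (q := q) hζ hform (k := 2) (by omega)
    ![v, (ζ * hermForm n F q v w0)⁻¹ • w0] (by intro i; fin_cases i <;> assumption)
  refine ⟨v, _, e, hv, hw, he, ?_, he0, heb 0, heb 1⟩
  rw [herm_smul_right, hf0 _ (F₀.inv_mem hm)]
  have : ζ * hermForm n F q v w0 ≠ 0 := mul_ne_zero hζ hvw
  calc ζ * ((ζ * hermForm n F q v w0)⁻¹ * hermForm n F q v w0) =
      (ζ * hermForm n F q v w0)⁻¹ * (ζ * hermForm n F q v w0) := by ring
    _ = 1 := inv_mul_cancel₀ this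

omit hF in
theorem E_rat {φ : F →+* F} (hφ : ∀ a, a ∈ F₀ ↔ φ a = a)
    (hform : IsFormRationalStructure (hermForm n F q) F₀ 1 P) {a b : Fin n → F} (ha : Rt F₀ P a) (hb : Rt F₀ P b) :
    PhiM φ P (E q a b) = E q a b := by
  have := PhiM_E hφ hform ha hb
  rwa [one_smul] at this

omit hF in
omit [Field F] [Fintype F] in
/-- numbers: `|F₀| = t²`, `q = t^r` -/
theorem sq_of_odd {s q r : ℕ} (hr : Odd r) (h : q ^ 2 = s ^ r) (hs : 0 < s) : ∃ t, s = t ^ 2 := by
  obtain ⟨k, rfl⟩ := hr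
  have h1 : (s ^ k) ^ 2 ∣ q ^ 2 := by
    rw [h, ← pow_mul]
    exact pow_dvd_pow _ (by omega)
  obtain ⟨t, rfl⟩ := (Nat.pow_dvd_pow_iff (by norm_num)).1 h1
  refine ⟨t, ?_⟩
  have h2 : 0 < s ^ (2 * k) := Nat.pow_pos hs
  have h3 : s ^ (2 * k) * t ^ 2 = s ^ (2 * k) * s := by
    rw [← pow_succ, ← h, mul_pow, ← pow_mul, mul_comm k 2]
  exact (Nat.eq_of_mul_eq_mul_left h2 h3).symm

theorem two_ne (hq : Odd q) : (2 : F) ≠ 0 := by
  intro h2
  have : CharP F 2 := CharTwo.of_one_ne_zero_of_two_eq_zero one_ne_zero h2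
  have h3 := FiniteField.even_card_of_char_two (F := F) (ringChar.eq F 2)
  rw [hF] at h3
  have h4 := (hq.pow (n := 2))
  rw [Nat.odd_iff] at h4
  omega

theorem two_eq (hq : ¬ Odd q) : (2 : F) = 0 := by
  have h1 : ringChar F = 2 := by
    rw [FiniteField.even_card_iff_char_two, hF]
    rw [Nat.not_odd_iff_even] at hq
    exact Nat.even_iff.1 (hq.pow_of_ne_zero two_ne_zero)
  have h2 := ringChar.Nat.cast_ringChar (R := F)
  rw [h1] at h2
  exact_mod_cast h2

end Cfsg.Agent.H511.EP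
end

-- part: H511/EP/SUC5
section
/-!
# S3499-III-SU-C5 (helper511): the subfield subgroups of the special unitary groups
-/

set_option autoImplicit false
set_option linter.unusedSectionVars false
set_option linter.unusedSimpArgs false

namespace Cfsg.Agent.H511.EP

open Subgroup Cfsg Cfsg.Geo Cfsg.Agent.H284 Cfsg.Agent.H419.EP Cfsg.Agent.LieClassical.HermBasic
open scoped Matrix MatrixGroups

variable {Q : Type*} [Group Q] [Finite Q] {A : Subgroup Q} {Γ : Subgroup (MulAut Q)} (h : EPT A Γ)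
variable {F : Type*} [Field F] [Fintype F] {n q : ℕ} (m : Model Q (GU n F q ⊓ Geo.specialLinear (Fin n) F))
variable {F₀ : Subfield F} {P : GL (Fin n) F}

include h

/-- the criterion in terms of matrices -/
theorem kill_mat {φ : F →+* F} (hφ : ∀ a, a ∈ F₀ ↔ φ a = a) (hA : m.hat A ≤ subfieldSubgroup F₀ P)
    {X Y G : Matrix (Fin n) (Fin n) F} (hXY : X * Y = 1) (hYX : Y * X = 1) (haX : IsAdj q X Y) (hdX : X.det = 1)
    (hGG : G * G = 1) (haG : IsAdj q G G) (hdG : G.det = 1) (hGX : G * X = Y * G) (hG : PhiM φ P G = G)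
    (hc : PhiM φ P X * X = X * PhiM φ P X) (hx2 : ∀ d : F, PhiM φ P (X * X) = d • (X * X) → False) : False := by
  have hx : (⟨X, Y, hXY, hYX⟩ : GL (Fin n) F) ∈ GU n F q ⊓ specialLinear (Fin n) F := mem_of_adj rfl haX hYX hdX
  have hg : (⟨G, G, hGG, hGG⟩ : GL (Fin n) F) ∈ GU n F q ⊓ specialLinear (Fin n) F := mem_of_adj rfl haG hGG hdG
  refine H96.C5.kill_subfield h m hφ hA hx hg ?_ ?_ ?_ ?_
  · rw [H96.C5.mem_iff hφ]
    refine ⟨1, Subgroup.one_mem _, ?_⟩
    rw [mul_one]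
    apply Units.ext
    rw [coe_Phi]
    exact hG
  · rw [mul_inv_eq_iff_eq_mul]
    apply Units.ext
    exact hGX
  · apply Units.ext
    rw [Units.val_mul, Units.val_mul, coe_Phi]
    exact hc
  · intro hmem
    rw [H96.C5.mem_iff hφ] at hmem
    obtain ⟨z, hz, e⟩ := hmem
    obtain ⟨d, hd⟩ := (mem_scalars_iff z).1 hz
    apply hx2 (d : F)
    have e' := congrArg (fun t : GL (Fin n) F => (t : Matrix (Fin n) (Fin n) F)) e
    simp only [coe_Phi, Units.val_mul, hd] at e'
    rw [mul_smul_comm, mul_one] at e'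
    exact e'

/-- **(a)**: `F₀` of odd prime index -/
theorem su_C5a (hF : Fintype.card F = q ^ 2) (hn : 3 ≤ n) {r : ℕ} (hr : r.Prime) (hr2 : Odd r)
    (hF₀ : Fintype.card F = Nat.card F₀ ^ r) (hform : IsFormRationalStructure (hermForm n F q) F₀ 1 P)
    (hA : m.hat A ≤ subfieldSubgroup F₀ P) : False := by
  obtain ⟨φ, hφ⟩ := H96.C5.exists_phi F₀
  set s := Nat.card F₀ with hs
  have hs2 : 2 ≤ s := by
    exact Finite.one_lt_card
  obtain ⟨t, ht⟩ := sq_of_odd hr2 (hF.symm.trans hF₀) (by omega)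
  have ht2 : 2 ≤ t := by
    by_contra hlt
    have : t = 0 ∨ t = 1 := by omega
    rcases this with h0 | h0 <;> rw [ht, h0] at hs2 <;> norm_num at hs2
  have hr3 : 3 ≤ r := by
    rcases hr2 with ⟨k, hk⟩
    have := hr.two_le
    omega
  have hs4 : 4 ≤ s := by rw [ht]; nlinarith only [ht2]
  have hq2 : 2 ≤ q := two_le hF
  have hqs : 2 * s ≤ q := by
    have h1 : s ^ 3 ≤ q ^ 2 := by
      rw [← hF, hF₀]
      exact Nat.pow_le_pow_right (by omega) hr3
    have h2 : (2 * s) ^ 2 ≤ q ^ 2 := by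
      calc (2 * s) ^ 2 = 4 * s ^ 2 := by ring
        _ ≤ s * s ^ 2 := Nat.mul_le_mul_right _ hs4
        _ = s ^ 3 := by ring
        _ ≤ _ := h1
    exact (Nat.pow_le_pow_iff_left (by norm_num)).1 h2
  -- the trace condition
  have hl : ∃ l : F, l ∈ F₀ ∧ l + l ^ q ≠ 0 := by
    by_cases h2 : (2 : F) = 0
    · by_contra hcon
      push Not at hcon
      let K : Subfield F := RingHom.eqLocusField (conj hF : F →+* F) (RingHom.id F)
      have hle : F₀ ≤ K := by
        intro l hl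
        have h3 := hcon l hl
        show l ^ q = l
        linear_combination h3 - h2 * l
      have hK : Nat.card K = q := card_fixed hF
      let _ : Algebra F₀ K := (Subfield.inclusion hle).toAlgebra
      have : Fintype K := Fintype.ofFinite K
      have : Fintype F₀ := Fintype.ofFinite F₀
      have h3 := Module.card_eq_pow_finrank (K := F₀) (V := K)
      rw [← Nat.card_eq_fintype_card, ← Nat.card_eq_fintype_card, hK, ← hs] at h3
      have h4 : s ^ r = s ^ (2 * Module.finrank F₀ K) := by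
        rw [← hF₀, hF, h3, ← pow_mul, mul_comm]
      have h5 := Nat.pow_right_injective hs2 h4
      rcases hr2 with ⟨k, hk⟩
      omega
    · refine ⟨1, F₀.one_mem, ?_⟩
      rw [one_pow]
      intro h3
      apply h2
      linear_combination h3
  -- the multiplier
  obtain ⟨c, hc0, hcq, hc2⟩ : ∃ c : F, c ≠ 0 ∧ c ^ q = c ∧ c ^ 2 ∉ F₀ := by
    obtain ⟨g, hg⟩ := IsCyclic.exists_generator (α := Fˣ)
    have ho : orderOf g = q ^ 2 - 1 := by
      classical
      rw [orderOf_eq_card_of_forall_mem_zpowers hg, Nat.card_eq_fintype_card, Fintype.card_units, hF]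
    have hgF : (g : F) ^ (q ^ 2) = g := by
      rw [← hF]
      exact FiniteField.pow_card _
    refine ⟨(g : F) ^ (q + 1), pow_ne_zero _ g.ne_zero, ?_, ?_⟩
    · calc ((g : F) ^ (q + 1)) ^ q = (g : F) ^ (q ^ 2) * (g : F) ^ q := by rw [← pow_mul, ← pow_add]; congr 1; ring
        _ = (g : F) ^ (q + 1) := by rw [hgF, pow_succ, mul_comm]
    · intro hmem
      rw [H914.mem_subfield_iff_pow, ← hs] at hmem
      have h1 : g ^ (2 * (q + 1) * (s - 1)) = 1 := by
        have h2 : g ^ (2 * (q + 1) * (s - 1)) * g ^ (2 * (q + 1)) = g ^ (2 * (q + 1)) := by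
          rw [← pow_add]
          apply Units.ext
          push_cast
          have e : 2 * (q + 1) * (s - 1) + 2 * (q + 1) = (q + 1) * 2 * s := by
            obtain ⟨s', hs'⟩ : ∃ s', s = s' + 1 := ⟨s - 1, by omega⟩
            rw [hs']
            simp only [Nat.add_sub_cancel]
            ring
          rw [e, pow_mul, pow_mul, hmem, ← pow_mul]
          congr 1
          ring
        exact mul_eq_right.1 h2
      have h3 := Nat.le_of_dvd (by
        have : 0 < s - 1 := by omega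
        (clear * - hq2 this; positivity)) (orderOf_dvd_of_pow_eq_one h1)
      rw [ho] at h3
      obtain ⟨a, ha⟩ : ∃ a, q = a + 1 := ⟨q - 1, by omega⟩
      obtain ⟨b, hb⟩ : ∃ b, s = b + 1 := ⟨s - 1, by omega⟩
      have e1 : q ^ 2 - 1 = (q + 1) * a := by
        rw [ha]
        have : (a + 1) ^ 2 = (a + 1 + 1) * a + 1 := by ring
        rw [this]; rfl
      rw [e1, hb, Nat.add_sub_cancel, mul_comm 2, mul_assoc] at h3
      have h4 := Nat.le_of_mul_le_mul_left h3 (by omega)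
      omega
  obtain ⟨v, w, e, hv, hw, he, fvv, fww, fvw, fev, few, fee⟩ := exists_vwe hF hn hform hl
  have fwv : hermForm n F q w v = 1 := by rw [herm_swap hF v w, fvw, one_pow]
  have fve := herm_eq_zero_swap hF fev
  have fwe := herm_eq_zero_swap hF few
  have hE := fun {a b : Fin n → F} (ha : Rt F₀ P a) (hb : Rt F₀ P b) => E_rat (q := q) hφ hform ha hb
  have cc : c * c⁻¹ = 1 := mul_inv_cancel₀ hc0
  have ciq : (c⁻¹) ^ q = c⁻¹ := by rw [inv_pow, hcq]
  set ε := hermForm n F q e e with hε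
  have kε : ε ^ q = ε := herm_self_pow hF e
  have εε : ε * ε⁻¹ = 1 := mul_inv_cancel₀ fee
  have εi : (ε⁻¹) ^ q = ε⁻¹ := by rw [inv_pow, kε]
  have hεm : φ ε = ε := (hφ _).1 (form_mem1 hform he he)
  have twoq : (2 : F) ^ q = 2 := by
    have : (2 : F) = 1 + 1 := by norm_num
    rw [this, add_pow_q hF, one_pow]
  refine kill_mat h m hφ hA (X := 1 + (c - 1) • E q v w + (c⁻¹ - 1) • E q w v)
    (Y := 1 + (c⁻¹ - 1) • E q v w + (c - 1) • E q w v)
    (G := 1 + (E q v v - E q v w - E q w v + E q w w) + (-(2 * ε⁻¹)) • E q e e) ?_ ?_ ?_ ?_ ?_ ?_ ?_ ?_ ?_ ?_ ?_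
  · simp only [mul_add, add_mul, mul_one, one_mul, smul_mul_assoc, mul_smul_comm, E_mul, fvv, fww, fvw, fwv, zero_smul,
      smul_zero, one_smul, smul_smul]
    match_scalars
    · ring
    · linear_combination cc
    · linear_combination cc
  · simp only [mul_add, add_mul, mul_one, one_mul, smul_mul_assoc, mul_smul_comm, E_mul, fvv, fww, fvw, fwv, zero_smul,
      smul_zero, one_smul, smul_smul]
    match_scalars
    · ring
    · linear_combination cc
    · linear_combination cc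
  · have h1 := ((IsAdj.one (q := q)).add hF (IsAdj.E hF (c - 1) v w)).add hF (IsAdj.E hF (c⁻¹ - 1) w v)
    rw [sub_pow_q hF, hcq, one_pow, sub_pow_q hF, ciq, one_pow] at h1
    convert h1 using 1
    module
  · have e1 : 1 + (c - 1) • E q v w + (c⁻¹ - 1) • E q w v = (1 + (c - 1) • E q v w) * (1 + (c⁻¹ - 1) • E q w v) := by
      simp only [mul_add, add_mul, mul_one, one_mul, smul_mul_assoc, mul_smul_comm, E_mul, fww, zero_smul, smul_zero]
      module
    rw [e1, Matrix.det_mul, det_one_add_E, det_one_add_E, fvw, fwv]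
    linear_combination cc
  · simp only [mul_add, add_mul, mul_sub, sub_mul, mul_one, one_mul, smul_mul_assoc, mul_smul_comm, E_mul, fvv, fww, fvw,
      fwv, fev, few, fve, fwe, zero_smul, smul_zero, one_smul, smul_smul, ← hε]
    match_scalars
    all_goals try linear_combination 4 * ε⁻¹ * εε
    all_goals ring
  · have h1 := ((IsAdj.one (q := q)).add hF ((((IsAdj.E hF 1 v v).add hF (IsAdj.E hF (-1) v w)).add hF
      (IsAdj.E hF (-1) w v)).add hF (IsAdj.E hF 1 w w))).add hF (IsAdj.E hF (-(2 * ε⁻¹)) e e)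
    rw [one_pow, neg_pow_q hF, one_pow, neg_pow_q hF, mul_pow, twoq, εi] at h1
    convert h1 using 1 <;> module
  · have e1 : 1 + (E q v v - E q v w - E q w v + E q w w) + (-(2 * ε⁻¹)) • E q e e =
        (1 + (1 : F) • E q (v - w) (v - w)) * (1 + (-(2 * ε⁻¹)) • E q e e) := by
      simp only [mul_add, add_mul, mul_sub, sub_mul, mul_one, one_mul, smul_mul_assoc, mul_smul_comm, E_mul, fww, fev,
        few, zero_smul, smul_zero, E_sub_left hF, E_sub_right hF]
      module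
    rw [e1, Matrix.det_mul, det_one_add_E, det_one_add_E, ← hε, herm_sub_left, herm_sub_right hF, herm_sub_right hF, fvw,
      fwv, fvv, fww]
    linear_combination 2 * εε
  · simp only [mul_add, add_mul, mul_sub, sub_mul, mul_one, one_mul, smul_mul_assoc, mul_smul_comm, E_mul, fvv, fww, fvw,
      fwv, fev, few, fve, fwe, zero_smul, smul_zero, one_smul, smul_smul, ← hε]
    module
  · simp only [map_add, map_sub, map_one, PhiM_smul, hE hv hv, hE hv hw, hE hw hv, hE hw hw, hE he he, map_neg, map_mul,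
      map_inv₀, hεm, map_ofNat]
  · simp only [map_add, map_sub, map_one, PhiM_smul, hE hv hv, hE hv hw, hE hw hv, hE hw hw, hE he he, map_neg, map_mul,
      map_inv₀, hεm, map_ofNat, mul_add, add_mul, mul_sub, sub_mul, mul_one, one_mul, smul_mul_assoc, mul_smul_comm,
      E_mul, fvv, fww, fvw, fwv, fev, few, fve, fwe, zero_smul, smul_zero, one_smul, smul_smul]
    module
  · intro d hd
    have e0 : e ≠ 0 := by
      rintro rfl
      exact fee (herm_zero_left _)
    have v0 : v ≠ 0 := by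
      rintro rfl
      rw [herm_zero_left] at fvw
      exact zero_ne_one fvw
    have h1 := congrArg (fun M => M *ᵥ e) hd
    have h2 := congrArg (fun M => M *ᵥ v) hd
    simp only [map_mul, map_add, map_sub, map_one, PhiM_smul, hE hv hw, hE hw hv, Matrix.smul_mulVec,
      ← Matrix.mulVec_mulVec, Matrix.add_mulVec, Matrix.one_mulVec, E_mulVec, Matrix.mulVec_add, Matrix.mulVec_smul,
      fev, few, fve, fwe, fvv, fww, fvw, fwv, zero_smul, smul_zero, add_zero, one_smul] at h1 h2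
    have hd1 : d = 1 := by
      by_contra hne
      apply e0
      have : (1 - d) • e = 0 := by rw [sub_smul, one_smul, ← h1, sub_self]
      exact (smul_eq_zero.1 this).resolve_left (fun h => hne (sub_eq_zero.1 h).symm)
    rw [hd1] at h2
    have h3 : (φ (c ^ 2) - c ^ 2) • v = 0 := by
      rw [map_pow, ← sub_eq_zero.2 h2]
      module
    have h4 := (smul_eq_zero.1 h3).resolve_right v0
    exact hc2 ((hφ _).2 (sub_eq_zero.1 h4))

/-- **(b)**: `q` odd, `F₀` of index 2, orthogonal type -/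
theorem su_C5b (hF : Fintype.card F = q ^ 2) (hn : 3 ≤ n) (hq : Odd q)
    (hF₀ : Fintype.card F = Nat.card F₀ ^ 2) (hform : IsFormRationalStructure (hermForm n F q) F₀ 1 P)
    (hA : m.hat A ≤ subfieldSubgroup F₀ P) : False := by
  have hs : Nat.card F₀ = q := by
    rw [hF] at hF₀
    exact (Nat.pow_left_injective two_ne_zero hF₀).symm
  have h2 := two_ne hF hq
  have hφ : ∀ a, a ∈ F₀ ↔ (conj hF : F →+* F) a = a := by
    intro a
    rw [H914.mem_subfield_iff_pow, hs]
    rfl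
  have hφq : ∀ a, (conj hF : F →+* F) a = a ^ q := fun a => rfl
  obtain ⟨φ, hφe⟩ : ∃ φ : F →+* F, φ = (conj hF : F →+* F) := ⟨_, rfl⟩
  rw [← hφe] at hφ hφq
  have hl : ∃ l : F, l ∈ F₀ ∧ l + l ^ q ≠ 0 := by
    refine ⟨1, F₀.one_mem, ?_⟩
    rw [one_pow]
    intro h3
    apply h2
    linear_combination h3
  obtain ⟨c, hc0, hcc⟩ := exists_trace_zero_ne hF
  have hcq : c ^ q = -c := by linear_combination hcc
  obtain ⟨v, w, e, hv, hw, he, fvv, fww, fvw, fev, few, fee⟩ := exists_vwe hF hn hform hl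
  have fwv : hermForm n F q w v = 1 := by rw [herm_swap hF v w, fvw, one_pow]
  have fve := herm_eq_zero_swap hF fev
  have fwe := herm_eq_zero_swap hF few
  have hE := fun {a b : Fin n → F} (ha : Rt F₀ P a) (hb : Rt F₀ P b) => E_rat (q := q) hφ hform ha hb
  set ε := hermForm n F q e e with hε
  have kε : ε ^ q = ε := herm_self_pow hF e
  have hεm : φ ε = ε := (hφ _).1 (form_mem1 hform he he)
  have hcm : φ c = -c := (hφq c).trans hcq
  have twoq : (2 : F) ^ q = 2 := by
    have : (2 : F) = 1 + 1 := by norm_num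
    rw [this, add_pow_q hF, one_pow]
  have h22 : (2 : F) * 2⁻¹ = 1 := mul_inv_cancel₀ h2
  have twoi : ((2 : F)⁻¹) ^ q = 2⁻¹ := by rw [inv_pow, twoq]
  refine kill_mat h m hφ hA (X := 1 + c • E q e v + c • E q v e + (c * c * ε * 2⁻¹) • E q v v)
    (Y := 1 + (-c) • E q e v + (-c) • E q v e + (c * c * ε * 2⁻¹) • E q v v)
    (G := 1 + (-2 : F) • E q v w + (-2 : F) • E q w v) ?_ ?_ ?_ ?_ ?_ ?_ ?_ ?_ ?_ ?_ ?_
  · simp only [mul_add, add_mul, mul_one, one_mul, smul_mul_assoc, mul_smul_comm, E_mul, fvv, fev, fve, ← hε, zero_smul,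
      smul_zero, one_smul, smul_smul]
    match_scalars
    · ring
    · ring
    · ring
    · linear_combination (c * c * ε) * h22
  · simp only [mul_add, add_mul, mul_one, one_mul, smul_mul_assoc, mul_smul_comm, E_mul, fvv, fev, fve, ← hε, zero_smul,
      smul_zero, one_smul, smul_smul]
    match_scalars
    · ring
    · ring
    · ring
    · linear_combination (c * c * ε) * h22
  · have h1 := (((IsAdj.one (q := q)).add hF (IsAdj.E hF c e v)).add hF (IsAdj.E hF c v e)).add hF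
      (IsAdj.E hF (c * c * ε * 2⁻¹) v v)
    rw [mul_pow, mul_pow, mul_pow, hcq, kε, twoi] at h1
    convert h1 using 1
    module
  · have e1 : 1 + c • E q e v + c • E q v e + (c * c * ε * 2⁻¹) • E q v v =
        (1 + c • E q e v) * (1 + c • E q v e) * (1 + (c * c * ε * 2⁻¹) • E q v v) := by
      simp only [mul_add, add_mul, mul_one, one_mul, smul_mul_assoc, mul_smul_comm, E_mul, fvv, fve, zero_smul, smul_zero,
        mul_zero, zero_mul]
      module
    rw [e1, Matrix.det_mul, Matrix.det_mul, det_one_add_E, det_one_add_E, det_one_add_E, fev, fve, fvv]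
    ring
  · simp only [mul_add, add_mul, mul_one, one_mul, smul_mul_assoc, mul_smul_comm, E_mul, fvv, fww, fvw, fwv, zero_smul,
      smul_zero, one_smul, smul_smul]
    module
  · have h1 := ((IsAdj.one (q := q)).add hF (IsAdj.E hF (-2) v w)).add hF (IsAdj.E hF (-2) w v)
    rw [neg_pow_q hF, twoq] at h1
    convert h1 using 1
    module
  · have e1 : 1 + (-2 : F) • E q v w + (-2 : F) • E q w v = (1 + (-2 : F) • E q v w) * (1 + (-2 : F) • E q w v) := by
      simp only [mul_add, add_mul, mul_one, one_mul, smul_mul_assoc, mul_smul_comm, E_mul, fww, zero_smul, smul_zero]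
      module
    rw [e1, Matrix.det_mul, det_one_add_E, det_one_add_E, fvw, fwv]
    norm_num
  · simp only [mul_add, add_mul, mul_one, one_mul, smul_mul_assoc, mul_smul_comm, E_mul, fvv, fww, fvw, fwv, fev, few,
      fve, fwe, zero_smul, smul_zero, one_smul, smul_smul]
    module
  · simp only [map_add, map_one, PhiM_smul, hE hv hw, hE hw hv, map_neg, map_ofNat]
  · simp only [map_add, map_one, PhiM_smul, hE he hv, hE hv he, hE hv hv, hcm, hεm, map_mul, map_inv₀, map_ofNat,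
      mul_add, add_mul, mul_one, one_mul, smul_mul_assoc, mul_smul_comm, E_mul, fvv, fev, fve, ← hε, zero_smul,
      smul_zero, one_smul, smul_smul]
    module
  · intro d hd
    have h1 := congrArg (fun M => M *ᵥ v) hd
    have h3 := congrArg (fun M => hermForm n F q (M *ᵥ w) e) hd
    simp only [map_mul, map_add, map_one, PhiM_smul, hE he hv, hE hv he, hE hv hv, hcm, hεm, map_inv₀, map_ofNat,
      Matrix.smul_mulVec, ← Matrix.mulVec_mulVec, Matrix.add_mulVec, Matrix.one_mulVec, E_mulVec, Matrix.mulVec_add,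
      Matrix.mulVec_smul, fev, few, fve, fwe, fvv, fww, fvw, fwv, ← hε, zero_smul, smul_zero, add_zero, one_smul,
      herm_add_left, herm_smul_left, mul_zero, zero_add, mul_one] at h1 h3
    have v0 : v ≠ 0 := by
      rintro rfl
      rw [herm_zero_left] at fvw
      exact zero_ne_one fvw
    have hd1 : d = 1 := by
      by_contra hne
      apply v0
      have : (1 - d) • v = 0 := by rw [sub_smul, one_smul, ← h1, sub_self]
      exact (smul_eq_zero.1 this).resolve_left (fun h => hne (sub_eq_zero.1 h).symm)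
    rw [hd1] at h3
    have h4 : 2 * (2 * (c * ε)) = 0 := by linear_combination -h3
    exact mul_ne_zero h2 (mul_ne_zero h2 (mul_ne_zero hc0 fee)) h4

/-- **(c)**, `q` odd: `F₀` of index 2, symplectic type -/
theorem su_C5c_odd (hF : Fintype.card F = q ^ 2) (hn : 3 ≤ n) (hq : Odd q)
    (hF₀ : Fintype.card F = Nat.card F₀ ^ 2) {ζ : F} (hζ : ζ ≠ 0) (hζq : ζ + ζ ^ q = 0)
    (hform : IsFormRationalStructure (hermForm n F q) F₀ ζ P)
    (halt : ∀ u, Rt F₀ P u → hermForm n F q u u = 0)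
    (hA : m.hat A ≤ subfieldSubgroup F₀ P) : False := by
  have hs : Nat.card F₀ = q := by
    rw [hF] at hF₀
    exact (Nat.pow_left_injective two_ne_zero hF₀).symm
  have h2 := two_ne hF hq
  have hφ : ∀ a, a ∈ F₀ ↔ (conj hF : F →+* F) a = a := by
    intro a
    rw [H914.mem_subfield_iff_pow, hs]
    rfl
  have hφq : ∀ a, (conj hF : F →+* F) a = a ^ q := fun a => rfl
  obtain ⟨φ, hφe⟩ : ∃ φ : F →+* F, φ = (conj hF : F →+* F) := ⟨_, rfl⟩
  rw [← hφe] at hφ hφq
  have hzq : ζ ^ q = -ζ := by linear_combination hζq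
  obtain ⟨v, w, e, hv, hw, he, fvw, e0, fev, few⟩ := exists_c hF hn hζ hform (fun a ha => by rw [← hφq]; exact (hφ a).1 ha)
  have hφz : φ ζ = -ζ := (hφq ζ).trans hzq
  have fvv := halt v hv
  have fww := halt w hw
  have fee := halt e he
  have fve := herm_eq_zero_swap hF fev
  have fwe := herm_eq_zero_swap hF few
  have fwv : ζ * hermForm n F q w v = -1 := by
    have h1 := congrArg (fun t => t ^ q) fvw
    simp only [mul_pow, one_pow, hzq, ← herm_swap hF v w] at h1
    linear_combination -h1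
  have hE := fun {a b : Fin n → F} (ha : Rt F₀ P a) (hb : Rt F₀ P b) => PhiM_E (q := q) hφ hform ha hb
  have hE2 : ∀ {a b : Fin n → F} (ha : Rt F₀ P a) (hb : Rt F₀ P b), PhiM φ P (E q a b) = -E q a b := by
    intro a b ha hb
    have h1 := hE ha hb
    rw [PhiM_smul, hφq, hzq, neg_smul, neg_eq_iff_eq_neg, ← smul_neg] at h1
    exact smul_right_injective _ hζ h1
  have twoq : (2 : F) ^ q = 2 := by
    have : (2 : F) = 1 + 1 := by norm_num
    rw [this, add_pow_q hF, one_pow]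
  refine kill_mat h m hφ hA (X := 1 + (1 : F) • E q e v + (-1 : F) • E q v e)
    (Y := 1 + (-1 : F) • E q e v + (1 : F) • E q v e)
    (G := 1 + (-2 * ζ) • E q v w + (2 * ζ) • E q w v) ?_ ?_ ?_ ?_ ?_ ?_ ?_ ?_ ?_ ?_ ?_
  · simp only [mul_add, add_mul, mul_one, one_mul, smul_mul_assoc, mul_smul_comm, E_mul, fvv, fev, fve, fee, zero_smul,
      smul_zero, one_smul, smul_smul]
    module
  · simp only [mul_add, add_mul, mul_one, one_mul, smul_mul_assoc, mul_smul_comm, E_mul, fvv, fev, fve, fee, zero_smul,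
      smul_zero, one_smul, smul_smul]
    module
  · have h1 := ((IsAdj.one (q := q)).add hF (IsAdj.E hF 1 e v)).add hF (IsAdj.E hF (-1) v e)
    rw [neg_pow_q hF, one_pow] at h1
    convert h1 using 1
    module
  · have e1 : 1 + (1 : F) • E q e v + (-1 : F) • E q v e = (1 + (1 : F) • E q e v) * (1 + (-1 : F) • E q v e) := by
      simp only [mul_add, add_mul, mul_one, one_mul, smul_mul_assoc, mul_smul_comm, E_mul, fvv, zero_smul, smul_zero]
      module
    rw [e1, Matrix.det_mul, det_one_add_E, det_one_add_E, fev, fve]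
    ring
  · simp only [mul_add, add_mul, mul_one, one_mul, smul_mul_assoc, mul_smul_comm, E_mul, fvv, fww, zero_smul,
      smul_zero, one_smul, smul_smul]
    match_scalars
    · ring
    · linear_combination (4 * ζ) * fvw
    · linear_combination (4 * ζ) * fwv
  · have h1 := ((IsAdj.one (q := q)).add hF (IsAdj.E hF (-2 * ζ) v w)).add hF (IsAdj.E hF (2 * ζ) w v)
    rw [mul_pow, mul_pow, neg_pow_q hF, twoq, hzq] at h1
    convert h1 using 1
    module
  · have e1 : 1 + (-2 * ζ) • E q v w + (2 * ζ) • E q w v = (1 + (-2 * ζ) • E q v w) * (1 + (2 * ζ) • E q w v) := by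
      simp only [mul_add, add_mul, mul_one, one_mul, smul_mul_assoc, mul_smul_comm, E_mul, fww, zero_smul, smul_zero]
      module
    rw [e1, Matrix.det_mul, det_one_add_E, det_one_add_E]
    have k1 : 1 + -2 * ζ * hermForm n F q v w = -1 := by linear_combination -2 * fvw
    have k2 : 1 + 2 * ζ * hermForm n F q w v = -1 := by linear_combination 2 * fwv
    rw [k1, k2]
    norm_num
  · simp only [mul_add, add_mul, mul_one, one_mul, smul_mul_assoc, mul_smul_comm, E_mul, fvv, fww, fev, few,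
      fve, fwe, zero_smul, smul_zero, one_smul, smul_smul]
    match_scalars
    all_goals first
      | ring1
      | linear_combination 2 * fwv
      | linear_combination 2 * fvw
  · simp only [map_add, map_one, PhiM_smul, hE2 hv hw, hE2 hw hv, map_neg, map_mul, map_ofNat, hφz]
    module
  · simp only [map_add, map_one, PhiM_smul, hE2 he hv, hE2 hv he, map_neg,
      mul_add, add_mul, mul_one, one_mul, smul_mul_assoc, mul_smul_comm, E_mul, fvv, fev, fve, fee, zero_smul,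
      smul_zero, one_smul, smul_smul, mul_neg, neg_mul]
    module
  · intro d hd
    have h1 := congrArg (fun M => M *ᵥ e) hd
    have h3 := congrArg (fun M => M *ᵥ w) hd
    simp only [map_mul, map_add, map_one, PhiM_smul, hE2 he hv, hE2 hv he, map_neg,
      Matrix.smul_mulVec, ← Matrix.mulVec_mulVec, Matrix.add_mulVec, Matrix.one_mulVec, E_mulVec, Matrix.mulVec_add,
      Matrix.mulVec_smul, Matrix.neg_mulVec, Matrix.mulVec_neg, fev, few, fve, fwe, fvv, fww, fee, zero_smul, smul_zero,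
      add_zero, one_smul, neg_zero, mul_zero, zero_add, mul_one] at h1 h3
    have hd1 : d = 1 := by
      by_contra hne
      apply e0
      have : (1 - d) • e = 0 := by rw [sub_smul, one_smul, ← h1, sub_self]
      exact (smul_eq_zero.1 this).resolve_left (fun h => hne (sub_eq_zero.1 h).symm)
    rw [hd1, ← sub_eq_zero] at h3
    have h4 : (2 * (2 * hermForm n F q w v)) • e = 0 := by
      rw [← neg_eq_zero, ← h3]
      module
    rcases smul_eq_zero.1 h4 with h5 | h5
    · have h6 : hermForm n F q w v ≠ 0 := by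
        intro h7
        rw [h7, mul_zero] at fwv
        exact (neg_ne_zero.2 one_ne_zero) fwv.symm
      exact mul_ne_zero h2 (mul_ne_zero h2 h6) h5
    · exact e0 h5

/-- **(c)**, `q` even: `F₀` of index 2, symplectic type -/
theorem su_C5c_even (hF : Fintype.card F = q ^ 2) (hn : 3 ≤ n) (hq : ¬ Odd q)
    (hF₀ : Fintype.card F = Nat.card F₀ ^ 2) {ζ : F} (hζ : ζ ≠ 0) (hζq : ζ + ζ ^ q = 0)
    (hform : IsFormRationalStructure (hermForm n F q) F₀ ζ P)
    (halt : ∀ u, Rt F₀ P u → hermForm n F q u u = 0)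
    (hA : m.hat A ≤ subfieldSubgroup F₀ P) : False := by
  have hs : Nat.card F₀ = q := by
    rw [hF] at hF₀
    exact (Nat.pow_left_injective two_ne_zero hF₀).symm
  have h2 : (2 : F) = 0 := two_eq hF hq
  have hφ : ∀ a, a ∈ F₀ ↔ (conj hF : F →+* F) a = a := by
    intro a
    rw [H914.mem_subfield_iff_pow, hs]
    rfl
  have hφq : ∀ a, (conj hF : F →+* F) a = a ^ q := fun a => rfl
  obtain ⟨φ, hφe⟩ : ∃ φ : F →+* F, φ = (conj hF : F →+* F) := ⟨_, rfl⟩
  rw [← hφe] at hφ hφq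
  have hzm : ζ ∈ F₀ := by
    rw [hφ, hφq]
    linear_combination hζq - ζ * h2
  have hform1 : IsFormRationalStructure (hermForm n F q) F₀ 1 P := by
    intro u v hu hv
    have h1 := F₀.mul_mem (F₀.inv_mem hzm) (hform u v hu hv)
    rwa [inv_mul_cancel_left₀ hζ, ← one_mul (hermForm n F q _ _)] at h1
  have hq0 : ∀ a ∈ F₀, a ^ q = a := fun a ha => by rw [← hφq]; exact (hφ a).1 ha
  obtain ⟨v, w, v', hv, hw, hv', fvw, v'0, fv'v, fv'w⟩ := exists_c hF hn one_ne_zero hform1 hq0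
  rw [one_mul] at fvw
  have fwv : hermForm n F q w v = 1 := by rw [herm_swap hF v w, fvw, one_pow]
  obtain ⟨w1, hw1, fv'w1⟩ := exists_pair (P := P) (F₀ := F₀) hF v'0
  have fvv := halt v hv
  have fww := halt w hw
  have fv'v' := halt v' hv'
  have fvv' := herm_eq_zero_swap hF fv'v
  have fwv' := herm_eq_zero_swap hF fv'w
  obtain ⟨w2, hw2⟩ : ∃ w2, w2 = w1 - (hermForm n F q w1 w • v + hermForm n F q w1 v • w) := ⟨_, rfl⟩
  have hw2r : Rt F₀ P w2 := by
    rw [hw2]
    exact hw1.sub ((hv.smul (form_mem1 hform1 hw1 hw)).add (hw.smul (form_mem1 hform1 hw1 hv)))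
  have fw2v : hermForm n F q w2 v = 0 := by
    rw [hw2]
    simp only [herm_sub_left, herm_add_left, herm_smul_left, fvv, fwv]
    ring
  have fw2w : hermForm n F q w2 w = 0 := by
    rw [hw2]
    simp only [herm_sub_left, herm_add_left, herm_smul_left, fww, fvw]
    ring
  have fv'w2 : hermForm n F q v' w2 ≠ 0 := by
    rw [hw2]
    simp only [herm_sub_right hF, herm_add_right hF, herm_smul_right, fv'v, fv'w, mul_zero, add_zero, sub_zero]
    exact fv'w1
  obtain ⟨w', hw'⟩ : ∃ w', w' = (hermForm n F q v' w2)⁻¹ • w2 := ⟨_, rfl⟩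
  have hcm := F₀.inv_mem (form_mem1 hform1 hv' hw2r)
  have hw'r : Rt F₀ P w' := by
    rw [hw']
    exact hw2r.smul hcm
  have fw'v : hermForm n F q w' v = 0 := by rw [hw', herm_smul_left, fw2v, mul_zero]
  have fw'w : hermForm n F q w' w = 0 := by rw [hw', herm_smul_left, fw2w, mul_zero]
  have fv'w' : hermForm n F q v' w' = 1 := by rw [hw', herm_smul_right, hq0 _ hcm, inv_mul_cancel₀ fv'w2]
  have fw'v' : hermForm n F q w' v' = 1 := by rw [herm_swap hF v' w', fv'w', one_pow]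
  have fw'w' := halt w' hw'r
  have fvw' := herm_eq_zero_swap hF fw'v
  have fww' := herm_eq_zero_swap hF fw'w
  have hE := fun {a b : Fin n → F} (ha : Rt F₀ P a) (hb : Rt F₀ P b) => E_rat (q := q) hφ hform1 ha hb
  obtain ⟨l, hl⟩ := exists_not_fixed hF
  have hl0 : l ≠ 0 := by
    rintro rfl
    exact hl (zero_pow_q hF)
  obtain ⟨s, hs'⟩ : ∃ s, s = l ^ q / l := ⟨_, rfl⟩
  have hs0 : s ≠ 0 := by
    rw [hs']
    exact div_ne_zero (pow_ne_zero _ hl0) hl0
  have hs1 : s ≠ 1 := by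
    rw [hs']
    intro h1
    rw [div_eq_one_iff_eq hl0] at h1
    exact hl h1
  have hsq : s ^ q = s⁻¹ := by
    rw [hs', div_pow, pow_q_pow_q hF, inv_div]
  have hsiq : (s⁻¹) ^ q = s := by rw [inv_pow, hsq, inv_inv]
  have ss : s * s⁻¹ = 1 := mul_inv_cancel₀ hs0
  have hφs : φ s = s⁻¹ := (hφq s).trans hsq
  have hdd : ∀ M : Matrix (Fin n) (Fin n) F, M + M = 0 := fun M => by rw [← two_smul F M, h2, zero_smul]
  have faa : hermForm n F q (v + v') (v + v') = 0 := by
    simp only [herm_add_left, herm_add_right hF, fvv, fvv', fv'v, fv'v', add_zero]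
  have fbb : hermForm n F q (w + w') (w + w') = 0 := by
    simp only [herm_add_left, herm_add_right hF, fww, fww', fw'w, fw'w', add_zero]
  have fab : hermForm n F q (v + v') (w + w') = 0 := by
    simp only [herm_add_left, herm_add_right hF, fvw, fvw', fv'w, fv'w', add_zero, zero_add]
    linear_combination h2
  have fba := herm_eq_zero_swap hF fab
  have hPX : PhiM φ P (1 + (s - 1) • E q v w + (s - 1) • E q w v + (s⁻¹ - 1) • E q v' w' + (s⁻¹ - 1) • E q w' v') =
      1 + (s⁻¹ - 1) • E q v w + (s⁻¹ - 1) • E q w v + (s - 1) • E q v' w' + (s - 1) • E q w' v' := by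
    simp only [map_add, map_one, PhiM_smul, hE hv hw, hE hw hv, hE hv' hw'r, hE hw'r hv', map_sub, map_inv₀, hφs, inv_inv]
  have hXY : (1 + (s - 1) • E q v w + (s - 1) • E q w v + (s⁻¹ - 1) • E q v' w' + (s⁻¹ - 1) • E q w' v') *
      (1 + (s⁻¹ - 1) • E q v w + (s⁻¹ - 1) • E q w v + (s - 1) • E q v' w' + (s - 1) • E q w' v') = 1 := by
    simp only [mul_add, add_mul, mul_one, one_mul, smul_mul_assoc, mul_smul_comm, E_mul, fvv, fww, fvw, fwv, fv'v, fv'w,
      fv'v', fvv', fwv', fw'v, fw'w, fv'w', fw'v', fw'w', fvw', fww', zero_smul, smul_zero, one_smul, smul_smul]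
    match_scalars
    all_goals first
      | ring1
      | linear_combination ss
  have hYX : (1 + (s⁻¹ - 1) • E q v w + (s⁻¹ - 1) • E q w v + (s - 1) • E q v' w' + (s - 1) • E q w' v') *
      (1 + (s - 1) • E q v w + (s - 1) • E q w v + (s⁻¹ - 1) • E q v' w' + (s⁻¹ - 1) • E q w' v') = 1 := by
    simp only [mul_add, add_mul, mul_one, one_mul, smul_mul_assoc, mul_smul_comm, E_mul, fvv, fww, fvw, fwv, fv'v, fv'w,
      fv'v', fvv', fwv', fw'v, fw'w, fv'w', fw'v', fw'w', fvw', fww', zero_smul, smul_zero, one_smul, smul_smul]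
    match_scalars
    all_goals first
      | ring1
      | linear_combination ss
  refine kill_mat h m hφ hA
    (X := 1 + (s - 1) • E q v w + (s - 1) • E q w v + (s⁻¹ - 1) • E q v' w' + (s⁻¹ - 1) • E q w' v')
    (Y := 1 + (s⁻¹ - 1) • E q v w + (s⁻¹ - 1) • E q w v + (s - 1) • E q v' w' + (s - 1) • E q w' v')
    (G := 1 + (1 : F) • E q (v + v') (w + w') + (1 : F) • E q (w + w') (v + v')) hXY hYX ?_ ?_ ?_ ?_ ?_ ?_ ?_ ?_ ?_
  · have h1 := ((((IsAdj.one (q := q)).add hF (IsAdj.E hF (s - 1) v w)).add hF (IsAdj.E hF (s - 1) w v)).add hF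
      (IsAdj.E hF (s⁻¹ - 1) v' w')).add hF (IsAdj.E hF (s⁻¹ - 1) w' v')
    rw [sub_pow_q hF, hsq, one_pow, sub_pow_q hF, hsiq, one_pow] at h1
    convert h1 using 1
    module
  · have e1 : 1 + (s - 1) • E q v w + (s - 1) • E q w v + (s⁻¹ - 1) • E q v' w' + (s⁻¹ - 1) • E q w' v' =
        (1 + (s - 1) • E q v w) * (1 + (s - 1) • E q w v) * (1 + (s⁻¹ - 1) • E q v' w') * (1 + (s⁻¹ - 1) • E q w' v') := by
      simp only [mul_add, add_mul, mul_one, one_mul, smul_mul_assoc, mul_smul_comm, E_mul, fvv, fww, fv'v, fv'w,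
        fv'v', fvv', fwv', fw'v, fw'w, fw'w', fvw', fww', zero_smul, smul_zero, mul_zero, zero_mul]
      module
    rw [e1, Matrix.det_mul, Matrix.det_mul, Matrix.det_mul, det_one_add_E, det_one_add_E, det_one_add_E, det_one_add_E,
      fvw, fwv, fv'w', fw'v']
    linear_combination (s * s⁻¹ + 1) * ss
  · simp only [mul_add, add_mul, mul_one, one_mul, E_mul, faa, fbb, fab, fba, zero_smul, one_smul, add_zero]
    calc _ = 1 + (E q (v + v') (w + w') + E q (v + v') (w + w')) + (E q (w + w') (v + v') + E q (w + w') (v + v')) := by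
          abel
      _ = 1 := by rw [hdd, hdd, add_zero, add_zero]
  · have h1 := ((IsAdj.one (q := q)).add hF (IsAdj.E hF 1 (v + v') (w + w'))).add hF (IsAdj.E hF 1 (w + w') (v + v'))
    rw [one_pow] at h1
    convert h1 using 1
    module
  · have e1 : 1 + (1 : F) • E q (v + v') (w + w') + (1 : F) • E q (w + w') (v + v') =
        (1 + (1 : F) • E q (v + v') (w + w')) * (1 + (1 : F) • E q (w + w') (v + v')) := by
      simp only [mul_add, add_mul, mul_one, one_mul, smul_mul_assoc, mul_smul_comm, E_mul, fbb, zero_smul, smul_zero]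
      module
    rw [e1, Matrix.det_mul, det_one_add_E, det_one_add_E, fab, fba]
    ring
  · simp only [E_add_left hF, E_add_right hF]
    simp only [mul_add, add_mul, mul_one, one_mul, smul_mul_assoc, mul_smul_comm, E_mul, fvv, fww, fvw, fwv, fv'v, fv'w,
      fv'v', fvv', fwv', fw'v, fw'w, fv'w', fw'v', fw'w', fvw', fww', zero_smul, smul_zero, one_smul, smul_smul, smul_add,
      add_zero, zero_add]
    match_scalars
    all_goals first
      | ring1
      | linear_combination (s - s⁻¹) * h2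
      | linear_combination (s⁻¹ - s) * h2
  · simp only [E_add_left hF, E_add_right hF, smul_add, map_add, map_one, PhiM_smul, hE hv hw, hE hv hw'r, hE hv' hw, hE hv' hw'r,
      hE hw hv, hE hw hv', hE hw'r hv, hE hw'r hv']
  · rw [hPX, hXY, hYX]
  · intro d hd
    rw [map_mul, hPX] at hd
    have h1 := congrArg (fun M => M *ᵥ v) hd
    have h3 := congrArg (fun M => M *ᵥ v') hd
    simp only [Matrix.smul_mulVec, ← Matrix.mulVec_mulVec, Matrix.add_mulVec, Matrix.one_mulVec, E_mulVec,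
      Matrix.mulVec_add, Matrix.mulVec_smul, fvv, fvw, fv'v, fv'w, fv'v', fvv', fv'w', fvw', zero_smul, smul_zero,
      add_zero, one_smul] at h1 h3
    have v0 : v ≠ 0 := by
      rintro rfl
      rw [herm_zero_left] at fvw
      exact zero_ne_one fvw
    have k1 : s⁻¹ * s⁻¹ - d * (s * s) = 0 := by
      refine (smul_eq_zero.1 (?_ : (s⁻¹ * s⁻¹ - d * (s * s)) • v = 0)).resolve_right v0
      rw [← sub_eq_zero.2 h1]
      module
    have k2 : s * s - d * (s⁻¹ * s⁻¹) = 0 := by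
      refine (smul_eq_zero.1 (?_ : (s * s - d * (s⁻¹ * s⁻¹)) • v' = 0)).resolve_right v'0
      rw [← sub_eq_zero.2 h3]
      module
    have k3 : s ^ 8 = 1 := by
      have k5 : 1 - d * s ^ 4 = 0 := by linear_combination s ^ 2 * k1 - (s * s⁻¹ + 1) * ss
      have k6 : s ^ 4 - d = 0 := by linear_combination s ^ 2 * k2 + d * (s * s⁻¹ + 1) * ss
      linear_combination s ^ 4 * k6 - k5
    have k4 : ∀ a : F, a ^ 2 = 1 → a = 1 := by
      intro a ha
      have : (a - 1) ^ 2 = 0 := by linear_combination ha + (1 - a) * h2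
      exact sub_eq_zero.1 (pow_eq_zero_iff two_ne_zero |>.1 this)
    exact hs1 (k4 _ (k4 _ (k4 _ (by rw [← k3]; ring))))

/-- **(c)**: `F₀` of index 2, symplectic type -/
theorem su_C5c (hF : Fintype.card F = q ^ 2) (hn : 3 ≤ n) (hF₀ : Fintype.card F = Nat.card F₀ ^ 2) {ζ : F}
    (hζ : ζ ≠ 0) (hζq : ζ + ζ ^ q = 0) (hform : IsFormRationalStructure (hermForm n F q) F₀ ζ P)
    (halt : ∀ u : Fin n → F, (∀ i, u i ∈ F₀) →
      hermForm n F q ((P : Matrix (Fin n) (Fin n) F) *ᵥ u) ((P : Matrix (Fin n) (Fin n) F) *ᵥ u) = 0)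
    (hA : m.hat A ≤ subfieldSubgroup F₀ P) : False := by
  have halt' : ∀ u, Rt F₀ P u → hermForm n F q u u = 0 := by
    rintro _ ⟨u, hu, rfl⟩
    exact halt u hu
  by_cases hq : Odd q
  · exact su_C5c_odd h m hF hn hq hF₀ hζ hζq hform halt' hA
  · exact su_C5c_even h m hF hn hq hF₀ hζ hζq hform halt' hA

/-- **S3499-III-SU-C5**: the three subfield types of `InUnitaryPartialClass` -/
theorem su_C5 (hF : Fintype.card F = q ^ 2) (hn : 3 ≤ n) {M : Subgroup (GL (Fin n) F)}
    (hM : (∃ (F₀ : Subfield F) (r : ℕ) (P : GL (Fin n) F), r.Prime ∧ Odd r ∧ Fintype.card F = Nat.card F₀ ^ r ∧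
      IsFormRationalStructure (hermForm n F q) F₀ 1 P ∧ M = subfieldSubgroup F₀ P ⊓ GU n F q) ∨
    (∃ (F₀ : Subfield F) (P : GL (Fin n) F), Odd q ∧ Fintype.card F = Nat.card F₀ ^ 2 ∧
      IsFormRationalStructure (hermForm n F q) F₀ 1 P ∧ M = subfieldSubgroup F₀ P ⊓ GU n F q) ∨
    (∃ (F₀ : Subfield F) (P : GL (Fin n) F) (ζ : F), Even n ∧ Fintype.card F = Nat.card F₀ ^ 2 ∧ ζ ≠ 0 ∧
      ζ + ζ ^ q = 0 ∧ IsFormRationalStructure (hermForm n F q) F₀ ζ P ∧
      (∀ u : Fin n → F, (∀ i, u i ∈ F₀) →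
        hermForm n F q ((P : Matrix (Fin n) (Fin n) F) *ᵥ u) ((P : Matrix (Fin n) (Fin n) F) *ᵥ u) = 0) ∧
      M = subfieldSubgroup F₀ P ⊓ GU n F q)) (hA : m.hat A ≤ M) : False := by
  rcases hM with ⟨F₀, r, P, hr, hr2, hF₀, hform, rfl⟩ | ⟨F₀, P, hq, hF₀, hform, rfl⟩ |
    ⟨F₀, P, ζ, -, hF₀, hζ, hζq, hform, halt, rfl⟩
  · exact su_C5a h m hF hn hr hr2 hF₀ hform (hA.trans inf_le_left)
  · exact su_C5b h m hF hn hq hF₀ hform (hA.trans inf_le_left)
  · exact su_C5c h m hF hn hF₀ hζ hζq hform halt (hA.trans inf_le_left)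

end Cfsg.Agent.H511.EP
end

private theorem dce_3da80eee1c76 : _root_.True := by
  try have : _root_.True := by simp only [_root_.Cfsg.Agent.H511.EP.E.eq_1]
  exact _root_.True.intro
end

-- part: H821/EP/SpC3_mg
section
prune_inst 0x4004400200000000018000020001c62b2000422000800000001000004c18c0000000820b22001114a000044003000400000000000000000002004000118008010800000a0480000020000000000000000000000000000000000000000010000000000000
set_option linter.all false
open scoped Cfsg.Agent.FastGrp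

-- part: H821/EP/ExtE
section
/-!
# S3499, class 3 of the symplectic groups: the conjugates of the extension field by transvections

`V` a vector space over `K`, `φ` an alternating nondegenerate `K`-form, `ℓ : K → F` linear, `f = ℓ ∘ φ`, and
`T_v : x ↦ x + f(x, v) v`. Then `T_v κ T_v⁻¹ = κ + E_v(κ)` with `E_v(κ)(x) = f(x, κv) v − f(x, v) κv`.
-/

set_option autoImplicit false
set_option linter.unusedSectionVars false

namespace Cfsg.Agent.H821.EP

open Module Cfsg.Agent.H879 Cfsg.Agent.H879.ExtField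

section E

variable {F K V : Type*} [Field F] [Field K] [Algebra F K] [AddCommGroup V]
  [Module F V] [Module K V] [IsScalarTower F K V]

/-- The difference of `T_v κ T_v⁻¹` and `κ`. -/
def E (φ : V →ₗ[K] V →ₗ[K] K) (ℓ : K →ₗ[F] F) (v : V) (κ : K) (x : V) : V :=
  ℓ (φ x (κ • v)) • v - ℓ (φ x v) • (κ • v)

variable {φ : V →ₗ[K] V →ₗ[K] K} {ℓ : K →ₗ[F] F}

theorem E_self (halt : ∀ x, φ x x = 0) (v : V) (κ a : K) : E φ ℓ v κ (a • v) = 0 := by
  unfold E
  simp only [map_smul, LinearMap.smul_apply, halt, smul_zero, map_zero, zero_smul, sub_zero]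

theorem T_conj (halt : ∀ x, φ x x = 0) (v : V) (κ : K) (x : V) :
    κ • (x - ℓ (φ x v) • v) + ℓ (φ (κ • (x - ℓ (φ x v) • v)) v) • v = κ • x + E φ ℓ v κ x := by
  have h1 : φ (ℓ (φ x v) • v) v = 0 := by
    rw [← algebraMap_smul K (ℓ (φ x v)) v, φ.map_smul, LinearMap.smul_apply, halt, smul_zero]
  have h2 : φ (κ • (x - ℓ (φ x v) • v)) v = φ x (κ • v) := by
    rw [φ.map_smul, LinearMap.smul_apply, φ.map_sub, LinearMap.sub_apply, h1, sub_zero, (φ x).map_smul]
  rw [h2, smul_sub, smul_comm κ (ℓ (φ x v)) v]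
  unfold E
  abel

theorem eq_of_E (halt : ∀ x, φ x x = 0) {v w : V} (hv : v ≠ 0) {κ κ' : K}
    (h : ∀ y, κ • y + E φ ℓ w κ y = κ' • y + E φ ℓ v κ' y) :
    κ' = κ ∧ ∀ y, E φ ℓ w κ y = E φ ℓ v κ y := by
  have h1 : κ' = κ := by
    by_contra hne
    have hne' : κ' - κ ≠ 0 := sub_ne_zero.2 hne
    have h2 := h v
    have h3 : E φ ℓ v κ' v = 0 := by
      have := E_self (ℓ := ℓ) halt v κ' 1
      rwa [one_smul] at this
    rw [h3, add_zero] at h2
    have h4 : E φ ℓ w κ v = (κ' - κ) • v := by rw [sub_smul, ← h2]; abel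
    have h5 : v = ((κ' - κ)⁻¹ * (algebraMap F K (ℓ (φ v (κ • w))) - algebraMap F K (ℓ (φ v w)) * κ)) • w := by
      rw [mul_smul, sub_smul, mul_smul, algebraMap_smul, algebraMap_smul]
      have h6 : ℓ (φ v (κ • w)) • w - ℓ (φ v w) • (κ • w) = (κ' - κ) • v := h4
      rw [h6, smul_smul, inv_mul_cancel₀ hne', one_smul]
    have h7 : E φ ℓ w κ v = 0 := by
      rw [h5]
      exact E_self halt w κ _
    rw [h7] at h4
    exact hv ((smul_eq_zero.1 h4.symm).resolve_left hne')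
  subst h1
  exact ⟨rfl, fun y => add_left_cancel (h y)⟩

theorem E_map {g : V ≃ₗ[F] V} {σ : K ≃ₐ[F] K} (hg : ∀ (κ : K) x, g (κ • x) = σ κ • g x)
    (hf : ∀ x y, ℓ (φ (g x) (g y)) = ℓ (φ x y)) (v : V) (κ : K) (x : V) :
    g (E φ ℓ v κ x) = E φ ℓ (g v) (σ κ) (g x) := by
  unfold E
  rw [map_sub, g.map_smul, g.map_smul, hg, ← hg, hf, hf]

theorem E_conj {h m : V ≃ₗ[F] V} {σ : K ≃ₐ[F] K} (hh : ∀ (κ : K) x, h (κ • x) = κ • h x)
    (hhf : ∀ x y, ℓ (φ (h x) (h y)) = ℓ (φ x y)) (hm : ∀ (κ : K) x, m (κ • x) = σ κ • m x)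
    (hmf : ∀ x y, ℓ (φ (m x) (m y)) = ℓ (φ x y)) {κ₀ : K} (h0 : κ₀ ≠ 0) {c : F} (hc : c ≠ 0)
    (hsc : ∀ (u : V) (κ : K) x, E φ ℓ (κ₀ • u) κ x = c • E φ ℓ u κ x) {v : V} (hv : h v = κ₀ • v)
    (hE : ∀ (κ : K) x, E φ ℓ (m v) κ x = E φ ℓ v κ x) (κ : K) (x : V) :
    E φ ℓ (h (m (h⁻¹ v))) κ x = E φ ℓ v κ x := by
  have e1 : h⁻¹ v = κ₀⁻¹ • v := by
    have h1 : h (κ₀⁻¹ • v) = v := by rw [hh, hv, smul_smul, inv_mul_cancel₀ h0, one_smul]
    rw [← inv_apply_apply h (κ₀⁻¹ • v), h1]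
  have e2 : v = κ₀ • h⁻¹ v := by rw [e1, smul_smul, mul_inv_cancel₀ h0, one_smul]
  set u := h⁻¹ v with hu
  have h1 : ∀ (κ : K) x, E φ ℓ v κ x = c • E φ ℓ u κ x := by
    intro κ x
    have := hsc u κ x
    rwa [← e2] at this
  have h2 : ∀ (κ : K) x, E φ ℓ (m v) κ x = c • E φ ℓ (m u) κ x := by
    intro κ x
    have e3 := E_map hm hmf v (σ.symm κ) (m⁻¹ x)
    have e4 := E_map hm hmf u (σ.symm κ) (m⁻¹ x)
    rw [AlgEquiv.apply_symm_apply, apply_inv_apply] at e3 e4
    rw [← e3, ← e4, h1, map_smul]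
  have hh' : ∀ (κ : K) x, h (κ • x) = (AlgEquiv.refl : K ≃ₐ[F] K) κ • h x := hh
  have h3 : ∀ (κ : K) x, E φ ℓ (h v) κ x = c • E φ ℓ (h (m u)) κ x := by
    intro κ x
    have e3 := E_map hh' hhf v κ (h⁻¹ x)
    have e4 := E_map hh' hhf (m u) κ (h⁻¹ x)
    rw [apply_inv_apply] at e3 e4
    have e5 : (AlgEquiv.refl : K ≃ₐ[F] K) κ = κ := rfl
    rw [e5] at e3 e4
    rw [← e3, ← e4, ← hE κ, h2, map_smul]
  have h4 := h3 κ x
  rw [hv, hsc] at h4
  exact (smul_right_injective V hc h4).symm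

theorem exists_E_ne (hnd : ∀ x, x ≠ 0 → ∃ y, φ y x ≠ 0) (hl : ℓ ≠ 0) {v : V} (hv : v ≠ 0) {κ : K}
    (hκ : ∀ c : F, algebraMap F K c ≠ κ) : ∃ x, E φ ℓ v κ x ≠ 0 := by
  obtain ⟨y, hy⟩ := hnd v hv
  obtain ⟨k, hk⟩ : ∃ k, ℓ k ≠ 0 := by
    by_contra hc
    push Not at hc
    exact hl (LinearMap.ext hc)
  refine ⟨(k * (φ y v)⁻¹) • y, fun h0 => ?_⟩
  have h1 : φ ((k * (φ y v)⁻¹) • y) v = k := by
    rw [φ.map_smul, LinearMap.smul_apply, smul_eq_mul, mul_assoc, inv_mul_cancel₀ hy, mul_one]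
  unfold E at h0
  rw [h1, sub_eq_zero] at h0
  apply hκ ((ℓ k)⁻¹ * ℓ (φ ((k * (φ y v)⁻¹) • y) (κ • v)))
  have h2 : κ • v = (algebraMap F K ((ℓ k)⁻¹ * ℓ (φ ((k * (φ y v)⁻¹) • y) (κ • v)))) • v := by
    rw [algebraMap_smul, mul_smul, h0, smul_smul, inv_mul_cancel₀ hk, one_smul]
  have h3 : (κ - algebraMap F K ((ℓ k)⁻¹ * ℓ (φ ((k * (φ y v)⁻¹) • y) (κ • v)))) • v = 0 := by
    rw [sub_smul, ← h2, sub_self]
  exact (sub_eq_zero.1 ((smul_eq_zero.1 h3).resolve_right hv)).symm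

/-- `E_{cv} = c² E_v` for `c ∈ F` -/
theorem E_smul (c : F) (v : V) (κ : K) (x : V) : E φ ℓ (algebraMap F K c • v) κ x = (c * c) • E φ ℓ v κ x := by
  unfold E
  have e1 : φ x (κ • algebraMap F K c • v) = c • φ x (κ • v) := by
    rw [smul_comm κ, (φ x).map_smul, algebraMap_smul]
  have e2 : φ x (algebraMap F K c • v) = c • φ x v := by rw [(φ x).map_smul, algebraMap_smul]
  rw [e1, e2, ℓ.map_smul, ℓ.map_smul, algebraMap_smul, smul_comm κ c v, smul_eq_mul, smul_eq_mul]
  generalize ℓ (φ x (κ • v)) = s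
  generalize ℓ (φ x v) = t
  generalize κ • v = w
  module

/-- a functional with values `0, 1` at `1, κ` -/
theorem exists_dual (hl : ℓ ≠ 0) {κ : K} (hκ : ∀ c : F, algebraMap F K c ≠ κ) : ∃ a : K, ℓ a = 0 ∧ ℓ (a * κ) = 1 := by
  obtain ⟨a₀, ha₀⟩ : ∃ k, ℓ k ≠ 0 := by
    by_contra hc
    push Not at hc
    exact hl (LinearMap.ext hc)
  obtain ⟨a, ha, ha'⟩ : ∃ a : K, ℓ a = 0 ∧ ℓ (a * κ) ≠ 0 := by
    by_contra hcon
    push Not at hcon
    apply hκ ((ℓ a₀)⁻¹ * ℓ (a₀ * κ))
    apply ell_ext hl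
    intro k
    rw [smul_alg]
    have h1 := hcon (k - ((ℓ a₀)⁻¹ * ℓ k) • a₀) (by
      rw [map_sub, map_smul, smul_eq_mul, mul_comm (ℓ a₀)⁻¹, mul_assoc, inv_mul_cancel₀ ha₀, mul_one, sub_self])
    rw [sub_mul, smul_mul_assoc, map_sub, map_smul, smul_eq_mul, sub_eq_zero] at h1
    rw [h1]
    ring
  refine ⟨(ℓ (a * κ))⁻¹ • a, by rw [map_smul, ha, smul_zero], ?_⟩
  rw [smul_mul_assoc, map_smul, smul_eq_mul, inv_mul_cancel₀ ha']

/-- If `E_w = E_v` and `dim_F K ≥ 3`, then `w = ± v`. -/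
theorem eq_or_neg (hnd : ∀ x, x ≠ 0 → ∃ y, φ y x ≠ 0) (hl : ℓ ≠ 0)
    (hdim : 3 ≤ finrank F K) {v w : V} (hv : v ≠ 0) (hw : w ≠ 0) (hE : ∀ (κ : K) x, E φ ℓ w κ x = E φ ℓ v κ x) :
    w = v ∨ w = -v := by
  have hex : ∀ s : Finset K, s.card ≤ 2 → ∃ κ : K, κ ∉ Submodule.span F (s : Set K) := by
    intro s hs
    by_contra hcon
    push Not at hcon
    have h1 : Submodule.span F (s : Set K) = ⊤ := eq_top_iff.2 fun z _ => hcon z
    have h2 : finrank F (Submodule.span F (s : Set K)) ≤ s.card := finrank_span_finset_le_card (R := F) s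
    rw [h1, finrank_top] at h2
    omega
  classical
  have key : ∀ κ : K, (∀ c : F, algebraMap F K c ≠ κ) → ∃ α β : F, w = (algebraMap F K α + β • κ) • v := by
    intro κ hκ
    obtain ⟨a, ha, ha'⟩ := exists_dual hl hκ
    obtain ⟨y, hy⟩ := hnd w hw
    have h1 : ∀ b : K, φ ((a * (φ y w)⁻¹) • y) (b • w) = a * b := by
      intro b
      rw [φ.map_smul, LinearMap.smul_apply, (φ y).map_smul, smul_eq_mul, smul_eq_mul]
      field_simp
    have h2 := hE κ ((a * (φ y w)⁻¹) • y)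
    unfold E at h2
    rw [h1, ha', one_smul] at h2
    have h3 := h1 1
    rw [one_smul, mul_one] at h3
    rw [h3, ha, zero_smul, sub_zero] at h2
    refine ⟨ℓ (φ ((a * (φ y w)⁻¹) • y) (κ • v)), -ℓ (φ ((a * (φ y w)⁻¹) • y) v), h2.trans ?_⟩
    rw [add_smul, algebraMap_smul, neg_smul, neg_smul, smul_assoc, sub_eq_add_neg]
  -- `w = l v`
  obtain ⟨κ, hκ⟩ := hex {1} (by simp)
  have hκ' : ∀ c : F, algebraMap F K c ≠ κ := by
    rintro c rfl
    apply hκ
    rw [Algebra.algebraMap_eq_smul_one]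
    exact Submodule.smul_mem _ _ (Submodule.subset_span (by simp))
  obtain ⟨α, β, h1⟩ := key κ hκ'
  obtain ⟨κ₂, hκ₂⟩ := hex {1, κ} (Finset.card_le_two)
  have hκ₂' : ∀ c : F, algebraMap F K c ≠ κ₂ := by
    rintro c rfl
    apply hκ₂
    rw [Algebra.algebraMap_eq_smul_one]
    exact Submodule.smul_mem _ _ (Submodule.subset_span (by simp))
  obtain ⟨α₂, β₂, h2⟩ := key κ₂ hκ₂'
  have h3 : algebraMap F K α + β • κ = algebraMap F K α₂ + β₂ • κ₂ := by
    have : (algebraMap F K α + β • κ - (algebraMap F K α₂ + β₂ • κ₂)) • v = 0 := by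
      rw [sub_smul, ← h1, ← h2, sub_self]
    exact sub_eq_zero.1 ((smul_eq_zero.1 this).resolve_right hv)
  have hβ₂ : β₂ = 0 := by
    by_contra hne
    apply hκ₂
    have h4 : κ₂ = (β₂⁻¹ * (α - α₂)) • (1 : K) + (β₂⁻¹ * β) • κ := by
      have h5 : β₂ • κ₂ = (α - α₂) • (1 : K) + β • κ := by
        rw [sub_smul, ← Algebra.algebraMap_eq_smul_one, ← Algebra.algebraMap_eq_smul_one]
        linear_combination -h3
      rw [mul_smul, mul_smul, ← smul_add, ← h5, smul_smul, inv_mul_cancel₀ hne, one_smul]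
    rw [h4]
    exact Submodule.add_mem _ (Submodule.smul_mem _ _ (Submodule.subset_span (by simp)))
      (Submodule.smul_mem _ _ (Submodule.subset_span (by simp)))
  rw [hβ₂, zero_smul, add_zero] at h2
  -- `c² = 1`
  obtain ⟨x, hx⟩ := exists_E_ne hnd hl hv hκ'
  have h4 := hE κ x
  rw [h2, E_smul] at h4
  have h5 : (α₂ * α₂ - 1) • E φ ℓ v κ x = 0 := by rw [sub_smul, h4, one_smul, sub_self]
  have h6 : α₂ * α₂ - 1 = 0 := (smul_eq_zero.1 h5).resolve_right hx
  have h7 : (α₂ - 1) * (α₂ + 1) = 0 := by linear_combination h6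
  rcases mul_eq_zero.1 h7 with h8 | h8
  · left
    rw [h2, sub_eq_zero.1 h8, map_one, one_smul]
  · right
    rw [h2, eq_neg_of_add_eq_zero_left h8, map_neg, map_one, neg_smul, one_smul]

end E

section P

variable {F K V : Type*} [Field F] [Field K] [Algebra F K] [AddCommGroup V]
  [Module F V] [Module K V] [IsScalarTower F K V]

/-- The `K`-linear isometries of `φ`. -/
def PK (F : Type*) {K V : Type*} [Field F] [Field K] [Algebra F K] [AddCommGroup V]
    [Module F V] [Module K V] [IsScalarTower F K V] (φ : V →ₗ[K] V →ₗ[K] K) : Subgroup (V ≃ₗ[F] V) where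
  carrier := {g | (∀ (κ : K) x, g (κ • x) = κ • g x) ∧ ∀ x y, φ (g x) (g y) = φ x y}
  mul_mem' := by
    rintro a b ⟨ha, ha'⟩ ⟨hb, hb'⟩
    refine ⟨fun κ x => ?_, fun x y => ?_⟩
    · rw [LinearEquiv.mul_apply, LinearEquiv.mul_apply, hb, ha]
    · rw [LinearEquiv.mul_apply, LinearEquiv.mul_apply, ha', hb']
  one_mem' := ⟨fun _ _ => rfl, fun _ _ => rfl⟩
  inv_mem' := by
    rintro a ⟨ha, ha'⟩
    refine ⟨fun κ x => ?_, fun x y => ?_⟩
    · apply a.injective
      rw [apply_inv_apply, ha, apply_inv_apply]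
    · rw [← ha', apply_inv_apply, apply_inv_apply]

variable {φ : V →ₗ[K] V →ₗ[K] K} {ℓ : K →ₗ[F] F}

theorem skew_of (halt : ∀ x, φ x x = 0) (x y : V) : φ x y = - φ y x := by
  have := halt (x + y)
  simp only [map_add, LinearMap.add_apply, halt, zero_add, add_zero] at this
  exact eq_neg_of_add_eq_zero_right this

/-- The transvection over `K` as a linear automorphism over `F`. -/
def tvE (F : Type*) {K V : Type*} [Field F] [Field K] [Algebra F K] [AddCommGroup V]
    [Module F V] [Module K V] [IsScalarTower F K V] {φ : V →ₗ[K] V →ₗ[K] K} (halt : ∀ x, φ x x = 0)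
    (v : V) (l : K) : V ≃ₗ[F] V where
  toFun := kt φ v l
  invFun := kt φ v (-l)
  map_add' := fun x y => by
    unfold kt
    simp only [map_add, LinearMap.add_apply]
    module
  map_smul' := fun c x => by
    unfold kt
    rw [RingHom.id_apply, ← algebraMap_smul K c x, φ.map_smul, LinearMap.smul_apply,
      ← algebraMap_smul K c (x + _)]
    module
  left_inv := fun x => by
    unfold kt
    simp only [map_add, LinearMap.add_apply, map_smul, LinearMap.smul_apply, smul_eq_mul, halt]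
    module
  right_inv := fun x => by
    unfold kt
    simp only [map_add, LinearMap.add_apply, map_smul, LinearMap.smul_apply, smul_eq_mul, halt]
    module

variable (halt : ∀ x, φ x x = 0)
include halt

theorem tvE_apply (v : V) (l : K) (x : V) : tvE F halt v l x = x + (l * φ x v) • v := rfl

theorem tvE_mem (v : V) (l : K) : tvE F halt v l ∈ PK F φ := by
  refine ⟨fun κ x => ?_, fun x y => ?_⟩
  · rw [tvE_apply, tvE_apply, φ.map_smul, LinearMap.smul_apply, smul_eq_mul]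
    module
  · rw [tvE_apply, tvE_apply]
    simp only [map_add, LinearMap.add_apply, map_smul, LinearMap.smul_apply, smul_eq_mul, halt]
    rw [skew_of halt v y]
    ring

theorem tvE_mul (v : V) (a b : K) : tvE F halt v a * tvE F halt v b = tvE F halt v (a + b) := by
  ext x
  rw [LinearEquiv.mul_apply, tvE_apply, tvE_apply, tvE_apply]
  simp only [map_add, LinearMap.add_apply, map_smul, LinearMap.smul_apply, smul_eq_mul, halt]
  module

theorem tvE_zero (v : V) : tvE F halt v 0 = 1 := by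
  ext x
  rw [tvE_apply, zero_mul, zero_smul, add_zero]
  rfl

theorem tvE_inv (v : V) (a : K) : (tvE F halt v a)⁻¹ = tvE F halt v (-a) := by
  rw [inv_eq_iff_mul_eq_one, tvE_mul, add_neg_cancel, tvE_zero]

theorem tvE_smul (v : V) (k a : K) : tvE F halt (k • v) a = tvE F halt v (k * k * a) := by
  ext x
  rw [tvE_apply, tvE_apply, (φ x).map_smul, smul_eq_mul]
  module

theorem tvE_conj {g : V ≃ₗ[F] V} {σ : K ≃ₐ[F] K} (hg : ∀ (κ : K) x, g (κ • x) = σ κ • g x)
    (hf : ∀ x y, φ (g x) (g y) = σ (φ x y)) (u : V) (a : K) :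
    g * tvE F halt u a * g⁻¹ = tvE F halt (g u) (σ a) := by
  ext x
  rw [LinearEquiv.mul_apply, LinearEquiv.mul_apply, tvE_apply, tvE_apply, map_add, apply_inv_apply, hg, map_mul,
    ← hf, apply_inv_apply]

theorem hypPK (hnd : ∀ x, x ≠ 0 → ∃ y, φ x y ≠ 0) (hl : ℓ ≠ 0) : Hyp φ ℓ (PK F φ) :=
  ⟨halt, hnd, hl, fun g hg x y => by rw [hg.2], fun v l => ⟨tvE F halt v l, tvE_mem halt v l, fun _ => rfl⟩⟩

/-- `d` fixes `v` and multiplies `u ∈ v^⊥` by `κ`. -/
theorem exists_d (hnd : ∀ x, x ≠ 0 → ∃ y, φ x y ≠ 0) (hl : ℓ ≠ 0) {u v : V} (huv : φ u v = 0)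
    (hu : ∀ k : K, u ≠ k • v) {κ : K} (hκ : κ ≠ 0) : ∃ d ∈ PK F φ, d v = v ∧ d u = κ • u := by
  have h := hypPK (F := F) halt hnd hl
  obtain ⟨w, hw, hwu⟩ := h.exists_sep hu
  have huw : φ u w ≠ 0 := by rw [skew_of halt, neg_ne_zero]; exact hwu
  have hvu : φ v u = 0 := by rw [skew_of halt, huv, neg_zero]
  have hvw : φ v w = 0 := by rw [skew_of halt, hw, neg_zero]
  obtain ⟨t, ht, h1, h2, -⟩ := h.move huw
  obtain ⟨t', ht', h1', h2', -⟩ := h.move (x := w) (y := κ • u) (by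
    rw [(φ w).map_smul, smul_eq_mul]
    exact mul_ne_zero hκ hwu)
  refine ⟨t' * t, (PK F φ).mul_mem ht' ht, ?_, by rw [LinearEquiv.mul_apply, h1, h1']⟩
  rw [LinearEquiv.mul_apply, h2 v (by rw [map_sub, hvw, hvu, sub_zero]), h2' v]
  rw [map_sub, (φ v).map_smul, hvu, hvw, smul_zero, sub_zero]

theorem exists_h (hnd : ∀ x, x ≠ 0 → ∃ y, φ x y ≠ 0) (hl : ℓ ≠ 0) {v : V} (hv : v ≠ 0) {κ : K} (hκ : κ ≠ 0) :
    ∃ h ∈ PK F φ, h v = κ • v := by
  obtain ⟨t, ht, h1, -⟩ := (hypPK (F := F) halt hnd hl).trans hv (smul_ne_zero hκ hv)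
  exact ⟨t, ht, h1⟩

/-- An isometry fixing `v` and normalising the groups of transvections at the vectors of `v^⊥` up to scalars is a
transvection. -/
theorem eq_tvE (hnd : ∀ x, x ≠ 0 → ∃ y, φ x y ≠ 0) (hl : ℓ ≠ 0) (h2 : (2 : K) ≠ 0) {v : V} (hv : v ≠ 0)
    {c : V ≃ₗ[F] V} (hc : c ∈ PK F φ) (hcv : c v = v)
    (hcu : ∀ u, φ u v = 0 → (∀ k : K, u ≠ k • v) → ∃ s : F, ∀ x, (c * tvE F halt u 1 * c⁻¹) x = s • tvE F halt u 1 x) :
    ∃ a, c = tvE F halt v a := by
  have h := hypPK (F := F) halt hnd hl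
  have hc' : ∀ (κ : K) x, c (κ • x) = (AlgEquiv.refl : K ≃ₐ[F] K) κ • c x := hc.1
  have hc'' : ∀ x y, φ (c x) (c y) = (AlgEquiv.refl : K ≃ₐ[F] K) (φ x y) := hc.2
  -- `c` is `1` on `v^⊥`
  have key1 : ∀ u, φ u v = 0 → (∀ k : K, u ≠ k • v) → c u = u ∨ c u = -u := by
    intro u hu hu'
    obtain ⟨s, hs⟩ := hcu u hu hu'
    rw [tvE_conj halt hc' hc''] at hs
    have e0 : (AlgEquiv.refl : K ≃ₐ[F] K) (1 : K) = 1 := rfl
    rw [e0] at hs
    have hu0 : u ≠ 0 := by
      rintro rfl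
      exact hu' 0 (by rw [zero_smul])
    have hs1 : s = 1 := by
      have e1 := hs v
      have e2 : φ v u = 0 := by rw [skew_of halt, hu, neg_zero]
      have e3 : φ v (c u) = 0 := by rw [← hcv, hc.2, e2]
      simp only [tvE_apply, e2, e3, mul_zero, zero_smul, add_zero] at e1
      have e4 : (s - 1) • v = 0 := by rw [sub_smul, ← e1, one_smul, sub_self]
      exact sub_eq_zero.1 ((smul_eq_zero.1 e4).resolve_right hv)
    have e1 : ∀ x, φ x (c u) • c u = φ x u • u := by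
      intro x
      have := hs x
      rw [hs1, one_smul, tvE_apply, tvE_apply, one_mul, one_mul] at this
      exact add_left_cancel this
    obtain ⟨y, hy⟩ := h.ndeg' u hu0
    have e2 : u = ((φ y u)⁻¹ * φ y (c u)) • c u := by
      rw [mul_smul, e1, smul_smul, inv_mul_cancel₀ hy, one_smul]
    set l : K := (φ y u)⁻¹ * φ y (c u) with hldef
    have hl0 : l ≠ 0 := by
      intro h0
      rw [h0, zero_smul] at e2
      exact hu0 e2
    have e3 : φ y u = l * φ y (c u) := by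
      conv_lhs => rw [e2]
      rw [(φ y).map_smul, smul_eq_mul]
    have e4 : φ y (c u) ≠ 0 := by
      intro h0
      rw [h0, mul_zero] at e3
      exact hy e3
    have e5 : (l * l - 1) • c u = 0 := by
      have e6 := e1 y
      rw [e3] at e6
      have e6' : (l * φ y (c u)) • u = (l * φ y (c u)) • (l • c u) := by rw [← e2]
      rw [e6', smul_smul] at e6
      have e7 : ((l * l - 1) * φ y (c u)) • c u = 0 := by
        have e8 : (l * l - 1) * φ y (c u) = l * φ y (c u) * l - φ y (c u) := by ring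
        rw [e8, sub_smul, ← e6, sub_self]
      rw [mul_comm, mul_smul] at e7
      exact (smul_eq_zero.1 e7).resolve_left e4
    have hcu0 : c u ≠ 0 := fun h0 => hu0 (c.injective (by rw [h0, map_zero]))
    have e6 : (l - 1) * (l + 1) = 0 := by
      have := (smul_eq_zero.1 e5).resolve_right hcu0
      linear_combination this
    rcases mul_eq_zero.1 e6 with e7 | e7
    · left
      rw [sub_eq_zero.1 e7, one_smul] at e2
      exact e2.symm
    · right
      rw [eq_neg_of_add_eq_zero_left e7, neg_smul, one_smul] at e2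
      rw [← neg_eq_iff_eq_neg]
      exact e2.symm
  have h2v : ∀ x : V, (2 : K) • x = 0 → x = 0 := fun x hx => (smul_eq_zero.1 hx).resolve_left h2
  have key2 : ∀ u, φ u v = 0 → (∀ k : K, u ≠ k • v) → c u = u := by
    intro u hu hu'
    rcases key1 u hu hu' with e1 | e1
    · exact e1
    exfalso
    have e2 := key1 (u + v) (by rw [map_add, LinearMap.add_apply, hu, halt, add_zero]) (by
      intro k hk
      apply hu' (k - 1)
      rw [sub_smul, one_smul, ← hk, add_sub_cancel_right])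
    rw [map_add, hcv, e1] at e2
    rcases e2 with e2 | e2
    · have e3 : (2 : K) • u = 0 := by
        rw [two_smul]
        have : -u + v - (u + v) = 0 := sub_eq_zero.2 e2
        have e4 : u + u = -(-u + v - (u + v)) := by abel
        rw [e4, this, neg_zero]
      have e4 := h2v u e3
      exact hu' 0 (by rw [e4, zero_smul])
    · have e3 : (2 : K) • v = 0 := by
        rw [two_smul]
        have : -u + v - (-(u + v)) = 0 := sub_eq_zero.2 e2
        have e4 : v + v = -u + v - (-(u + v)) := by abel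
        rw [e4, this]
      exact hv (h2v v e3)
  have key3 : ∀ u, φ u v = 0 → c u = u := by
    intro u hu
    by_cases hu' : ∀ k : K, u ≠ k • v
    · exact key2 u hu hu'
    · push Not at hu'
      obtain ⟨k, rfl⟩ := hu'
      rw [hc.1, hcv]
  -- `c x - x ∈ K v`
  have key4 : ∀ x, ∃ k : K, c x - x = k • v := by
    intro x
    by_contra hcon
    push Not at hcon
    obtain ⟨a, ha, ha'⟩ := h.exists_sep hcon
    apply ha'
    have e1 : φ a (c x) = φ a x := by
      conv_lhs => rw [← key3 a ha]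
      rw [hc.2]
    rw [map_sub, e1, sub_self]
  obtain ⟨y, hy⟩ := h.ndeg' v hv
  set x₀ : V := (φ y v)⁻¹ • y with hx₀
  have h1 : φ x₀ v = 1 := by rw [hx₀, φ.map_smul, LinearMap.smul_apply, smul_eq_mul, inv_mul_cancel₀ hy]
  obtain ⟨a, ha⟩ := key4 x₀
  refine ⟨a, ?_⟩
  ext x
  rw [tvE_apply]
  have e1 : c (x - φ x v • x₀) = x - φ x v • x₀ := by
    apply key3
    rw [φ.map_sub, LinearMap.sub_apply, φ.map_smul, LinearMap.smul_apply, h1, smul_eq_mul, mul_one, sub_self]
  rw [map_sub, hc.1] at e1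
  have e2 : c x₀ = a • v + x₀ := by rw [← ha, sub_add_cancel]
  rw [e2, smul_add] at e1
  have e3 : c x = x - φ x v • x₀ + (φ x v • a • v + φ x v • x₀) := sub_eq_iff_eq_add.1 e1
  rw [e3, smul_smul (φ x v) a v, mul_comm (φ x v) a]
  abel

end P

section Tr

variable {F K V : Type*} [Field F] [Field K] [Algebra F K] [AddCommGroup V]
  [Module F V] [Module K V] [IsScalarTower F K V] {φ : V →ₗ[K] V →ₗ[K] K}

/-- the form is semi-invariant under the semilinear isometries of `Tr ∘ φ` -/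
theorem phi_semi (hl : Algebra.trace F K ≠ 0) {g : V ≃ₗ[F] V} {σ : K ≃ₐ[F] K}
    (hg : ∀ (κ : K) x, g (κ • x) = σ κ • g x)
    (hf : ∀ x y, Algebra.trace F K (φ (g x) (g y)) = Algebra.trace F K (φ x y)) (x y : V) :
    φ (g x) (g y) = σ (φ x y) := by
  apply ell_ext hl
  intro k
  have e1 : k * φ (g x) (g y) = φ (g (σ.symm k • x)) (g y) := by
    rw [hg, AlgEquiv.apply_symm_apply, φ.map_smul, LinearMap.smul_apply, smul_eq_mul]
  rw [e1, hf, φ.map_smul, LinearMap.smul_apply, smul_eq_mul,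
    ← Algebra.trace_eq_of_algEquiv σ (σ.symm k * φ x y), map_mul, AlgEquiv.apply_symm_apply]

/-- the fixed field of an automorphism of an extension of prime degree -/
theorem fix_F (hr : (finrank F K).Prime) {σ : K ≃ₐ[F] K} (hσ : ∃ κ, σ κ ≠ κ) {b : K} (hb : σ b = b) :
    ∃ c : F, algebraMap F K c = b := by
  have hs : IsSimpleOrder (Subalgebra F K) := Subalgebra.isSimpleOrder_of_finrank_prime F K hr
  rcases hs.eq_bot_or_eq_top (AlgHom.equalizer (σ : K →ₐ[F] K) (AlgHom.id F K)) with h1 | h1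
  · have h2 : b ∈ (⊥ : Subalgebra F K) := by
      rw [← h1]
      exact hb
    exact Algebra.mem_bot.1 h2
  · exfalso
    obtain ⟨κ, hκ⟩ := hσ
    apply hκ
    have h2 : κ ∈ AlgHom.equalizer (σ : K →ₐ[F] K) (AlgHom.id F K) := by
      rw [h1]
      exact Algebra.mem_top
    exact h2

/-- the elements `σ l - l` are not all in `F` when `dim_F K ≥ 3` -/
theorem exists_not_fix (hr : (finrank F K).Prime) (h3 : 3 ≤ finrank F K) {σ : K ≃ₐ[F] K} (hσ : ∃ κ, σ κ ≠ κ) :
    ∃ l : K, ∀ c : F, algebraMap F K c ≠ σ l - l := by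
  have : FiniteDimensional F K := FiniteDimensional.of_finrank_pos hr.pos
  by_contra hcon
  push Not at hcon
  let L : K →ₗ[F] K := σ.toLinearMap - LinearMap.id
  have hL : ∀ l, L l = σ l - l := fun _ => rfl
  have h1 : LinearMap.range L ≤ Submodule.span F {(1 : K)} := by
    rintro _ ⟨l, rfl⟩
    obtain ⟨c, hc⟩ := hcon l
    rw [hL, ← hc, Algebra.algebraMap_eq_smul_one]
    exact Submodule.smul_mem _ _ (Submodule.mem_span_singleton_self _)
  have h2 : LinearMap.ker L ≤ Submodule.span F {(1 : K)} := by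
    intro l hl
    rw [LinearMap.mem_ker, hL, sub_eq_zero] at hl
    obtain ⟨c, hc⟩ := fix_F hr hσ hl
    rw [← hc, Algebra.algebraMap_eq_smul_one]
    exact Submodule.smul_mem _ _ (Submodule.mem_span_singleton_self _)
  have h4 := Submodule.finrank_mono h1
  have h5 := Submodule.finrank_mono h2
  have h6 : finrank F (Submodule.span F {(1 : K)}) ≤ 1 := by
    have := finrank_span_le_card (R := F) ({(1 : K)} : Set K)
    simpa using this
  have h7 := LinearMap.finrank_range_add_finrank_ker L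
  omega

end Tr

end Cfsg.Agent.H821.EP
end

-- part: H821/EP/SpC3
section
/-!
# S3499, symplectic groups, class 3 (symplectic type): no extremely primitive action
-/

set_option autoImplicit false
set_option linter.unusedSectionVars false

namespace Cfsg.Agent.H821.EP

open Subgroup Module Cfsg.Agent.H284 Cfsg.Agent.H419.EP Cfsg.Geo Cfsg.Agent.H879 Cfsg.Agent.H879.ExtField
open scoped MatrixGroups commutatorElement

/-! ### kill criteria -/

section Kill

variable {Q : Type*} [Group Q] [Finite Q] {A : Subgroup Q} {Γ : Subgroup (MulAut Q)} (h : EPT A Γ)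
variable {ι : Type} [Fintype ι] [DecidableEq ι] {F : Type*} [Field F] {S : Subgroup (GL ι F)} (m : Model Q S)

include h

/-- the kill criterion with `K = M0` -/
theorem kill_self {x : GL ι F} (hxS : x ∈ S) (hx : x ∉ m.hat A) {g : GL ι F} (hg : g ∈ m.hat A)
    (hgK : ∀ k ∈ m.hat A, k ∈ cj x (m.hat A) → g * k * g⁻¹ ∈ cj x (m.hat A)) : g ∈ cj x (m.hat A) := by
  refine kill_char h m hxS hx (m.hat A ⊓ cj x (m.hat A)) le_rfl ?_ ?_ hg ?_
  · intro hle
    obtain ⟨s, hs, hs'⟩ := _root_.Cfsg.Agent.H419.EP.exists_nonscalar h m hxS hx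
    exact hs' (hle hs)
  · rw [M0_eq_map m hxS, Subgroup.subgroupOf_self]
    infer_instance
  · intro k hk
    obtain ⟨h1, h2⟩ := mem_inf.1 hk
    exact mem_inf.2 ⟨(m.hat A).mul_mem ((m.hat A).mul_mem hg h1) ((m.hat A).inv_mem hg), hgK k h1 h2⟩

omit h in
theorem comm_map {M : Subgroup (GL ι F)} (hM : M ≤ S) :
    ((⁅M, M⁆).subgroupOf S).map m.π = ⁅(M.subgroupOf S).map m.π, (M.subgroupOf S).map m.π⁆ := by
  rw [← Subgroup.map_commutator]
  congr 1
  apply Subgroup.map_injective S.subtype_injective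
  rw [Subgroup.subgroupOf_map_subtype, Subgroup.map_commutator, Subgroup.subgroupOf_map_subtype,
    inf_eq_left.2 hM, inf_eq_left.2 ((Subgroup.commutator_le_self _).trans hM)]

/-- the kill criterion for the centraliser of the derived group of `M0`: `Y` is its preimage. -/
theorem kill_cent {x : GL ι F} (hxS : x ∈ S) (hx : x ∉ m.hat A) :
    ∃ Y : Subgroup (GL ι F), (∀ c, c ∈ Y ↔ c ∈ m.hat A ⊓ cj x (m.hat A) ∧
      ∀ d ∈ ⁅m.hat A ⊓ cj x (m.hat A), m.hat A ⊓ cj x (m.hat A)⁆, ⁅c, d⁆ ∈ scalars ι F) ∧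
      (¬ Y ≤ scalars ι F → ∀ g ∈ m.hat A, (∀ k ∈ Y, g * k * g⁻¹ ∈ Y) → g ∈ cj x (m.hat A)) := by
  set M := m.hat A ⊓ cj x (m.hat A) with hM
  have hMS : M ≤ S := inf_le_left.trans (m.hat_le A)
  set M0 := A ⊓ cj (m.π ⟨x, hxS⟩) A with hM0
  have hM0M : m.hat M0 = M := by rw [hM0, m.hat_inf, m.hat_cj A ⟨x, hxS⟩]
  have hM0m : M0 = (M.subgroupOf S).map m.π := M0_eq_map m hxS
  have hcm : ((⁅M, M⁆).subgroupOf S).map m.π = ⁅M0, M0⁆ := by rw [hM0m]; exact comm_map m hMS
  set C : Subgroup Q := M0 ⊓ Subgroup.centralizer ((⁅M0, M0⁆ : Subgroup Q) : Set Q) with hC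
  have hmem : ∀ c, c ∈ m.hat C ↔ c ∈ M ∧ ∀ d ∈ ⁅M, M⁆, ⁅c, d⁆ ∈ scalars ι F := by
    intro c
    constructor
    · intro hc
      obtain ⟨hcS, hc1, hc2⟩ := m.mem_hat.1 hc
      refine ⟨by rw [← hM0M]; exact m.mem_hat.2 ⟨hcS, hc1⟩, fun d hd => ?_⟩
      have hdS : d ∈ S := hMS (Subgroup.commutator_le_self _ hd)
      have h1 : m.π ⟨d, hdS⟩ ∈ (⁅M0, M0⁆ : Subgroup Q) := by
        rw [← hcm]
        exact ⟨⟨d, hdS⟩, hd, rfl⟩
      have h2 : m.π ⁅(⟨c, hcS⟩ : S), ⟨d, hdS⟩⁆ = 1 := by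
        rw [map_commutatorElement, commutatorElement_eq_one_iff_mul_comm]
        exact (Subgroup.mem_centralizer_iff.1 hc2 _ h1).symm
      exact (m.ker _).1 h2
    · rintro ⟨hc, hd⟩
      have hcS := hMS hc
      have hc1 : m.π ⟨c, hcS⟩ ∈ M0 := by
        rw [← hM0M] at hc
        exact (m.mem_hat_iff ⟨c, hcS⟩).1 hc
      refine m.mem_hat.2 ⟨hcS, hc1, ?_⟩
      show m.π ⟨c, hcS⟩ ∈ Subgroup.centralizer ((⁅M0, M0⁆ : Subgroup Q) : Set Q)
      rw [Subgroup.mem_centralizer_iff]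
      intro t ht
      have ht' : t ∈ ((⁅M, M⁆).subgroupOf S).map m.π := by rw [hcm]; exact ht
      obtain ⟨d, hd', rfl⟩ := ht'
      have h2 : ((⁅(⟨c, hcS⟩ : S), d⁆ : S) : GL ι F) ∈ scalars ι F := hd _ hd'
      rw [← m.ker, map_commutatorElement, commutatorElement_eq_one_iff_mul_comm] at h2
      exact h2.symm
  refine ⟨m.hat C, hmem, fun hns g hg hgK => ?_⟩
  refine kill_char h m hxS hx (m.hat C) (fun c hc => ((hmem c).1 hc).1) hns ?_ hg hgK
  have e1 : ((m.hat C).subgroupOf S).map m.π = C := m.map_hat C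
  rw [e1]
  have e2 : C.subgroupOf M0 = Subgroup.centralizer ((commutator M0 : Subgroup M0) : Set M0) := by
    have e3 : (commutator M0 : Subgroup M0).map M0.subtype = ⁅M0, M0⁆ := by
      rw [_root_.commutator_def, Subgroup.map_commutator, ← MonoidHom.range_eq_map, Subgroup.range_subtype]
    ext y
    rw [Subgroup.mem_subgroupOf, Subgroup.mem_centralizer_iff]
    constructor
    · rintro ⟨-, h1⟩ t ht
      apply Subtype.ext
      refine Subgroup.mem_centralizer_iff.1 h1 t ?_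
      have : (t : Q) ∈ (commutator M0 : Subgroup M0).map M0.subtype := ⟨t, ht, rfl⟩
      rw [e3] at this
      exact this
    · intro h1
      refine ⟨y.2, ?_⟩
      show (y : Q) ∈ Subgroup.centralizer _
      rw [Subgroup.mem_centralizer_iff]
      intro t ht
      have ht' : t ∈ (commutator M0 : Subgroup M0).map M0.subtype := by rw [e3]; exact ht
      obtain ⟨t, ht'', rfl⟩ := ht'
      exact congrArg Subtype.val (h1 t ht'')
  rw [hM0] at e2
  rw [e2]
  infer_instance

end Kill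

/-! ### the transvections over `F` -/

section FT

variable {F K V : Type*} [Field F] [Field K] [Algebra F K] [AddCommGroup V]
  [Module F V] [Module K V] [IsScalarTower F K V] {φ : V →ₗ[K] V →ₗ[K] K} {ℓ : K →ₗ[F] F}

/-- `x ↦ x + ℓ(φ(x, v)) v` -/
def fT (ℓ : K →ₗ[F] F) (halt : ∀ x, φ x x = 0) (v : V) : V ≃ₗ[F] V where
  toFun := fun x => x + ℓ (φ x v) • v
  invFun := fun x => x - ℓ (φ x v) • v
  map_add' := fun x y => by
    simp only [map_add, LinearMap.add_apply]
    module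
  map_smul' := fun c x => by
    rw [RingHom.id_apply, ← algebraMap_smul K c x, φ.map_smul, LinearMap.smul_apply, algebraMap_smul,
      algebraMap_smul, map_smul, smul_add, smul_assoc]
  left_inv := fun x => by
    have h1 : φ (ℓ (φ x v) • v) v = 0 := by
      rw [← algebraMap_smul K (ℓ (φ x v)) v, φ.map_smul, LinearMap.smul_apply, halt, smul_zero]
    simp only [map_add, LinearMap.add_apply, h1, add_zero, add_sub_cancel_right]
  right_inv := fun x => by
    have h1 : φ (ℓ (φ x v) • v) v = 0 := by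
      rw [← algebraMap_smul K (ℓ (φ x v)) v, φ.map_smul, LinearMap.smul_apply, halt, smul_zero]
    simp only [map_sub, LinearMap.sub_apply, h1, sub_zero, sub_add_cancel]

variable (halt : ∀ x, φ x x = 0)
include halt

theorem fT_apply (v x : V) : fT ℓ halt v x = x + ℓ (φ x v) • v := rfl

theorem fT_inv_apply (v x : V) : (fT ℓ halt v)⁻¹ x = x - ℓ (φ x v) • v := rfl

theorem phi_smul_right (c : F) (x y : V) : φ x (c • y) = c • φ x y := by
  rw [← algebraMap_smul K c y, (φ x).map_smul, algebraMap_smul]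

theorem phi_smul_left (c : F) (x y : V) : φ (c • x) y = c • φ x y := by
  rw [← algebraMap_smul K c x, φ.map_smul, LinearMap.smul_apply, algebraMap_smul]

theorem fT_iso (v x y : V) : ℓ (φ (fT ℓ halt v x) (fT ℓ halt v y)) = ℓ (φ x y) := by
  rw [fT_apply, fT_apply]
  simp only [map_add, LinearMap.add_apply, phi_smul_right halt, phi_smul_left halt, halt, map_smul, smul_eq_mul,
    smul_zero, add_zero]
  rw [skew_of halt v y, map_neg]
  ring

theorem fT_conj {g : V ≃ₗ[F] V} (hf : ∀ x y, ℓ (φ (g x) (g y)) = ℓ (φ x y)) (v : V) :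
    g * fT ℓ halt v * g⁻¹ = fT ℓ halt (g v) := by
  ext x
  rw [LinearEquiv.mul_apply, LinearEquiv.mul_apply, fT_apply, fT_apply, map_add, map_smul, apply_inv_apply, ← hf,
    apply_inv_apply]

theorem fT_semi_iff {v w : V} (hv : v ≠ 0) :
    (∃ σ : K ≃ₐ[F] K, ∀ (κ : K) x, ((fT ℓ halt v)⁻¹ * fT ℓ halt w) (κ • x) = σ κ • ((fT ℓ halt v)⁻¹ * fT ℓ halt w) x) ↔
      ∀ (κ : K) x, E φ ℓ w κ x = E φ ℓ v κ x := by
  constructor
  · rintro ⟨σ, hσ⟩ κ
    refine (eq_of_E halt hv (κ := κ) (κ' := σ κ) fun y => ?_).2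
    have h1 := hσ κ ((fT ℓ halt w)⁻¹ y)
    rw [LinearEquiv.mul_apply, LinearEquiv.mul_apply, apply_inv_apply] at h1
    have h2 := congrArg (fT ℓ halt v) h1
    rw [apply_inv_apply, fT_inv_apply, fT_inv_apply, fT_apply, fT_apply, T_conj halt, T_conj halt] at h2
    exact h2
  · intro hE
    refine ⟨AlgEquiv.refl, fun κ x => ?_⟩
    show _ = κ • _
    apply (fT ℓ halt v).injective
    rw [LinearEquiv.mul_apply, LinearEquiv.mul_apply, apply_inv_apply]
    have h1 : x = (fT ℓ halt w)⁻¹ (fT ℓ halt w x) := (inv_apply_apply _ _).symm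
    conv_lhs => rw [h1]
    generalize fT ℓ halt w x = y
    rw [fT_inv_apply, fT_inv_apply, fT_apply, fT_apply, T_conj halt, T_conj halt, hE]

end FT

/-! ### the core -/

section Core

variable {Q : Type*} [Group Q] [Finite Q] {A : Subgroup Q} {Γ : Subgroup (MulAut Q)} (h : EPT A Γ)
variable {ι : Type} [Fintype ι] [DecidableEq ι] {F : Type*} [Field F] {S : Subgroup (GL ι F)} (m : Model Q S)
variable {K : Type*} [Field K] [Algebra F K] [Module K (ι → F)] [IsScalarTower F K (ι → F)]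
  {φ : (ι → F) →ₗ[K] (ι → F) →ₗ[K] K} {ℓ : K →ₗ[F] F}

/-- semilinear -/
def Sl (K : Type*) [Field K] [Algebra F K] [Module K (ι → F)] (g : GL ι F) (σ : K ≃ₐ[F] K) : Prop :=
  ∀ (κ : K) x, toEq g (κ • x) = σ κ • toEq g x

theorem Sl.mul {g g' : GL ι F} {σ σ' : K ≃ₐ[F] K} (hg : Sl K g σ) (hg' : Sl K g' σ') : Sl K (g * g') (σ * σ') := by
  intro κ x
  rw [map_mul, LinearEquiv.mul_apply, hg', hg]
  rfl

theorem Sl.inv {g : GL ι F} {σ : K ≃ₐ[F] K} (hg : Sl K g σ) : Sl K g⁻¹ σ⁻¹ := by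
  intro κ x
  rw [map_inv]
  apply (toEq g).injective
  rw [apply_inv_apply, hg, apply_inv_apply]
  have h1 : σ (σ⁻¹ κ) = κ := σ.apply_symm_apply κ
  rw [h1]

/-- The data of the class 3 subgroup. -/
structure Dat (m : Model Q S) (A : Subgroup Q) (φ : (ι → F) →ₗ[K] (ι → F) →ₗ[K] K) (ℓ : K →ₗ[F] F) : Prop where
  halt : ∀ x, φ x x = 0
  hnd : ∀ x, x ≠ 0 → ∃ y, φ x y ≠ 0
  hl : ℓ ≠ 0
  hr : (finrank F K).Prime
  hS : ∀ g : GL ι F, g ∈ S ↔ ∀ x y, ℓ (φ (toEq g x) (toEq g y)) = ℓ (φ x y)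
  hA : ∀ g : GL ι F, g ∈ m.hat A ↔ g ∈ S ∧ ∃ σ : K ≃ₐ[F] K, Sl K g σ
  hne : ∃ v : ι → F, v ≠ 0

variable {m}

namespace Dat

variable (D : Dat m A φ ℓ)
include D

theorem hnd' (x : ι → F) (hx : x ≠ 0) : ∃ y, φ y x ≠ 0 := by
  obtain ⟨y, hy⟩ := D.hnd x hx
  exact ⟨y, by rw [skew_of D.halt, neg_ne_zero]; exact hy⟩

theorem exists_K : ∃ κ : K, ∀ c : F, algebraMap F K c ≠ κ := by
  by_contra hcon
  push Not at hcon
  have h1 : (⊤ : Submodule F K) ≤ Submodule.span F {(1 : K)} := by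
    intro κ _
    obtain ⟨c, rfl⟩ := hcon κ
    rw [Algebra.algebraMap_eq_smul_one]
    exact Submodule.smul_mem _ _ (Submodule.mem_span_singleton_self _)
  have : FiniteDimensional F K := FiniteDimensional.of_finrank_pos D.hr.pos
  have h4 := Submodule.finrank_mono h1
  have h6 : finrank F (Submodule.span F {(1 : K)}) ≤ 1 := by
    have := finrank_span_le_card (R := F) ({(1 : K)} : Set K)
    simpa using this
  rw [finrank_top] at h4
  have := D.hr.two_le
  omega

/-- `K`-linear isometries -/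
theorem mem_of_PK {γ : (ι → F) ≃ₗ[F] (ι → F)} (hγ : γ ∈ PK F φ) : toEq.symm γ ∈ m.hat A := by
  rw [D.hA, D.hS]
  refine ⟨fun x y => by rw [MulEquiv.apply_symm_apply, hγ.2], AlgEquiv.refl, fun κ x => ?_⟩
  rw [MulEquiv.apply_symm_apply]
  exact hγ.1 κ x

theorem z_mem (v : ι → F) : toEq.symm (fT ℓ D.halt v) ∈ S := by
  rw [D.hS]
  intro x y
  rw [MulEquiv.apply_symm_apply, fT_iso D.halt]

/-- **conjugates of `Â` by transvections** -/
theorem mem_cj_iff {v : ι → F} (hv : v ≠ 0) {g : GL ι F} (hg : g ∈ m.hat A) :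
    g ∈ cj (toEq.symm (fT ℓ D.halt v)) (m.hat A) ↔ ∀ (κ : K) x, E φ ℓ (toEq g v) κ x = E φ ℓ v κ x := by
  set z : GL ι F := toEq.symm (fT ℓ D.halt v) with hz
  have hgS := ((D.hA g).1 hg).1
  have hgf := (D.hS g).1 hgS
  have e1 : z⁻¹ * g * z = (z⁻¹ * (g * z * g⁻¹)) * g := by group
  rw [mem_cj, e1, Subgroup.mul_mem_cancel_right _ hg, ← fT_semi_iff D.halt hv (w := toEq g v), D.hA]
  have e2 : toEq (z⁻¹ * (g * z * g⁻¹)) = (fT ℓ D.halt v)⁻¹ * fT ℓ D.halt (toEq g v) := by
    rw [map_mul, map_mul, map_mul, map_inv, map_inv, hz, MulEquiv.apply_symm_apply, fT_conj D.halt hgf]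
  constructor
  · rintro ⟨-, σ, hσ⟩
    refine ⟨σ, fun κ x => ?_⟩
    have := hσ κ x
    rw [e2] at this
    exact this
  · rintro ⟨σ, hσ⟩
    refine ⟨S.mul_mem (S.inv_mem (D.z_mem v)) (S.mul_mem (S.mul_mem hgS (D.z_mem v)) (S.inv_mem hgS)), σ, fun κ x => ?_⟩
    rw [e2]
    exact hσ κ x

theorem z_notMem {v : ι → F} (hv : v ≠ 0) : toEq.symm (fT ℓ D.halt v) ∉ m.hat A := by
  set z : GL ι F := toEq.symm (fT ℓ D.halt v) with hz
  intro hzA
  obtain ⟨κ, hκ⟩ := D.exists_K
  obtain ⟨hzS, σ, hσ⟩ := (D.hA z).1 hzA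
  -- `σ κ = κ`, and `E_v(κ) = 0`
  obtain ⟨x, hx⟩ := exists_E_ne (D.hnd') D.hl hv hκ
  -- `T κ T⁻¹ = σ κ`
  have h2 : ∀ y, κ • y + E φ ℓ v κ y = σ κ • y + E φ ℓ v 0 y := by
    intro y
    have e1 := hσ κ ((fT ℓ D.halt v)⁻¹ y)
    rw [hz, MulEquiv.apply_symm_apply, apply_inv_apply, fT_inv_apply, fT_apply, T_conj D.halt] at e1
    rw [e1]
    have e2 : E φ ℓ v (0 : K) y = 0 := by
      unfold E
      rw [zero_smul, map_zero, map_zero, zero_smul, smul_zero, sub_zero]
    rw [e2, add_zero]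
  have h3 : E φ ℓ v κ v = 0 := by
    have := E_self (ℓ := ℓ) D.halt v κ 1
    rwa [one_smul] at this
  have h4 := h2 v
  have e2 : ∀ y, E φ ℓ v (0 : K) y = 0 := by
    intro y
    unfold E
    rw [zero_smul, map_zero, map_zero, zero_smul, smul_zero, sub_zero]
  rw [h3, e2, add_zero, add_zero] at h4
  have h5 : σ κ = κ := by
    have : (σ κ - κ) • v = 0 := by rw [sub_smul, ← h4, sub_self]
    exact sub_eq_zero.1 ((smul_eq_zero.1 this).resolve_right hv)
  apply hx
  have h6 := h2 x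
  rw [h5, e2, add_zero] at h6
  exact left_eq_add.1 h6.symm

include h

/-- (A), (B): scaling -/
theorem kill_scale {κ₀ : K} (h0 : κ₀ ≠ 0) {c : F} (hc : c ≠ 0) (hc1 : c ≠ 1)
    (hsc : ∀ (u : ι → F) (κ : K) x, E φ ℓ (κ₀ • u) κ x = c • E φ ℓ u κ x) : False := by
  obtain ⟨v, hv⟩ := D.hne
  obtain ⟨γ, hγ, hγv⟩ := exists_h (F := F) D.halt D.hnd D.hl hv h0
  have hgA := D.mem_of_PK hγ
  have h1 : toEq.symm γ ∈ cj (toEq.symm (fT ℓ D.halt v)) (m.hat A) := by
    refine kill_self h m (D.z_mem v) (D.z_notMem hv) hgA fun k hk hkz => ?_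
    obtain ⟨hkS, σ, hσ⟩ := (D.hA k).1 hk
    have hkE := (D.mem_cj_iff hv hk).1 hkz
    rw [D.mem_cj_iff hv ((m.hat A).mul_mem ((m.hat A).mul_mem hgA hk) ((m.hat A).inv_mem hgA))]
    intro κ x
    rw [map_mul, map_mul, map_inv, MulEquiv.apply_symm_apply, LinearEquiv.mul_apply, LinearEquiv.mul_apply]
    exact E_conj hγ.1 (fun x y => by rw [hγ.2]) hσ ((D.hS k).1 hkS) h0 hc hsc hγv hkE κ x
  rw [D.mem_cj_iff hv hgA, MulEquiv.apply_symm_apply, hγv] at h1
  obtain ⟨κ, hκ⟩ := D.exists_K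
  obtain ⟨x, hx⟩ := exists_E_ne (D.hnd') D.hl hv hκ
  have h2 := h1 κ x
  rw [hsc] at h2
  have h3 : (c - 1) • E φ ℓ v κ x = 0 := by rw [sub_smul, h2, one_smul, sub_self]
  exact hx ((smul_eq_zero.1 h3).resolve_left (sub_ne_zero.2 hc1))

/-- the scaling for `c ∈ F`, `c² ≠ 0, 1` -/
theorem kill_four {c : F} (hc : c ≠ 0) (hc1 : c * c ≠ 1) : False := by
  refine D.kill_scale h (κ₀ := algebraMap F K c) (c := c * c) ?_ (mul_ne_zero hc hc) hc1 fun u κ x => E_smul c u κ x
  intro h0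
  exact hc ((map_eq_zero (algebraMap F K)).1 h0)

/-- `|F| = 3`, `dim K = 2` -/
theorem kill_two [Fintype F] (h3 : Fintype.card F = 3) (h2 : finrank F K = 2) : False := by
  have hthree : (3 : F) = 0 := by
    have := Nat.cast_card_eq_zero F
    rw [h3] at this
    exact_mod_cast this
  have hone : (1 : F) ≠ 0 := one_ne_zero
  have htwo : (2 : F) ≠ 0 := by
    intro h0
    apply hone
    linear_combination hthree - h0
  have htwo1 : (2 : F) ≠ 1 := by
    intro h0
    apply hone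
    linear_combination h0
  have hfd : FiniteDimensional F K := FiniteDimensional.of_finrank_pos D.hr.pos
  have hKfin : Finite K := Module.finite_of_finite F
  have : Fintype K := Fintype.ofFinite K
  have hcard : Fintype.card K = 9 := by
    rw [Module.card_eq_pow_finrank (K := F) (V := K), h3, h2]
    norm_num
  obtain ⟨i, hi⟩ : IsSquare (-1 : K) := by
    rw [FiniteField.isSquare_neg_one_iff, hcard]
    norm_num
  have hiF : ∀ c : F, algebraMap F K c ≠ i := by
    rintro c rfl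
    have e1 : c * c = -1 := by
      apply (algebraMap F K).injective
      rw [map_mul, ← hi, map_neg, map_one]
    have e2 : c ^ 3 = c := by
      rw [← h3]
      exact FiniteField.pow_card c
    have e3 : 2 * c = 0 := by linear_combination c * e1 - e2
    have e4 : c = 0 := (mul_eq_zero.1 e3).resolve_left htwo
    rw [e4] at e1
    apply hone
    linear_combination e1
  -- `K = F + F i`
  have hspan : ∀ κ : K, ∃ α β : F, κ = algebraMap F K α + β • i := by
    let L : (F × F) →ₗ[F] K :=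
      { toFun := fun p => algebraMap F K p.1 + p.2 • i
        map_add' := fun p q => by
          rw [Prod.fst_add, Prod.snd_add, map_add, add_smul]
          abel
        map_smul' := fun c p => by
          rw [Prod.smul_fst, Prod.smul_snd, smul_eq_mul, map_mul, RingHom.id_apply, smul_add, smul_assoc,
            ← Algebra.smul_def] }
    have hL : Function.Injective L := by
      rw [← LinearMap.ker_eq_bot, LinearMap.ker_eq_bot']
      rintro ⟨a, b⟩ hab
      have e1 : algebraMap F K a + b • i = 0 := hab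
      have hb : b = 0 := by
        by_contra hb
        apply hiF (-(b⁻¹ * a))
        have e2 : i = b⁻¹ • (b • i) := by rw [smul_smul, inv_mul_cancel₀ hb, one_smul]
        rw [e2, eq_neg_of_add_eq_zero_right e1, map_neg, map_mul, smul_neg, ← Algebra.smul_def]
      rw [hb, zero_smul, add_zero] at e1
      rw [(map_eq_zero (algebraMap F K)).1 e1, hb]
      rfl
    have hL' : Function.Surjective L :=
      (LinearMap.injective_iff_surjective_of_finrank_eq_finrank (by rw [h2, finrank_prod, finrank_self])).1 hL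
    intro κ
    obtain ⟨⟨a, b⟩, hab⟩ := hL' κ
    exact ⟨a, b, hab.symm⟩
  refine D.kill_scale h (κ₀ := 1 + i) (c := 2) ?_ htwo htwo1 fun u κ x => ?_
  · intro h0
    apply hiF (-1)
    rw [map_neg, map_one]
    linear_combination -h0
  · obtain ⟨α, β, rfl⟩ := hspan κ
    have hii : ∀ y : ι → F, i • i • y = -y := by
      intro y
      rw [smul_smul, ← hi, neg_smul, one_smul]
    unfold E
    have e1 : (algebraMap F K α + β • i) • (1 + i) • u = α • u + α • (i • u) + (β • (i • u) - β • u) := by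
      rw [add_smul (algebraMap F K α), algebraMap_smul, add_smul (1 : K), one_smul, smul_add α, smul_assoc β,
        smul_add i, hii, smul_add β, smul_neg]
      abel
    have e2 : (algebraMap F K α + β • i) • u = α • u + β • (i • u) := by
      rw [add_smul (algebraMap F K α), algebraMap_smul, smul_assoc β]
    have e3 : (1 + i) • u = u + i • u := by rw [add_smul, one_smul]
    rw [e1, e2, e3]
    clear e1 e2 e3
    generalize i • u = w
    simp only [map_add, map_sub, phi_smul_right D.halt, map_smul, smul_eq_mul]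
    generalize ℓ (φ x u) = s
    generalize ℓ (φ x w) = t
    module

omit h in
theorem toEq_neg (g : GL ι F) (x : ι → F) : toEq (-1 * g) x = -toEq g x := by
  rw [toEq_apply, toEq_apply, neg_one_mul, Units.val_neg, Matrix.neg_mulVec]

omit h in
theorem neg_mem {g : GL ι F} (hg : g ∈ m.hat A) : (-1 * g) ∈ m.hat A := by
  refine (m.hat A).mul_mem (m.scal_le A ⟨?_, ?_⟩) hg
  · show (-1 : GL ι F) ∈ scalars ι F
    rw [mem_scalars_iff]
    exact ⟨-1, by simp only [_root_.Units.val_neg, _root_.Units.val_one, _root_.neg_smul, _root_.one_smul]⟩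
  · show (-1 : GL ι F) ∈ S
    rw [D.hS]
    intro x y
    have := D.toEq_neg 1
    rw [mul_one] at this
    rw [this, this, map_one, LinearEquiv.coe_one, id_eq, id_eq, φ.map_neg, LinearMap.neg_apply, (φ x).map_neg,
      neg_neg]

omit h in
/-- the elements of `M̂0` map `v` to `± v`. -/
theorem mem_M_iff (hdim : 3 ≤ finrank F K) {v : ι → F} (hv : v ≠ 0) {g : GL ι F} (hg : g ∈ m.hat A) :
    g ∈ cj (toEq.symm (fT ℓ D.halt v)) (m.hat A) ↔ toEq g v = v ∨ toEq g v = -v := by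
  rw [D.mem_cj_iff hv hg]
  constructor
  · intro hE
    exact eq_or_neg (D.hnd') D.hl hdim hv (fun h0 => hv ((toEq g).injective (by rw [h0, map_zero]))) hE
  · rintro (h1 | h1) κ x
    · rw [h1]
    · rw [h1]
      have := E_smul (φ := φ) (ℓ := ℓ) (-1) v κ x
      rw [map_neg, map_one, neg_smul, one_smul] at this
      rw [this]
      norm_num

/-- all the elements of `M̂0` are `K`-linear -/
theorem kill_lin (hdim : 3 ≤ finrank F K) {v : ι → F} (hv : v ≠ 0)
    (hlin : ∀ g ∈ m.hat A, (toEq g v = v ∨ toEq g v = -v) → ∀ (κ : K) x, toEq g (κ • x) = κ • toEq g x) : False := by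
  obtain ⟨κ₀, hκ₀⟩ := D.exists_K
  have h0 : κ₀ ≠ 0 := by
    rintro rfl
    exact hκ₀ 0 (map_zero _)
  obtain ⟨γ, hγ, hγv⟩ := exists_h (F := F) D.halt D.hnd D.hl hv h0
  have hgA := D.mem_of_PK hγ
  have h1 : toEq.symm γ ∈ cj (toEq.symm (fT ℓ D.halt v)) (m.hat A) := by
    refine kill_self h m (D.z_mem v) (D.z_notMem hv) hgA fun k hk hkz => ?_
    rw [D.mem_M_iff hdim hv hk] at hkz
    rw [D.mem_M_iff hdim hv ((m.hat A).mul_mem ((m.hat A).mul_mem hgA hk) ((m.hat A).inv_mem hgA))]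
    rw [map_mul, map_mul, map_inv, MulEquiv.apply_symm_apply, LinearEquiv.mul_apply, LinearEquiv.mul_apply]
    have e1 : γ⁻¹ v = κ₀⁻¹ • v := by
      apply γ.injective
      rw [apply_inv_apply, hγ.1, hγv, smul_smul, inv_mul_cancel₀ h0, one_smul]
    rw [e1, hlin k hk hkz, hγ.1]
    rcases hkz with h2 | h2
    · left
      rw [h2, hγv, smul_smul, inv_mul_cancel₀ h0, one_smul]
    · right
      rw [h2, map_neg, hγv, smul_neg, smul_smul, inv_mul_cancel₀ h0, one_smul]
  rw [D.mem_M_iff hdim hv hgA, MulEquiv.apply_symm_apply, hγv] at h1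
  rcases h1 with h1 | h1
  · have : (κ₀ - 1) • v = 0 := by rw [sub_smul, h1, one_smul, sub_self]
    exact hκ₀ 1 (by rw [map_one, sub_eq_zero.1 ((smul_eq_zero.1 this).resolve_right hv)])
  · have : (κ₀ + 1) • v = 0 := by rw [add_smul, h1, one_smul, neg_add_cancel]
    exact hκ₀ (-1) (by
      rw [map_neg, map_one, eq_neg_of_add_eq_zero_left ((smul_eq_zero.1 this).resolve_right hv)])

end Dat

end Core

/-! ### the semilinear case -/

section Semi

variable {Q : Type*} [Group Q] [Finite Q] {A : Subgroup Q} {Γ : Subgroup (MulAut Q)} (h : EPT A Γ)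
variable {ι : Type} [Fintype ι] [DecidableEq ι] {F : Type*} [Field F] {S : Subgroup (GL ι F)} {m : Model Q S}
variable {K : Type*} [Field K] [Algebra F K] [Module K (ι → F)] [IsScalarTower F K (ι → F)]
  {φ : (ι → F) →ₗ[K] (ι → F) →ₗ[K] K} (D : Dat m A φ (Algebra.trace F K))

include D

theorem tv_mem_M (hdim : 3 ≤ finrank F K) {v : ι → F} (hv : v ≠ 0) {u : ι → F} (huv : φ v u = 0) (a : K) :
    toEq.symm (tvE F D.halt u a) ∈ m.hat A ⊓ cj (toEq.symm (fT (Algebra.trace F K) D.halt v)) (m.hat A) := by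
  have h1 := D.mem_of_PK (tvE_mem (F := F) D.halt u a)
  refine mem_inf.2 ⟨h1, ?_⟩
  rw [D.mem_M_iff hdim hv h1, MulEquiv.apply_symm_apply, tvE_apply, huv, mul_zero, zero_smul, add_zero]
  exact Or.inl rfl

/-- the commutators of `M̂0` are `K`-linear isometries and fix `v` -/
theorem comm_le [Finite K] (hdim : 3 ≤ finrank F K) {v : ι → F} (hv : v ≠ 0) {g : GL ι F}
    (hg : g ∈ ⁅m.hat A ⊓ cj (toEq.symm (fT (Algebra.trace F K) D.halt v)) (m.hat A),
      m.hat A ⊓ cj (toEq.symm (fT (Algebra.trace F K) D.halt v)) (m.hat A)⁆) :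
    toEq g ∈ PK F φ ∧ toEq g v = v := by
  let P' : Subgroup (GL ι F) :=
    { carrier := {g | toEq g ∈ PK F φ ∧ toEq g v = v}
      mul_mem' := by
        rintro a b ⟨ha, ha'⟩ ⟨hb, hb'⟩
        refine ⟨?_, ?_⟩
        · rw [map_mul]
          exact (PK F φ).mul_mem ha hb
        · rw [map_mul, LinearEquiv.mul_apply, hb', ha']
      one_mem' := ⟨by rw [map_one]; exact (PK F φ).one_mem, by rw [map_one]; rfl⟩
      inv_mem' := by
        rintro a ⟨ha, ha'⟩
        refine ⟨?_, ?_⟩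
        · rw [map_inv]
          exact (PK F φ).inv_mem ha
        · rw [map_inv]
          apply (toEq a).injective
          rw [apply_inv_apply, ha'] }
  have hle : ⁅m.hat A ⊓ cj (toEq.symm (fT (Algebra.trace F K) D.halt v)) (m.hat A),
      m.hat A ⊓ cj (toEq.symm (fT (Algebra.trace F K) D.halt v)) (m.hat A)⁆ ≤ P' := by
    rw [Subgroup.commutator_le]
    intro a ha b hb
    obtain ⟨haA, haz⟩ := mem_inf.1 ha
    obtain ⟨hbA, hbz⟩ := mem_inf.1 hb
    obtain ⟨haS, σ, hσ⟩ := (D.hA a).1 haA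
    obtain ⟨hbS, τ, hτ⟩ := (D.hA b).1 hbA
    rw [D.mem_M_iff hdim hv haA] at haz
    rw [D.mem_M_iff hdim hv hbA] at hbz
    have h1 : Sl K ⁅a, b⁆ (σ * τ * σ⁻¹ * τ⁻¹) := ((hσ.mul hτ).mul hσ.inv).mul hτ.inv
    have h2 : σ * τ * σ⁻¹ * τ⁻¹ = 1 := by
      have h3 : σ * τ = τ * σ := IsMulCommutative.is_comm.comm σ τ
      rw [h3]
      group
    rw [h2] at h1
    have hcS : ⁅a, b⁆ ∈ S := S.mul_mem (S.mul_mem (S.mul_mem haS hbS) (S.inv_mem haS)) (S.inv_mem hbS)
    have h3 := phi_semi D.hl (g := toEq ⁅a, b⁆) (σ := 1) h1 ((D.hS _).1 hcS)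
    refine ⟨⟨h1, h3⟩, ?_⟩
    have key : ∀ g : GL ι F, (toEq g v = v ∨ toEq g v = -v) →
        ∃ ε : F, ε * ε = 1 ∧ toEq g v = ε • v ∧ toEq g⁻¹ v = ε • v := by
      intro g hg
      obtain ⟨ε, hε, h4⟩ : ∃ ε : F, ε * ε = 1 ∧ toEq g v = ε • v := by
        rcases hg with h4 | h4
        · exact ⟨1, mul_one _, by rw [h4, one_smul]⟩
        · exact ⟨-1, by ring, by rw [h4, neg_smul, one_smul]⟩
      refine ⟨ε, hε, h4, ?_⟩
      rw [map_inv]
      apply (toEq g).injective
      rw [apply_inv_apply, map_smul, h4, smul_smul, hε, one_smul]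
    obtain ⟨ε, hε, h4, h5⟩ := key a haz
    obtain ⟨δ, hδ, h6, h7⟩ := key b hbz
    rw [commutatorElement_def, map_mul, map_mul, map_mul, LinearEquiv.mul_apply, LinearEquiv.mul_apply,
      LinearEquiv.mul_apply]
    simp only [h7, map_smul, h5, h6, h4, smul_smul]
    have e1 : δ * ε * δ * ε = 1 := by linear_combination (δ * δ) * hε + hδ
    rw [e1, one_smul]
  exact hle hg

/-- `[τ, T_{u,l}] = T_{u, σ l - l}` for `τ u = ± u`, `[d, T_{u,a}] = T_{κu, a} T_{u,-a}` -/
theorem comm_tv {g : GL ι F} (hg : g ∈ m.hat A) {σ : K ≃ₐ[F] K} (hσ : Sl K g σ) (u : ι → F) (a : K) :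
    toEq ⁅g, toEq.symm (tvE F D.halt u a)⁆ = tvE F D.halt (toEq g u) (σ a) * tvE F D.halt u (-a) := by
  rw [commutatorElement_def, map_mul, map_mul, map_mul, map_inv, map_inv, MulEquiv.apply_symm_apply, tvE_inv,
    tvE_conj D.halt hσ (phi_semi D.hl hσ ((D.hS g).1 ((D.hA g).1 hg).1))]

theorem tv_neg (v : ι → F) (a : K) : tvE F D.halt (-v) a = tvE F D.halt v a := by
  have := tvE_smul (F := F) D.halt v (-1) a
  rw [neg_smul, one_smul] at this
  rw [this]
  congr 1
  ring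

theorem tv_inj {v : ι → F} (hv : v ≠ 0) {a : K} (ha : tvE F D.halt v a = 1) : a = 0 := by
  obtain ⟨y, hy⟩ := D.hnd' v hv
  have h1 := congrArg (fun g : (ι → F) ≃ₗ[F] (ι → F) => g y) ha
  have h2 : y + (a * φ y v) • v = y := h1
  have h3 : (a * φ y v) • v = 0 := add_eq_left.1 h2
  exact (mul_eq_zero.1 ((smul_eq_zero.1 h3).resolve_right hv)).resolve_right hy

/-- the elements of `M̂0` centralising `M̂0'` modulo scalars -/
theorem eq_pm [Finite K] (hdim : 3 ≤ finrank F K) (h2 : (2 : F) ≠ 0) {v : ι → F} (hv : v ≠ 0) {τ : GL ι F}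
    (hτ : τ ∈ m.hat A) (hτv : toEq τ v = v ∨ toEq τ v = -v) {σ : K ≃ₐ[F] K} (hσ : Sl K τ σ)
    (hσ1 : ∃ κ, σ κ ≠ κ) {c : GL ι F}
    (hc : c ∈ m.hat A ⊓ cj (toEq.symm (fT (Algebra.trace F K) D.halt v)) (m.hat A))
    (hcd : ∀ d ∈ ⁅m.hat A ⊓ cj (toEq.symm (fT (Algebra.trace F K) D.halt v)) (m.hat A),
      m.hat A ⊓ cj (toEq.symm (fT (Algebra.trace F K) D.halt v)) (m.hat A)⁆, ⁅c, d⁆ ∈ scalars ι F) :
    ∃ a : K, toEq c = tvE F D.halt v a ∨ toEq (-1 * c) = tvE F D.halt v a := by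
  set M := m.hat A ⊓ cj (toEq.symm (fT (Algebra.trace F K) D.halt v)) (m.hat A) with hM
  obtain ⟨hcA, hcz⟩ := mem_inf.1 hc
  rw [D.mem_M_iff hdim hv hcA] at hcz
  obtain ⟨hcS, ρ, hρ⟩ := (D.hA c).1 hcA
  have hvv : φ v v = 0 := D.halt v
  have hτM : τ ∈ M := mem_inf.2 ⟨hτ, (D.mem_M_iff hdim hv hτ).2 hτv⟩
  -- `ρ` fixes `σ l - l`
  have hfix : ∀ l : K, ρ (σ l - l) = σ l - l := by
    intro l
    have hd := Subgroup.commutator_mem_commutator hτM (tv_mem_M D hdim hv hvv l)
    have e1 : toEq ⁅τ, toEq.symm (tvE F D.halt v l)⁆ = tvE F D.halt v (σ l - l) := by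
      rw [comm_tv D hτ hσ]
      rcases hτv with h3 | h3
      · rw [h3, tvE_mul, sub_eq_add_neg]
      · rw [h3, tv_neg D, tvE_mul, sub_eq_add_neg]
    set d := ⁅τ, toEq.symm (tvE F D.halt v l)⁆ with hdd
    have e2 : d = toEq.symm (tvE F D.halt v (σ l - l)) := by rw [← e1, MulEquiv.symm_apply_apply]
    have h3 := hcd d hd
    rw [mem_scalars_iff] at h3
    obtain ⟨s, hs⟩ := h3
    have e3 : toEq ⁅c, d⁆ = tvE F D.halt v (ρ (σ l - l) - (σ l - l)) := by
      rw [e2, comm_tv D hcA hρ]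
      rcases hcz with h3 | h3
      · rw [h3, tvE_mul, ← sub_eq_add_neg]
      · rw [h3, tv_neg D, tvE_mul, ← sub_eq_add_neg]
    have e4 : ∀ x, toEq ⁅c, d⁆ x = (s : F) • x := by
      intro x
      rw [toEq_apply, hs, Matrix.smul_mulVec, Matrix.one_mulVec]
    have e5 : (s : F) = 1 := by
      have e6 := e4 v
      rw [e3, tvE_apply, hvv, mul_zero, zero_smul, add_zero] at e6
      have e7 : ((s : F) - 1) • v = 0 := by rw [sub_smul, ← e6, one_smul, sub_self]
      exact sub_eq_zero.1 ((smul_eq_zero.1 e7).resolve_right hv)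
    have e6 : tvE F D.halt v (ρ (σ l - l) - (σ l - l)) = 1 := by
      rw [← e3]
      ext x
      rw [e4, e5, one_smul]
      rfl
    exact sub_eq_zero.1 (tv_inj D hv e6)
  -- `ρ = 1`
  have hρ1 : ∀ κ, ρ κ = κ := by
    by_contra hcon
    push Not at hcon
    obtain ⟨l, hl⟩ := exists_not_fix D.hr hdim hσ1
    obtain ⟨b, hb⟩ := fix_F D.hr hcon (hfix l)
    exact hl b hb
  have hρ1' : ρ = 1 := AlgEquiv.ext hρ1
  have hcPK : toEq c ∈ PK F φ := by
    refine ⟨fun κ x => by rw [hρ, hρ1], fun x y => ?_⟩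
    rw [phi_semi D.hl hρ ((D.hS c).1 hcS), hρ1]
  have h2K : (2 : K) ≠ 0 := by
    intro h0
    apply h2
    apply (algebraMap F K).injective
    rw [map_zero, map_ofNat]
    exact h0
  -- the transvections at `u`
  have hu : ∀ u, φ u v = 0 → (∀ k : K, u ≠ k • v) → ∃ s : F, ∀ x,
      (toEq c * tvE F D.halt u 1 * (toEq c)⁻¹) x = s • tvE F D.halt u 1 x := by
    intro u hu hu'
    obtain ⟨κ, hκ⟩ := D.exists_K
    have hκ0 : κ ≠ 0 := by
      rintro rfl
      exact hκ 0 (map_zero _)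
    obtain ⟨δ, hδ, hδv, hδu⟩ := exists_d (F := F) D.halt D.hnd D.hl hu hu' hκ0
    have hκ1 : κ * κ - 1 ≠ 0 := by
      intro h0
      have h1 : (κ - 1) * (κ + 1) = 0 := by linear_combination h0
      rcases mul_eq_zero.1 h1 with h3 | h3
      · exact hκ 1 (by rw [map_one, sub_eq_zero.1 h3])
      · exact hκ (-1) (by rw [map_neg, map_one, eq_neg_of_add_eq_zero_left h3])
    have hvu : φ v u = 0 := by rw [skew_of D.halt, hu, neg_zero]
    have hδA := D.mem_of_PK hδ
    have hδM : toEq.symm δ ∈ M := by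
      refine mem_inf.2 ⟨hδA, (D.mem_M_iff hdim hv hδA).2 (Or.inl ?_)⟩
      rw [MulEquiv.apply_symm_apply, hδv]
    have hδσ : Sl K (toEq.symm δ) (AlgEquiv.refl : K ≃ₐ[F] K) := by
      intro κ x
      rw [MulEquiv.apply_symm_apply]
      exact hδ.1 κ x
    have hd := Subgroup.commutator_mem_commutator hδM (tv_mem_M D hdim hv hvu (κ * κ - 1)⁻¹)
    have e1 : toEq ⁅toEq.symm δ, toEq.symm (tvE F D.halt u (κ * κ - 1)⁻¹)⁆ = tvE F D.halt u 1 := by
      rw [comm_tv D hδA hδσ, MulEquiv.apply_symm_apply, hδu, tvE_smul, tvE_mul]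
      congr 1
      have e2 : (AlgEquiv.refl : K ≃ₐ[F] K) (κ * κ - 1)⁻¹ = (κ * κ - 1)⁻¹ := rfl
      rw [e2]
      have e3 : κ * κ * (κ * κ - 1)⁻¹ + -(κ * κ - 1)⁻¹ = (κ * κ - 1) * (κ * κ - 1)⁻¹ := by ring
      rw [e3, mul_inv_cancel₀ hκ1]
    set d := ⁅toEq.symm δ, toEq.symm (tvE F D.halt u (κ * κ - 1)⁻¹)⁆ with hdd
    have h3 := hcd d hd
    rw [mem_scalars_iff] at h3
    obtain ⟨s, hs⟩ := h3
    refine ⟨s, fun x => ?_⟩
    rw [← e1, ← map_mul, ← map_inv, ← map_mul]
    have e4 : c * d * c⁻¹ = ⁅c, d⁆ * d := by rw [commutatorElement_def]; group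
    rw [e4, map_mul, LinearEquiv.mul_apply, toEq_apply, hs, Matrix.smul_mulVec, Matrix.one_mulVec]
  rcases hcz with h3 | h3
  · obtain ⟨a, ha⟩ := eq_tvE (F := F) D.halt D.hnd D.hl h2K hv hcPK h3 hu
    exact ⟨a, Or.inl ha⟩
  · have hneg := D.toEq_neg c
    have h4 : toEq (-1 * c) ∈ PK F φ := by
      refine ⟨fun κ x => ?_, fun x y => ?_⟩
      · rw [hneg, hneg, hcPK.1, smul_neg]
      · rw [hneg, hneg, φ.map_neg, LinearMap.neg_apply, (φ _).map_neg, neg_neg, hcPK.2]
    obtain ⟨a, ha⟩ := eq_tvE (F := F) D.halt D.hnd D.hl h2K hv h4 (by rw [hneg, h3, neg_neg]) (by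
      intro u hu1 hu2
      obtain ⟨s, hs⟩ := hu u hu1 hu2
      refine ⟨s, fun x => ?_⟩
      rw [← hs]
      have e5 : (toEq (-1 * c))⁻¹ x = -((toEq c)⁻¹ x) := by
        apply (toEq (-1 * c)).injective
        rw [apply_inv_apply, hneg, map_neg, apply_inv_apply, neg_neg]
      rw [LinearEquiv.mul_apply, LinearEquiv.mul_apply, LinearEquiv.mul_apply, LinearEquiv.mul_apply, e5, hneg,
        map_neg, map_neg, neg_neg])
    exact ⟨a, Or.inr ha⟩

include h

/-- some element of `M̂0` is not `K`-linear -/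
theorem kill_semi [Finite K] (hdim : 3 ≤ finrank F K) (h2 : (2 : F) ≠ 0) {v : ι → F} (hv : v ≠ 0) {τ : GL ι F}
    (hτ : τ ∈ m.hat A) (hτv : toEq τ v = v ∨ toEq τ v = -v) {σ : K ≃ₐ[F] K} (hσ : Sl K τ σ)
    (hσ1 : ∃ κ, σ κ ≠ κ) : False := by
  obtain ⟨Y, hY, hkill⟩ := kill_cent h m (D.z_mem v) (D.z_notMem hv)
  have hvv : φ v v = 0 := D.halt v
  -- the transvections at `v`
  have hX : ∀ a : K, toEq.symm (tvE F D.halt v a) ∈ Y := by
    intro a
    rw [hY]
    refine ⟨tv_mem_M D hdim hv hvv a, fun d hd => ?_⟩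
    obtain ⟨h1, h3⟩ := comm_le D hdim hv hd
    have h4 : toEq d * tvE F D.halt v a * (toEq d)⁻¹ = tvE F D.halt v a := by
      have := tvE_conj D.halt (σ := (AlgEquiv.refl : K ≃ₐ[F] K)) h1.1 h1.2 v a
      rw [h3] at this
      exact this
    have h5 : ⁅toEq.symm (tvE F D.halt v a), d⁆ = 1 := by
      apply toEq.injective
      rw [map_one, commutatorElement_def, map_mul, map_mul, map_mul, map_inv, map_inv, MulEquiv.apply_symm_apply]
      have h6 : tvE F D.halt v a * toEq d * (tvE F D.halt v a)⁻¹ * (toEq d)⁻¹ =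
          tvE F D.halt v a * (toEq d * tvE F D.halt v a * (toEq d)⁻¹)⁻¹ := by group
      rw [h6, h4, mul_inv_cancel]
    rw [h5]
    exact (scalars ι F).one_mem
  have hneg1 : (-1 : GL ι F) ∈ Y := by
    have h1 := hX 0
    rw [hY] at h1 ⊢
    have e1 : toEq.symm (tvE F D.halt v 0) = (1 : GL ι F) := by rw [tvE_zero, map_one]
    rw [e1] at h1
    have h3 : (-1 : GL ι F) ∈ m.hat A := by
      have := D.neg_mem (mem_inf.1 h1.1).1
      rwa [mul_one] at this
    have h4 : toEq (-1 : GL ι F) v = -v := by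
      have := D.toEq_neg 1 v
      rwa [mul_one, map_one, LinearEquiv.coe_one, id_eq] at this
    refine ⟨mem_inf.2 ⟨h3, (D.mem_M_iff hdim hv h3).2 (Or.inr h4)⟩, fun d _ => ?_⟩
    have h5 : ⁅(-1 : GL ι F), d⁆ = 1 := by
      rw [commutatorElement_eq_one_iff_mul_comm, neg_one_mul, mul_neg_one]
    rw [h5]
    exact (scalars ι F).one_mem
  obtain ⟨κ₀, hκ₀⟩ := D.exists_K
  have h0 : κ₀ ≠ 0 := by
    rintro rfl
    exact hκ₀ 0 (map_zero _)
  obtain ⟨γ, hγ, hγv⟩ := exists_h (F := F) D.halt D.hnd D.hl hv h0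
  have hgA := D.mem_of_PK hγ
  -- `Y` is not scalar
  have hYn : ¬ Y ≤ scalars ι F := by
    intro hle
    have h1 := hle (hX 1)
    rw [mem_scalars_iff] at h1
    obtain ⟨s, hs⟩ := h1
    have e4 : ∀ x, tvE F D.halt v 1 x = (s : F) • x := by
      intro x
      rw [← MulEquiv.apply_symm_apply toEq (tvE F D.halt v 1), toEq_apply, hs, Matrix.smul_mulVec, Matrix.one_mulVec]
    have e5 : (s : F) = 1 := by
      have e6 := e4 v
      rw [tvE_apply, hvv, mul_zero, zero_smul, add_zero] at e6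
      have e7 : ((s : F) - 1) • v = 0 := by rw [sub_smul, ← e6, one_smul, sub_self]
      exact sub_eq_zero.1 ((smul_eq_zero.1 e7).resolve_right hv)
    have e6 : tvE F D.halt v 1 = 1 := by
      ext x
      rw [e4, e5, one_smul]
      rfl
    exact one_ne_zero (tv_inj D hv e6)
  have h1 : toEq.symm γ ∈ cj (toEq.symm (fT (Algebra.trace F K) D.halt v)) (m.hat A) := by
    refine hkill hYn _ hgA fun c hc => ?_
    obtain ⟨hcM, hcd⟩ := (hY c).1 hc
    obtain ⟨a, ha⟩ := eq_pm D hdim h2 hv hτ hτv hσ hσ1 hcM hcd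
    have key : ∀ c : GL ι F, toEq c = tvE F D.halt v a → toEq.symm γ * c * (toEq.symm γ)⁻¹ ∈ Y := by
      intro c hc
      have e1 : toEq.symm γ * c * (toEq.symm γ)⁻¹ = toEq.symm (tvE F D.halt v (κ₀ * κ₀ * a)) := by
        apply toEq.injective
        rw [map_mul, map_mul, map_inv, MulEquiv.apply_symm_apply, MulEquiv.apply_symm_apply, hc]
        have := tvE_conj D.halt (σ := (AlgEquiv.refl : K ≃ₐ[F] K)) hγ.1 hγ.2 v a
        rw [hγv, tvE_smul] at this
        exact this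
      rw [e1]
      exact hX _
    rcases ha with ha | ha
    · exact key c ha
    · have h3 := key _ ha
      have e1 : toEq.symm γ * c * (toEq.symm γ)⁻¹ = (-1) * (toEq.symm γ * (-1 * c) * (toEq.symm γ)⁻¹) := by
        rw [neg_one_mul, neg_one_mul, mul_neg, neg_mul, neg_neg]
      rw [e1]
      exact Y.mul_mem hneg1 h3
  rw [D.mem_M_iff hdim hv hgA, MulEquiv.apply_symm_apply, hγv] at h1
  rcases h1 with h1 | h1
  · have : (κ₀ - 1) • v = 0 := by rw [sub_smul, h1, one_smul, sub_self]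
    exact hκ₀ 1 (by rw [map_one, sub_eq_zero.1 ((smul_eq_zero.1 this).resolve_right hv)])
  · have : (κ₀ + 1) • v = 0 := by rw [add_smul, h1, one_smul, neg_add_cancel]
    exact hκ₀ (-1) (by
      rw [map_neg, map_one, eq_neg_of_add_eq_zero_left ((smul_eq_zero.1 this).resolve_right hv)])

/-- **The core.** -/
theorem kill_all [Fintype F] (hF : 3 ≤ Fintype.card F) : False := by
  have hfd : FiniteDimensional F K := FiniteDimensional.of_finrank_pos D.hr.pos
  have hKfin : Finite K := Module.finite_of_finite F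
  by_cases h4 : ∃ c : F, c ≠ 0 ∧ c * c ≠ 1
  · obtain ⟨c, hc, hc1⟩ := h4
    exact D.kill_four h hc hc1
  push Not at h4
  -- `|F| = 3`
  have h3 : Fintype.card F = 3 := by
    classical
    have h5 : (Finset.univ : Finset F) ⊆ {0, 1, -1} := by
      intro c _
      by_cases hc : c = 0
      · simp only [hc, _root_.Finset.mem_insert, _root_.zero_ne_one, _root_.Finset.mem_singleton, _root_.zero_eq_neg, _root_.one_ne_zero, _root_.or_self, _root_.or_false]
      · have h6 : (c - 1) * (c + 1) = 0 := by linear_combination h4 c hc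
        rcases mul_eq_zero.1 h6 with h7 | h7
        · simp only [sub_eq_zero.1 h7, _root_.Finset.mem_insert, _root_.one_ne_zero, _root_.Finset.mem_singleton, _root_.true_or, _root_.or_true]
        · simp only [eq_neg_of_add_eq_zero_left h7, _root_.Finset.mem_insert, _root_.neg_eq_zero, _root_.one_ne_zero, _root_.Finset.mem_singleton, _root_.or_true]
    have h6 := Finset.card_le_card h5
    have h7 : ({0, 1, -1} : Finset F).card ≤ 3 := Finset.card_le_three
    rw [Finset.card_univ] at h6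
    omega
  rcases (Nat.lt_or_ge 2 (finrank F K)) with h5 | h5
  · have h2 : (2 : F) ≠ 0 := by
      intro h0
      have hthree : (3 : F) = 0 := by
        have := Nat.cast_card_eq_zero F
        rw [h3] at this
        exact_mod_cast this
      have hone : (1 : F) ≠ 0 := one_ne_zero
      apply hone
      linear_combination hthree - h0
    obtain ⟨v, hv⟩ := D.hne
    by_cases hlin : ∀ g ∈ m.hat A, (toEq g v = v ∨ toEq g v = -v) → ∀ (κ : K) x, toEq g (κ • x) = κ • toEq g x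
    · exact D.kill_lin h h5 hv hlin
    · push Not at hlin
      obtain ⟨τ, hτ, hτv, κ, x, hκx⟩ := hlin
      obtain ⟨-, σ, hσ⟩ := (D.hA τ).1 hτ
      refine kill_semi h D h5 h2 hv hτ hτv hσ ⟨κ, fun h6 => hκx ?_⟩
      rw [hσ, h6]
  · exact D.kill_two h h3 (le_antisymm h5 D.hr.two_le)

end Semi

/-! ### the row -/

section Row

/-- the automorphism of `K` -/
theorem exists_sig {F K V : Type*} [Field F] [Field K] [Algebra F K] [AddCommGroup V]
    [Module F V] [Module K V] [IsScalarTower F K V] [FiniteDimensional F K] {v : V} (hv : v ≠ 0) {g : V ≃ₗ[F] V}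
    (hg : ∀ κ : K, ∃ κ' : K, ∀ x, g (κ • x) = κ' • g x) : ∃ σ : K ≃ₐ[F] K, ∀ (κ : K) x, g (κ • x) = σ κ • g x := by
  choose s hs using hg
  have heq : ∀ a b : K, (∀ x, a • g x = b • g x) → a = b := by
    intro a b hab
    have h1 := hab (g⁻¹ v)
    rw [apply_inv_apply] at h1
    have h2 : (a - b) • v = 0 := by rw [sub_smul, h1, sub_self]
    exact sub_eq_zero.1 ((smul_eq_zero.1 h2).resolve_right hv)
  let f : K →ₐ[F] K :=
    { toFun := s
      map_one' := by
        apply heq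
        intro x
        rw [← hs, one_smul, one_smul]
      map_mul' := fun a b => by
        apply heq
        intro x
        rw [← hs, mul_smul, hs, hs, smul_smul]
      map_zero' := by
        apply heq
        intro x
        rw [← hs, zero_smul, zero_smul, map_zero]
      map_add' := fun a b => by
        apply heq
        intro x
        rw [← hs, add_smul, map_add, hs, hs, add_smul]
      commutes' := fun c => by
        apply heq
        intro x
        rw [← hs, algebraMap_smul, algebraMap_smul, map_smul] }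
  have hinj : Function.Injective f := f.toRingHom.injective
  have hsurj : Function.Surjective f := LinearMap.surjective_of_injective (f := f.toLinearMap) hinj
  exact ⟨AlgEquiv.ofBijective f ⟨hinj, hsurj⟩, fun κ x => hs κ x⟩

open Matrix in
theorem core_rho {Q : Type*} [Group Q] [Finite Q] {A : Subgroup Q} {Γ : Subgroup (MulAut Q)} (h : EPT A Γ)
    {F : Type*} [Field F] [Fintype F] {k : ℕ} (m : Model Q (Cfsg.spGL k F)) (hk : 2 ≤ k) (hF : 3 ≤ Fintype.card F)
    {K : Type*} [Field K] [Algebra F K] (hr : (finrank F K).Prime)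
    (ρ : K →ₐ[F] Matrix (Fin k ⊕ Fin k) (Fin k ⊕ Fin k) F)
    (hsa : ∀ κ x y, sympForm k F (ρ κ *ᵥ x) y = sympForm k F x (ρ κ *ᵥ y))
    (halt : ∀ κ x, sympForm k F (ρ κ *ᵥ x) x = 0)
    (hA : ∀ g, g ∈ m.hat A ↔ g ∈ spGL k F ∧ ∀ κ, ∃ κ', ∀ x, (g : Matrix _ _ F) *ᵥ (ρ κ *ᵥ x) =
      ρ κ' *ᵥ ((g : Matrix _ _ F) *ᵥ x)) : False := by
  letI instM : Module K (Fin k ⊕ Fin k → F) := modOf ρ
  have hsmul : ∀ (κ : K) (v : Fin k ⊕ Fin k → F), κ • v = ρ κ *ᵥ v := fun _ _ => rfl
  haveI instT : IsScalarTower F K (Fin k ⊕ Fin k → F) := by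
    refine ⟨fun c k v => ?_⟩
    rw [hsmul, hsmul, map_smul, smul_mulVec]
  have hfd : FiniteDimensional F K := FiniteDimensional.of_finrank_pos hr.pos
  have hKfin : Finite K := Module.finite_of_finite F
  have hℓ : Algebra.trace F K ≠ 0 := Algebra.trace_ne_zero F K
  obtain ⟨φ, hφ, hφa⟩ := exists_phi (V := Fin k ⊕ Fin k → F) hℓ (sympForm k F)
    Cfsg.Agent.ClassicalGeometry.SympBasic.sympForm_add_left Cfsg.Agent.ClassicalGeometry.SympBasic.sympForm_add_right
    Cfsg.Agent.ClassicalGeometry.SympBasic.sympForm_smul_left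
    (fun k x y => by rw [hsmul, hsmul, hsa]) (fun k x => by rw [hsmul, halt])
  have hnd : ∀ x : Fin k ⊕ Fin k → F, x ≠ 0 → ∃ y, φ x y ≠ 0 := by
    intro x hx
    by_contra hcon
    push Not at hcon
    apply hx
    apply Cfsg.Agent.ClassicalGeometry.SympBasic.eq_zero_of_forall_sympForm_right
    intro w
    rw [← hφ, hcon, map_zero]
  obtain ⟨v, hv⟩ : ∃ v : Fin k ⊕ Fin k → F, v ≠ 0 :=
    ⟨Pi.single (Sum.inl ⟨0, by omega⟩) 1, fun h0 => by simpa using congrFun h0 (Sum.inl ⟨0, by omega⟩)⟩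
  have hSS : ∀ g : GL (Fin k ⊕ Fin k) F, g ∈ spGL k F ↔
      ∀ x y, Algebra.trace F K (φ (toEq g x) (toEq g y)) = Algebra.trace F K (φ x y) := by
    intro g
    constructor
    · intro hg x y
      rw [hφ, hφ]
      exact hg x y
    · intro hg x y
      have := hg x y
      rw [hφ, hφ] at this
      exact this
  have D : Dat m A φ (Algebra.trace F K) := by
    refine ⟨hφa, hnd, hℓ, hr, hSS, fun g => ?_, v, hv⟩
    rw [hA]
    constructor
    · rintro ⟨h1, h2⟩
      exact ⟨h1, exists_sig hv (g := toEq g) h2⟩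
    · rintro ⟨h1, σ, hσ⟩
      exact ⟨h1, fun κ => ⟨σ κ, hσ κ⟩⟩
  exact kill_all h D hF

/-- **S3499, row Sp-C3** -/
theorem spC3 : ∀ {Q : Type} [Group Q] [Finite Q], IsSimpleGroup Q → ∀ {A : Subgroup Q}
    {Γ : Subgroup (MulAut Q)}, EPT A Γ → ∀ {F : Type} [Field F] [Fintype F] {k : ℕ}
    (m : Model Q (Cfsg.spGL k F)), 2 ≤ k → 3 ≤ Fintype.card F → ∀ (r : ℕ)
    (K : Subalgebra F (Matrix (Fin k ⊕ Fin k) (Fin k ⊕ Fin k) F)), r.Prime → IsFieldSubalgebra r K →
    IsSelfAdjointFor (Cfsg.sympForm k F) K → (∀ a ∈ K, ∀ v, Cfsg.sympForm k F (a.mulVec v) v = 0) →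
    m.hat A ≤ subalgebraNormalizer K → False := by
  intro Q _ _ _ A Γ h F _ _ k m hk hF r K hr hK hsa halt hA
  have hmax := m.isMaximalIn h.max
  have hAeq : m.hat A = subalgebraNormalizer K ⊓ spGL k F := by
    rcases hmax.2 (subalgebraNormalizer K ⊓ spGL k F) (le_inf hA hmax.1.le) inf_le_right with h1 | h1
    · exact h1.symm
    · exfalso
      exact not_spGL_le_normalizer hK hr.two_le hk (by rw [← h1]; exact inf_le_left)
  have hfr : finrank F K = r := hK.finrank_eq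
  have hnt : Nontrivial K := by
    apply nontrivial_of_finrank_pos (R := F)
    rw [hfr]
    exact hr.pos
  have hfield : IsField K :=
    { exists_pair_ne := exists_pair_ne K
      mul_comm := fun x y => Subtype.ext (hK.comm x x.2 y y.2)
      mul_inv_cancel := fun {a} ha => by
        obtain ⟨y, hy, hay⟩ := hK.inv a a.2 (fun h => ha (Subtype.ext h))
        exact ⟨⟨y, hy⟩, Subtype.ext hay⟩ }
  refine @core_rho Q _ _ A Γ h F _ _ k m hk hF K hfield.toField K.algebra (by rw [hfr]; exact hr)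
    K.val (fun k x y => hsa k k.2 x y) (fun k x => halt k k.2 x) ?_
  intro g
  rw [hAeq, mem_inf, and_comm]
  refine and_congr_right fun hg => ?_
  constructor
  · intro hgN κ
    obtain ⟨k', hk', h1⟩ := semilinear_of_mem hgN κ.2
    exact ⟨⟨k', hk'⟩, h1⟩
  · intro hgN
    apply mem_subalgebraNormalizer_of_semilinear
    intro κ hκ
    obtain ⟨κ', h1⟩ := hgN ⟨κ, hκ⟩
    exact ⟨κ', κ'.2, h1⟩

end Row

end Cfsg.Agent.H821.EP
end

-- part: H269/EPC/SpAct
section
/-!
# The action of `Sp_{2k}(F)` on vectors, transvections and tori (for S3499, class 2)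
-/

set_option autoImplicit false

namespace Cfsg.Agent.H269.EPC

open Cfsg Cfsg.Geo Cfsg.Agent.ClassicalGeometry.SympBasic Cfsg.Agent.H913.GeoBasic
open scoped MatrixGroups Matrix

variable {k : ℕ} {F : Type*} [Field F]

local notation "V" => (Fin k ⊕ Fin k → F)
local notation "f" => sympForm k F
local notation "GLk" => GL (Fin k ⊕ Fin k) F

/-- the action on vectors -/
def ap (g : GLk) (u : V) : V := (g : Matrix (Fin k ⊕ Fin k) (Fin k ⊕ Fin k) F) *ᵥ u

theorem ap_mul (g h : GLk) (u : V) : ap (g * h) u = ap g (ap h u) := by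
  rw [ap, ap, ap, Matrix.mulVec_mulVec, Units.val_mul]

theorem ap_one (u : V) : ap (1 : GLk) u = u := by rw [ap, Units.val_one, Matrix.one_mulVec]

theorem ap_add (g : GLk) (u w : V) : ap g (u + w) = ap g u + ap g w := Matrix.mulVec_add _ _ _

theorem ap_smul (g : GLk) (c : F) (u : V) : ap g (c • u) = c • ap g u := Matrix.mulVec_smul _ _ _

theorem ap_zero (g : GLk) : ap g (0 : V) = 0 := Matrix.mulVec_zero _

theorem ap_inv_ap (g : GLk) (u : V) : ap g⁻¹ (ap g u) = u := by rw [← ap_mul, inv_mul_cancel, ap_one]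

theorem ap_ap_inv (g : GLk) (u : V) : ap g (ap g⁻¹ u) = u := by rw [← ap_mul, mul_inv_cancel, ap_one]

theorem ap_inj {g : GLk} {u w : V} (h : ap g u = ap g w) : u = w := by
  rw [← ap_inv_ap g u, h, ap_inv_ap]

theorem ext_ap {g h : GLk} (e : ∀ u, ap g u = ap h u) : g = h := by
  apply Units.ext
  rw [← Matrix.mulVec_injective.eq_iff]
  funext u
  exact e u

theorem mem_sp {g : GLk} : g ∈ spGL k F ↔ ∀ u w, f (ap g u) (ap g w) = f u w := Iff.rfl

theorem exists_perm {t : ℕ} {D : Fin t → Submodule F V} {g : GLk} (hg : g ∈ decompositionStabilizer D) :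
    ∃ σ : Equiv.Perm (Fin t), (∀ l, ∀ u ∈ D l, ap g u ∈ D (σ l)) ∧ ∀ l, ∀ w ∈ D (σ l), ∃ u ∈ D l, ap g u = w := by
  obtain ⟨σ, hσ⟩ := hg
  refine ⟨σ, fun l u hu => ?_, fun l w hw => ?_⟩
  · rw [← hσ l]
    exact ⟨u, hu, by rw [Matrix.toLin'_apply]; rfl⟩
  · rw [← hσ l] at hw
    obtain ⟨u, hu, e⟩ := hw
    rw [Matrix.toLin'_apply] at e
    exact ⟨u, hu, e⟩

theorem mem_dec {t e : ℕ} {D : Fin t → Submodule F V} (hD : IsMDecomposition e D) {g : GLk}
    (h : ∀ l, ∃ j, ∀ u ∈ D l, ap g u ∈ D j) : g ∈ decompositionStabilizer D :=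
  mem_decompositionStabilizer_of' hD h

/-- an invertible matrix from a linear map preserving the form -/
theorem exists_gl (L : V →ₗ[F] V) (hL : ∀ u w, f (L u) (L w) = f u w) :
    ∃ g ∈ spGL k F, ∀ u, ap g u = L u := by
  have h1 : LinearMap.toMatrix' L ∈ Matrix.symplecticGroup (Fin k) F := by
    rw [mem_symplecticGroup_iff]
    intro u w
    rw [LinearMap.toMatrix'_mulVec, LinearMap.toMatrix'_mulVec, hL]
  have h2 : ∀ u, ap (Matrix.GeneralLinearGroup.mk'' (LinearMap.toMatrix' L) (SymplecticGroup.symplectic_det h1)) u =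
      L u := fun u => LinearMap.toMatrix'_mulVec L u
  refine ⟨Matrix.GeneralLinearGroup.mk'' (LinearMap.toMatrix' L) (SymplecticGroup.symplectic_det h1), ?_, h2⟩
  rw [mem_sp]
  intro u w
  rw [h2, h2, hL]

/-- the transvection `u ↦ u + c f(u, v) v` -/
theorem exists_transv (v : V) (c : F) : ∃ x ∈ spGL k F, ∀ u, ap x u = u + (c * f u v) • v := by
  have h1 := sympTransvection_mem v c
  have h2 : ∀ u, ap (Matrix.GeneralLinearGroup.mk'' (sympTransvection k v c) (SymplecticGroup.symplectic_det h1)) u =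
      u + (c * f u v) • v := fun u => sympTransvection_mulVec v u c
  refine ⟨_, ?_, h2⟩
  rw [mem_sp]
  intro u w
  exact sympForm_mulVec h1 u w

/-- the torus element `a ↦ c a`, `a' ↦ c⁻¹ a'` (where `f(a', a) = 1`) as a linear map -/
def tor (a a' : V) (c : Fˣ) : V →ₗ[F] V :=
  LinearMap.id + ((c : F) - 1) • ((sympBilin k F a').smulRight a) +
    (((c⁻¹ : Fˣ) : F) - 1) • (((sympBilin k F).flip a).smulRight a')

theorem tor_apply (a a' : V) (c : Fˣ) (u : V) :
    tor a a' c u = u + ((c : F) - 1) • (f a' u • a) + (((c⁻¹ : Fˣ) : F) - 1) • (f u a • a') := rfl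

theorem tor_form {a a' : V} (h : f a' a = 1) (c : Fˣ) (u w : V) : f (tor a a' c u) (tor a a' c w) = f u w := by
  have e1 : f a a' = -1 := by rw [sympForm_swap, h]
  have e2 : (c : F) * ((c⁻¹ : Fˣ) : F) = 1 := Units.mul_inv c
  rw [tor_apply, tor_apply]
  simp only [sympForm_add_left, sympForm_add_right, sympForm_smul_left, sympForm_smul_right, sympForm_self, h, e1]
  rw [sympForm_swap u a', sympForm_swap a w]
  linear_combination (f u a * f a' w - f a' u * f w a) * e2

/-- the torus elements form a group -/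
theorem exists_tor {a a' : V} (h : f a' a = 1) : ∃ H : Fˣ →* GLk, (∀ c, H c ∈ spGL k F) ∧
    ∀ c u, ap (H c) u = u + ((c : F) - 1) • (f a' u • a) + (((c⁻¹ : Fˣ) : F) - 1) • (f u a • a') := by
  choose g hg hg' using fun c : Fˣ => exists_gl (tor a a' c) (tor_form h c)
  refine ⟨MonoidHom.mk' g ?_, hg, hg'⟩
  intro c d
  apply ext_ap
  intro u
  rw [ap_mul, hg', hg', hg']
  simp only [tor_apply, sympForm_add_left, sympForm_add_right, sympForm_smul_left, sympForm_smul_right, sympForm_self,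
    h, mul_inv, Units.val_mul]
  module

end Cfsg.Agent.H269.EPC
end

-- part: H269/EPC/SpDec2
section
/-!
# The stabiliser of two nondegenerate decompositions `D` and `x D`, `x` the transvection of `a + b`, `a ∈ D i`, `b ∈ D j`
-/

set_option autoImplicit false

namespace Cfsg.Agent.H269.EPC

open Cfsg Cfsg.Geo Cfsg.Agent.ClassicalGeometry.SympBasic Cfsg.Agent.H913.GeoBasic
open scoped MatrixGroups Matrix

variable {k : ℕ} {F : Type*} [Field F]

local notation "V" => (Fin k ⊕ Fin k → F)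
local notation "f" => sympForm k F
local notation "GLk" => GL (Fin k ⊕ Fin k) F

variable {t e : ℕ} {D : Fin t → Submodule F (Fin k ⊕ Fin k → F)}

theorem orth (hD : IsNondegenerateMDecomposition f e D) {l l' : Fin t} (h : l ≠ l') {u w : V} (hu : u ∈ D l)
    (hw : w ∈ D l') : f u w = 0 := hD.orthogonal l l' h u hu w hw

/-- nondegeneracy on a member -/
theorem eq_of_pair (hD : IsNondegenerateMDecomposition f e D) {l : Fin t} {u w : V} (hu : u ∈ D l) (hw : w ∈ D l)
    (h : ∀ z ∈ D l, f u z = f w z) : u = w := by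
  by_contra hne
  obtain ⟨-, z, hz, hz1⟩ := hD.nondegenerate l (u - w) (Submodule.sub_mem _ hu hw) (sub_ne_zero.2 hne)
  apply hz1
  rw [sympForm_sub_left, h z hz, sub_self]

/-- a hyperbolic pair in a member -/
theorem exists_pair (hD : IsNondegenerateMDecomposition f e D) (l : Fin t) : ∃ a ∈ D l, ∃ a' ∈ D l, f a' a = 1 := by
  obtain ⟨a, ha, ha0⟩ : ∃ w ∈ D l, w ≠ 0 := by
    apply Submodule.exists_mem_ne_zero_of_ne_bot
    intro h
    have h2 := hD.decomp.finrank_eq l
    rw [h, finrank_bot] at h2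
    exact absurd h2.symm hD.decomp.pos.ne'
  obtain ⟨⟨z, hz, hz1⟩, -⟩ := hD.nondegenerate l a ha ha0
  refine ⟨a, ha, (f z a)⁻¹ • z, (D l).smul_mem _ hz, ?_⟩
  rw [sympForm_smul_left, inv_mul_cancel₀ hz1]

variable {i j : Fin t} {a a' b b' : Fin k ⊕ Fin k → F} {x : GL (Fin k ⊕ Fin k) F}

/-- the data -/
structure Dat (D : Fin t → Submodule F (Fin k ⊕ Fin k → F)) (e : ℕ) (i j : Fin t) (a a' b b' : Fin k ⊕ Fin k → F)
    (x : GL (Fin k ⊕ Fin k) F) : Prop where
  hD : IsNondegenerateMDecomposition (sympForm k F) e D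
  hij : i ≠ j
  ha : a ∈ D i
  ha' : a' ∈ D i
  hb : b ∈ D j
  hb' : b' ∈ D j
  haa : sympForm k F a' a = 1
  hbb : sympForm k F b' b = 1
  hx : ∀ u, ap x u = u + sympForm k F u (a + b) • (a + b)

theorem Dat.symm (d : Dat D e i j a a' b b' x) : Dat D e j i b b' a a' x where
  hD := d.hD
  hij := d.hij.symm
  ha := d.hb
  ha' := d.hb'
  hb := d.ha
  hb' := d.ha'
  haa := d.hbb
  hbb := d.haa
  hx := by
    intro u
    rw [d.hx, add_comm b a]

theorem Dat.apx_i (d : Dat D e i j a a' b b' x) {u : V} (hu : u ∈ D i) : ap x u = u + f u a • (a + b) := by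
  rw [d.hx, sympForm_add_right, orth d.hD d.hij hu d.hb, add_zero]

theorem Dat.apx_ne (d : Dat D e i j a a' b b' x) {l : Fin t} (hi : l ≠ i) (hj : l ≠ j) {u : V} (hu : u ∈ D l) :
    ap x u = u := by
  rw [d.hx, sympForm_add_right, orth d.hD hi hu d.ha, orth d.hD hj hu d.hb, add_zero, zero_smul, add_zero]

theorem Dat.apx_a' (d : Dat D e i j a a' b b' x) : ap x a' = a' + (a + b) := by
  rw [d.apx_i d.ha', d.haa, one_smul]

theorem Dat.apx_a (d : Dat D e i j a a' b b' x) : ap x a = a := by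
  rw [d.apx_i d.ha, sympForm_self, zero_smul, add_zero]

theorem Dat.fbb (d : Dat D e i j a a' b b' x) : f b b' = -1 := by rw [sympForm_swap, d.hbb]

/-- `x a'` lies in no member -/
theorem Dat.not_mem (d : Dat D e i j a a' b b' x) (l : Fin t) : ap x a' ∉ D l := by
  rw [d.apx_a']
  intro h
  by_cases hl : l = i
  · subst hl
    have h1 := orth d.hD d.hij h d.hb'
    rw [sympForm_add_left, sympForm_add_left, orth d.hD d.hij d.ha' d.hb', orth d.hD d.hij d.ha d.hb', d.fbb] at h1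
    simp at h1
  · have h1 := orth d.hD hl h d.ha
    rw [sympForm_add_left, sympForm_add_left, d.haa, sympForm_self, orth d.hD d.hij.symm d.hb d.ha] at h1
    simp at h1

/-- `g` permutes the members by `σ` -/
structure Perm' (D : Fin t → Submodule F (Fin k ⊕ Fin k → F)) (g : GL (Fin k ⊕ Fin k) F) (σ : Equiv.Perm (Fin t)) :
    Prop where
  mem : ∀ l, ∀ u ∈ D l, ap g u ∈ D (σ l)
  surj : ∀ l, ∀ w ∈ D (σ l), ∃ u ∈ D l, ap g u = w

theorem exists_perm' {g : GLk} (hg : g ∈ decompositionStabilizer D) : ∃ σ, Perm' D g σ := by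
  obtain ⟨σ, h1, h2⟩ := exists_perm hg
  exact ⟨σ, h1, h2⟩

theorem Perm'.inv {g : GLk} {σ : Equiv.Perm (Fin t)} (h : Perm' D g σ) : Perm' D g⁻¹ σ⁻¹ where
  mem := by
    intro l u hu
    have hu' : u ∈ D (σ (σ⁻¹ l)) := by rwa [show σ (σ⁻¹ l) = l from σ.apply_symm_apply l]
    obtain ⟨w, hw, e⟩ := h.surj _ u hu'
    rw [← e, ap_inv_ap]
    exact hw
  surj := by
    intro l w hw
    refine ⟨ap g w, ?_, ap_inv_ap g w⟩
    have := h.mem _ w hw
    rwa [show σ (σ⁻¹ l) = l from σ.apply_symm_apply l] at this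

theorem Perm'.mul {g g' : GLk} {σ σ' : Equiv.Perm (Fin t)} (h : Perm' D g σ) (h' : Perm' D g' σ') :
    Perm' D (g * g') (σ * σ') where
  mem := by
    intro l u hu
    rw [ap_mul]
    exact h.mem _ _ (h'.mem _ _ hu)
  surj := by
    intro l w hw
    obtain ⟨z, hz, e⟩ := h.surj _ w hw
    obtain ⟨u, hu, e'⟩ := h'.surj _ z hz
    exact ⟨u, hu, by rw [ap_mul, e', e]⟩

theorem Perm'.one : Perm' D 1 1 where
  mem := by
    intro l u hu
    rw [ap_one]
    exact hu
  surj := fun l w hw => ⟨w, hw, ap_one w⟩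

theorem Perm'.pow {g : GLk} {σ : Equiv.Perm (Fin t)} (h : Perm' D g σ) (n : ℕ) : Perm' D (g ^ n) (σ ^ n) := by
  induction n with
  | zero => rw [pow_zero, pow_zero]; exact Perm'.one
  | succ n ih => rw [pow_succ, pow_succ]; exact ih.mul h

theorem eq_zero_of_two (hD : IsNondegenerateMDecomposition f e D) {l l' : Fin t} (h : l ≠ l') {u : V} (hu : u ∈ D l)
    (hu' : u ∈ D l') : u = 0 :=
  eq_of_pair hD hu' (D l').zero_mem fun z hz => by rw [orth hD h hu hz, sympForm_zero_left]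

/-- `τ l ≠ i` -/
theorem Dat.ne_aux (d : Dat D e i j a a' b b' x) {g y : GLk} {σ τ : Equiv.Perm (Fin t)} (hg : Perm' D g σ)
    (hy : Perm' D y τ) (hgy : g * x = x * y) {l : Fin t} (hi : l ≠ i) (hj : l ≠ j) : τ l ≠ i := by
  intro h
  have h1 : a' ∈ D (τ l) := by rw [h]; exact d.ha'
  obtain ⟨u, hu, e1⟩ := hy.surj l a' h1
  apply d.not_mem (σ l)
  rw [← e1, ← ap_mul, ← hgy, ap_mul, d.apx_ne hi hj hu]
  exact hg.mem l u hu

/-- the complement of `{i, j}` is invariant -/
theorem Dat.ne (d : Dat D e i j a a' b b' x) {g y : GLk} {σ τ : Equiv.Perm (Fin t)} (hg : Perm' D g σ)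
    (hy : Perm' D y τ) (hgy : g * x = x * y) {l : Fin t} (hi : l ≠ i) (hj : l ≠ j) : σ l ≠ i ∧ σ l ≠ j := by
  have h1 : τ l ≠ i := d.ne_aux hg hy hgy hi hj
  have h2 : τ l ≠ j := d.symm.ne_aux hg hy hgy hj hi
  suffices h3 : σ l = τ l by
    rw [h3]
    exact ⟨h1, h2⟩
  by_contra hne
  obtain ⟨u, hu, u', -, huu⟩ := exists_pair d.hD l
  have e1 : ap g u = ap y u := by
    have e2 : ap (g * x) u = ap (x * y) u := by rw [hgy]
    rw [ap_mul, ap_mul, d.apx_ne hi hj hu, d.apx_ne h1 h2 (hy.mem l u hu)] at e2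
    exact e2
  have h3 : ap g u = 0 := eq_zero_of_two d.hD hne (hg.mem l u hu) (by rw [e1]; exact hy.mem l u hu)
  have h4 : u = 0 := ap_inj (g := g) (by rw [h3, ap_zero])
  rw [h4, sympForm_zero_right] at huu
  exact zero_ne_one huu

/-- `σ {i, j} = {i, j}` -/
theorem Dat.pair (d : Dat D e i j a a' b b' x) {g y : GLk} {σ τ : Equiv.Perm (Fin t)} (hg : Perm' D g σ)
    (hy : Perm' D y τ) (hgy : g * x = x * y) : (σ i = i ∧ σ j = j) ∨ (σ i = j ∧ σ j = i) := by
  have hgy' : g⁻¹ * x = x * y⁻¹ := by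
    have h1 : g * (x * y⁻¹) = x := by rw [← mul_assoc, hgy, mul_assoc, mul_inv_cancel, mul_one]
    rw [inv_mul_eq_iff_eq_mul, h1]
  have key : ∀ l, l = i ∨ l = j → σ l = i ∨ σ l = j := by
    intro l hl
    by_contra hcon
    push Not at hcon
    have h2 := d.ne hg.inv hy.inv hgy' hcon.1 hcon.2
    rw [show σ⁻¹ (σ l) = l from σ.symm_apply_apply l] at h2
    rcases hl with rfl | rfl
    · exact h2.1 rfl
    · exact h2.2 rfl
  have hne : σ i ≠ σ j := fun h => d.hij (σ.injective h)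
  rcases key i (Or.inl rfl) with h1 | h1
  · rcases key j (Or.inr rfl) with h2 | h2
    · exact absurd (h1.trans h2.symm) hne
    · exact Or.inl ⟨h1, h2⟩
  · rcases key j (Or.inr rfl) with h2 | h2
    · exact Or.inr ⟨h1, h2⟩
    · exact absurd (h1.trans h2.symm) hne

/-- if `σ i = i`, `σ j = j` then `y` fixes `D i`, `y a = g a` -/
theorem Dat.fix (d : Dat D e i j a a' b b' x) {g y : GLk} {σ τ : Equiv.Perm (Fin t)} (hg : Perm' D g σ)
    (hy : Perm' D y τ) (hgy : g * x = x * y) (hi : σ i = i) : τ i = i ∧ ap y a = ap g a := by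
  have e0 : ap g a = ap y a + f (ap y a) (a + b) • (a + b) := by
    have e1 : ap (g * x) a = ap (x * y) a := by rw [hgy]
    rw [ap_mul, ap_mul, d.apx_a, d.hx] at e1
    exact e1
  set s := f (ap y a) (a + b) with hs
  have hga : ap g a ∈ D i := by
    have := hg.mem i a d.ha
    rwa [hi] at this
  have hya := hy.mem i a d.ha
  have ha0 : ap g a ≠ 0 := by
    intro h0
    have h1 : a = 0 := ap_inj (g := g) (by rw [h0, ap_zero])
    have h2 := d.haa
    rw [h1, sympForm_zero_right] at h2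
    exact zero_ne_one h2
  -- pairing with `D j`
  have hj : ∀ z ∈ D j, 0 = f (ap y a) z + s * f b z := by
    intro z hz
    have h1 := orth d.hD d.hij hga hz
    rw [e0, sympForm_add_left, sympForm_smul_left, sympForm_add_left, orth d.hD d.hij d.ha hz, zero_add] at h1
    exact h1.symm
  by_cases hτ : τ i = i
  · refine ⟨hτ, ?_⟩
    rw [hτ] at hya
    have h2 := hj b' d.hb'
    rw [orth d.hD d.hij hya d.hb', d.fbb] at h2
    have h3 : s = 0 := by linear_combination h2
    rw [e0, h3, zero_smul, add_zero]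
  · exfalso
    -- pairing with `D i`
    have h1 : ap g a = s • a := by
      refine eq_of_pair d.hD hga ((D i).smul_mem _ d.ha) fun z hz => ?_
      rw [e0, sympForm_add_left, sympForm_smul_left, sympForm_smul_left, sympForm_add_left, orth d.hD hτ hya hz,
        orth d.hD d.hij.symm d.hb hz, zero_add, add_zero]
    have hs0 : s = 0 := by
      by_cases hτj : τ i = j
      · rw [hτj] at hya
        have h2 : ap y a = (-s) • b := by
          refine eq_of_pair d.hD hya ((D j).smul_mem _ d.hb) fun z hz => ?_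
          have h3 := hj z hz
          rw [sympForm_smul_left]
          linear_combination -h3
        rw [hs, h2, sympForm_smul_left, sympForm_add_right, orth d.hD d.hij.symm d.hb d.ha, sympForm_self, add_zero,
          mul_zero]
      · have h2 := hj b' d.hb'
        rw [orth d.hD hτj hya d.hb', d.fbb] at h2
        linear_combination h2
    rw [hs0, zero_smul] at h1
    exact ha0 h1

theorem Dat.char_aux (d : Dat D e i j a a' b b' x) {g y : GLk} {σ τ : Equiv.Perm (Fin t)} (hg : Perm' D g σ)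
    (hy : Perm' D y τ) (hgy : g * x = x * y) (hi : σ i = i) (hj : σ j = j) : ap g b = f (ap y a') a • b := by
  obtain ⟨hτ, -⟩ := d.fix hg hy hgy hi
  have hya' := hy.mem i a' d.ha'
  rw [hτ] at hya'
  have hga' := hg.mem i a' d.ha'
  rw [hi] at hga'
  have hga := hg.mem i a d.ha
  rw [hi] at hga
  have hgb := hg.mem j b d.hb
  rw [hj] at hgb
  have e1 : ap (g * x) a' = ap (x * y) a' := by rw [hgy]
  rw [ap_mul, ap_mul, d.apx_a', d.apx_i hya', ap_add, ap_add] at e1
  refine eq_of_pair d.hD hgb ((D j).smul_mem _ d.hb) fun z hz => ?_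
  have e2 := congrArg (fun u => f u z) e1
  simp only [sympForm_add_left, sympForm_smul_left] at e2
  rw [orth d.hD d.hij hga' hz, orth d.hD d.hij hga hz, orth d.hD d.hij hya' hz, orth d.hD d.hij d.ha hz] at e2
  rw [sympForm_smul_left]
  linear_combination e2

/-- the two eigenvalues are inverse to each other -/
theorem Dat.char (d : Dat D e i j a a' b b' x) {g y : GLk} {σ τ : Equiv.Perm (Fin t)} (hg : Perm' D g σ)
    (hy : Perm' D y τ) (hgy : g * x = x * y) (hyS : y ∈ spGL k F) (hi : σ i = i) (hj : σ j = j) :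
    ∃ r r' : F, r * r' = 1 ∧ ap g a = r' • a ∧ ap g b = r • b := by
  refine ⟨f (ap y a') a, f (ap y b') b, ?_, d.symm.char_aux hg hy hgy hj hi, d.char_aux hg hy hgy hi hj⟩
  have h1 := mem_sp.1 hyS a' a
  rw [d.haa, (d.fix hg hy hgy hi).2, d.symm.char_aux hg hy hgy hj hi, sympForm_smul_right] at h1
  linear_combination h1

/-- converse on `D i` -/
theorem Dat.conv_aux (d : Dat D e i j a a' b b' x) {g : GLk} {σ : Equiv.Perm (Fin t)} (hg : Perm' D g σ)
    (hgS : g ∈ spGL k F) (hi : σ i = i) {r r' : F} (hr : r * r' = 1) (h1 : ap g a = r' • a) (h2 : ap g b = r • b)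
    {u : V} (hu : u ∈ D i) : ap (x⁻¹ * g * x) u ∈ D i := by
  have hgu := hg.mem i u hu
  rw [hi] at hgu
  have e1 : ap (x⁻¹ * g * x) u = ap g u + (f u a * (r' - r)) • a := by
    apply ap_inj (g := x)
    rw [← ap_mul, show x * (x⁻¹ * g * x) = g * x by group, ap_mul, d.apx_i hu,
      d.apx_i (Submodule.add_mem _ hgu (Submodule.smul_mem _ _ d.ha)), ap_add, ap_smul, ap_add, h1, h2, sympForm_add_left,
      sympForm_smul_left, sympForm_self, mul_zero, add_zero]
    have h3 : f (ap g u) a = r * f u a := by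
      have h4 := mem_sp.1 hgS u a
      rw [h1, sympForm_smul_right] at h4
      linear_combination r * h4 - f (ap g u) a * hr
    rw [h3]
    module
  rw [e1]
  exact Submodule.add_mem _ hgu (Submodule.smul_mem _ _ d.ha)

/-- converse -/
theorem Dat.conv (d : Dat D e i j a a' b b' x) {g : GLk} {σ : Equiv.Perm (Fin t)} (hg : Perm' D g σ)
    (hgS : g ∈ spGL k F) (hi : σ i = i) (hj : σ j = j) {r r' : F} (hr : r * r' = 1) (h1 : ap g a = r' • a)
    (h2 : ap g b = r • b) : x⁻¹ * g * x ∈ decompositionStabilizer D := by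
  refine mem_dec d.hD.decomp fun l => ?_
  by_cases hl : l = i
  · exact ⟨i, fun u hu => d.conv_aux hg hgS hi hr h1 h2 (hl ▸ hu)⟩
  by_cases hl' : l = j
  · exact ⟨j, fun u hu => d.symm.conv_aux hg hgS hj (by rw [mul_comm]; exact hr) h2 h1 (hl' ▸ hu)⟩
  · refine ⟨σ l, fun u hu => ?_⟩
    have h3 : σ l ≠ i := fun h => hl (σ.injective (h.trans hi.symm))
    have h4 : σ l ≠ j := fun h => hl' (σ.injective (h.trans hj.symm))
    have e1 : ap (x⁻¹ * g * x) u = ap g u := by
      apply ap_inj (g := x)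
      rw [← ap_mul, show x * (x⁻¹ * g * x) = g * x by group, ap_mul, d.apx_ne hl hl' hu,
        d.apx_ne h3 h4 (hg.mem l u hu)]
    rw [e1]
    exact hg.mem l u hu

end Cfsg.Agent.H269.EPC
end

-- part: H269/EPC/SpC2
section
/-!
# S3499-III-Sp-C2: nondegenerate decompositions in `Sp_{2k}(F)`, `|F| ≥ 3`

`x` the transvection of `a + b`, `a ∈ D i`, `b ∈ D j`. The elements of odd order of `M0 = A ∩ A^x` fix `D i`, `D j`, and have
inverse eigenvalues on `a`, `b`; the subgroup `K` they generate is characteristic in `M0` and normalised by the torus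
element `h` of `D i` with `h a = c a`, `c ≠ 1`, which is not in `M0`.
-/

set_option autoImplicit false

namespace Cfsg.Agent.H269.EPC

open Cfsg Cfsg.Geo Cfsg.Agent.ClassicalGeometry.SympBasic Cfsg.Agent.H913.GeoBasic
open Cfsg.Agent.H284 Cfsg.Agent.H419.EP
open scoped MatrixGroups Matrix

variable {k : ℕ} {F : Type*} [Field F]

local notation "V" => (Fin k ⊕ Fin k → F)
local notation "f" => sympForm k F
local notation "GLk" => GL (Fin k ⊕ Fin k) F

variable {t e : ℕ} {D : Fin t → Submodule F (Fin k ⊕ Fin k → F)}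
variable {i j : Fin t} {a a' b b' : Fin k ⊕ Fin k → F} {x : GL (Fin k ⊕ Fin k) F}

/-- the elements fixing `D i`, `D j` with inverse eigenvalues on `a`, `b` -/
structure Plus (D : Fin t → Submodule F (Fin k ⊕ Fin k → F)) (i j : Fin t) (a b : Fin k ⊕ Fin k → F)
    (g : GL (Fin k ⊕ Fin k) F) : Prop where
  mem : g ∈ spGL k F
  perm : ∃ σ, Perm' D g σ ∧ σ i = i ∧ σ j = j
  char : ∃ r r' : F, r * r' = 1 ∧ ap g a = r' • a ∧ ap g b = r • b

theorem Plus.dec {g : GLk} (h : Plus D i j a b g) : g ∈ decompositionStabilizer D := by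
  obtain ⟨σ, hσ, -, -⟩ := h.perm
  refine ⟨σ, fun l => ?_⟩
  ext w
  constructor
  · rintro ⟨u, hu, rfl⟩
    rw [Matrix.toLin'_apply]
    exact hσ.mem l u hu
  · intro hw
    obtain ⟨u, hu, e1⟩ := hσ.surj l w hw
    exact ⟨u, hu, by rw [Matrix.toLin'_apply]; exact e1⟩

theorem Plus.conj (d : Dat D e i j a a' b b' x) {g : GLk} (h : Plus D i j a b g) :
    x⁻¹ * g * x ∈ decompositionStabilizer D := by
  obtain ⟨σ, hσ, hi, hj⟩ := h.perm
  obtain ⟨r, r', hr, h1, h2⟩ := h.char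
  exact d.conv hσ h.mem hi hj hr h1 h2

/-- from `M0` to `Plus` -/
theorem Dat.plus (d : Dat D e i j a a' b b' x) {g : GLk} (hg : g ∈ spGL k F) (hxS : x ∈ spGL k F)
    {σ : Equiv.Perm (Fin t)} (hσ : Perm' D g σ) (hy : x⁻¹ * g * x ∈ decompositionStabilizer D) (hi : σ i = i)
    (hj : σ j = j) : Plus D i j a b g := by
  obtain ⟨τ, hτ⟩ := exists_perm' hy
  refine ⟨hg, ⟨σ, hσ, hi, hj⟩, ?_⟩
  exact d.char hσ hτ (by group) ((spGL k F).mul_mem ((spGL k F).mul_mem ((spGL k F).inv_mem hxS) hg) hxS) hi hj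

/-- conjugation by an element fixing all members, `a` up to a scalar and `b` -/
theorem Plus.tor {g h : GLk} (hP : Plus D i j a b g) (hS : h ∈ spGL k F) (h1 : Perm' D h 1) {c : Fˣ}
    (ha : ap h a = (c : F) • a) (hb : ap h b = b) : Plus D i j a b (h * g * h⁻¹) := by
  obtain ⟨σ, hσ, hi, hj⟩ := hP.perm
  obtain ⟨r, r', hr, h2, h3⟩ := hP.char
  have ha' : ap h⁻¹ a = ((c⁻¹ : Fˣ) : F) • a := by
    apply ap_inj (g := h)
    rw [ap_ap_inv, ap_smul, ha, smul_smul, Units.inv_mul, one_smul]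
  have hb' : ap h⁻¹ b = b := by
    apply ap_inj (g := h)
    rw [ap_ap_inv, hb]
  refine ⟨(spGL k F).mul_mem ((spGL k F).mul_mem hS hP.mem) ((spGL k F).inv_mem hS), ⟨σ, ?_, hi, hj⟩,
    ⟨r, r', hr, ?_, ?_⟩⟩
  · have h4 := (h1.mul hσ).mul h1.inv
    rwa [inv_one, mul_one, one_mul] at h4
  · rw [ap_mul, ap_mul, ha', ap_smul, ap_smul, h2, ap_smul, ha, smul_smul, smul_smul]
    congr 1
    have := Units.inv_mul c
    linear_combination r' * this
  · rw [ap_mul, ap_mul, hb', h3, ap_smul, hb]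

/-- scalars fix every member -/
theorem perm_scalar {g : GLk} (hg : g ∈ scalars (Fin k ⊕ Fin k) F) : Perm' D g 1 := by
  obtain ⟨c, hc⟩ := (mem_scalars_iff g).1 hg
  have h1 : ∀ u : V, ap g u = (c : F) • u := by
    intro u
    rw [ap, hc, Matrix.smul_mulVec, Matrix.one_mulVec]
  constructor
  · intro l u hu
    rw [h1]
    exact (D l).smul_mem _ hu
  · intro l w hw
    refine ⟨((c⁻¹ : Fˣ) : F) • w, (D l).smul_mem _ hw, ?_⟩
    rw [h1, smul_smul, Units.mul_inv, one_smul]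

theorem perm_unique (hD : IsNondegenerateMDecomposition f e D) {g : GLk} {σ τ : Equiv.Perm (Fin t)}
    (h1 : Perm' D g σ) (h2 : Perm' D g τ) : σ = τ := by
  ext l
  by_contra hne
  obtain ⟨u, hu, u', -, huu⟩ := exists_pair hD l
  have hne' : σ l ≠ τ l := fun h => hne (by rw [h])
  have h3 : ap g u = 0 := eq_zero_of_two hD hne' (h1.mem l u hu) (h2.mem l u hu)
  have h4 : u = 0 := ap_inj (g := g) (by rw [h3, ap_zero])
  rw [h4, sympForm_zero_right] at huu
  exact zero_ne_one huu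

/-- a permutation exchanging `i`, `j` has no odd power `1` -/
theorem not_swap {σ : Equiv.Perm (Fin t)} {n : ℕ} (hn : Odd n) (h : σ ^ n = 1) (hij : i ≠ j) (h1 : σ i = j)
    (h2 : σ j = i) : False := by
  obtain ⟨m, rfl⟩ := hn
  have h3 : ∀ m : ℕ, (σ ^ (2 * m)) i = i := by
    intro m
    induction m with
    | zero => simp
    | succ m ih =>
      rw [mul_add, mul_one, pow_add, Equiv.Perm.mul_apply, pow_two, Equiv.Perm.mul_apply, h1, h2, ih]
  have h4 : (σ ^ (2 * m + 1)) j = j := by rw [h]; rfl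
  rw [pow_succ, Equiv.Perm.mul_apply, h2, h3] at h4
  exact hij h4

/-- a torus element acts on the members -/
theorem tor_perm (hD : IsNondegenerateMDecomposition f e D) (ha : a ∈ D i) (ha' : a' ∈ D i) {H : Fˣ →* GLk}
    (hH : ∀ c u, ap (H c) u = u + ((c : F) - 1) • (f a' u • a) + (((c⁻¹ : Fˣ) : F) - 1) • (f u a • a')) (c : Fˣ) :
    Perm' D (H c) 1 := by
  have key : ∀ c : Fˣ, ∀ l, ∀ u ∈ D l, ap (H c) u ∈ D l := by
    intro c l u hu
    rw [hH]
    by_cases hl : l = i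
    · subst hl
      exact (D l).add_mem ((D l).add_mem hu ((D l).smul_mem _ ((D l).smul_mem _ ha)))
        ((D l).smul_mem _ ((D l).smul_mem _ ha'))
    · rw [orth hD (Ne.symm hl) ha' hu, orth hD hl hu ha, zero_smul, zero_smul, smul_zero, smul_zero, add_zero, add_zero]
      exact hu
  refine ⟨fun l u hu => key c l u hu, fun l w hw => ⟨ap (H c⁻¹) w, key c⁻¹ l w hw, ?_⟩⟩
  rw [map_inv, ap_ap_inv]

section

variable [Fintype F]

/-- a nonscalar element of odd order of `M0` -/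
theorem exists_odd (d : Dat D e i j a a' b b' x) (hq : 3 ≤ Fintype.card F) :
    ∃ g, Plus D i j a b g ∧ g ∉ scalars (Fin k ⊕ Fin k) F ∧ ∃ n, Odd n ∧ g ^ n = 1 := by
  classical
  by_cases hodd : Odd (Fintype.card F)
  · -- a transvection of `D i`
    obtain ⟨g, hgS, hg⟩ := exists_transv (k := k) (F := F) a 1
    have hg' : ∀ u, ap g u = u + f u a • a := fun u => by rw [hg, one_mul]
    obtain ⟨p, hp⟩ := CharP.exists F
    have hpn : p.Prime := CharP.char_is_prime F p
    have hpodd : Odd p := by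
      obtain ⟨n, hn, hn1⟩ := FiniteField.card F p
      rw [hn1] at hodd
      exact hodd.of_dvd_nat (dvd_pow_self p n.pos.ne')
    have hpow : ∀ n : ℕ, ∀ u, ap (g ^ n) u = u + ((n : F) * f u a) • a := by
      intro n
      induction n with
      | zero => intro u; rw [pow_zero, ap_one]; simp
      | succ n ih =>
        intro u
        rw [pow_succ, ap_mul, hg', ih, sympForm_add_left, sympForm_smul_left, sympForm_self, mul_zero, add_zero]
        push_cast
        module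
    refine ⟨g, ⟨hgS, ⟨1, ⟨?_, ?_⟩, rfl, rfl⟩, ⟨1, 1, one_mul 1, ?_, ?_⟩⟩, ?_, p, hpodd, ?_⟩
    · intro l u hu
      rw [hg']
      by_cases hl : l = i
      · subst hl
        exact (D l).add_mem hu ((D l).smul_mem _ d.ha)
      · rw [orth d.hD hl hu d.ha, zero_smul, add_zero]
        exact hu
    · intro l w hw
      refine ⟨w - f w a • a, ?_, ?_⟩
      · by_cases hl : l = i
        · subst hl
          exact (D l).sub_mem hw ((D l).smul_mem _ d.ha)
        · change w ∈ D l at hw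
          rw [orth d.hD hl hw d.ha, zero_smul, sub_zero]
          exact hw
      · rw [hg', sympForm_sub_left, sympForm_smul_left, sympForm_self, mul_zero, sub_zero, sub_add_cancel]
    · rw [hg', sympForm_self, zero_smul, add_zero, one_smul]
    · rw [hg', orth d.hD d.hij.symm d.hb d.ha, zero_smul, add_zero, one_smul]
    · intro hs
      obtain ⟨c, hc⟩ := (mem_scalars_iff g).1 hs
      have h1 : ap g a' = (c : F) • a' := by rw [ap, hc, Matrix.smul_mulVec, Matrix.one_mulVec]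
      rw [hg', d.haa, one_smul] at h1
      have h2 := congrArg (fun u => f a' u) h1
      simp only [sympForm_add_right, sympForm_smul_right, sympForm_self, d.haa, mul_zero, zero_add] at h2
      exact one_ne_zero h2
    · apply ext_ap
      intro u
      rw [hpow, CharP.cast_eq_zero, zero_mul, zero_smul, add_zero, ap_one]
  · -- a torus element
    obtain ⟨H, hHS, hH⟩ := exists_tor d.haa
    obtain ⟨H', hHS', hH'⟩ := exists_tor d.hbb
    have hodd' : Odd (Fintype.card Fˣ) := by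
      rw [Fintype.card_units]
      have h1 : Even (Fintype.card F) := Nat.not_odd_iff_even.1 hodd
      obtain ⟨m, hm⟩ := h1
      exact ⟨m - 1, by omega⟩
    have h20 : (2 : F) = 0 := by
      have h1 : ((Fintype.card F : ℕ) : F) = 0 := Nat.cast_card_eq_zero F
      obtain ⟨p, hp⟩ := CharP.exists F
      have hpn : p.Prime := CharP.char_is_prime F p
      obtain ⟨n, hn, hn1⟩ := FiniteField.card F p
      have h3 : ¬ Odd p := fun h => hodd (by rw [hn1]; exact h.pow)
      have h4 : p = 2 := (hpn.eq_two_or_odd').resolve_right h3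
      have h5 : ((p : ℕ) : F) = 0 := CharP.cast_eq_zero F p
      rw [h4] at h5
      exact_mod_cast h5
    obtain ⟨c, hc⟩ : ∃ c : Fˣ, c ≠ 1 := by
      have : 1 < Fintype.card Fˣ := by rw [Fintype.card_units]; omega
      have := Fintype.one_lt_card_iff_nontrivial.1 this
      exact exists_ne 1
    have ea : ap (H c⁻¹) a = ((c⁻¹ : Fˣ) : F) • a := by
      rw [hH, d.haa, sympForm_self, zero_smul, smul_zero, add_zero, one_smul]
      module
    have eb : ap (H c⁻¹) b = b := by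
      rw [hH, orth d.hD d.hij d.ha' d.hb, orth d.hD d.hij.symm d.hb d.ha, zero_smul, zero_smul, smul_zero, smul_zero,
        add_zero, add_zero]
    have ea' : ap (H' c) a = a := by
      rw [hH', orth d.hD d.hij.symm d.hb' d.ha, orth d.hD d.hij d.ha d.hb, zero_smul, zero_smul, smul_zero, smul_zero,
        add_zero, add_zero]
    have eb' : ap (H' c) b = (c : F) • b := by
      rw [hH', d.hbb, sympForm_self, zero_smul, smul_zero, add_zero, one_smul]
      module
    have hcomm : Commute (H c⁻¹) (H' c) := by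
      change H c⁻¹ * H' c = H' c * H c⁻¹
      apply ext_ap
      intro u
      rw [ap_mul, ap_mul]
      simp only [hH, hH', sympForm_add_left, sympForm_add_right, sympForm_smul_left, sympForm_smul_right,
        orth d.hD d.hij.symm d.hb' d.ha, orth d.hD d.hij d.ha d.hb, orth d.hD d.hij d.ha' d.hb,
        orth d.hD d.hij.symm d.hb d.ha, orth d.hD d.hij d.ha' d.hb', orth d.hD d.hij.symm d.hb' d.ha', mul_zero,
        add_zero]
      module
    refine ⟨H c⁻¹ * H' c, ⟨(spGL k F).mul_mem (hHS _) (hHS' _), ⟨1, ?_, rfl, rfl⟩,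
      ⟨(c : F), ((c⁻¹ : Fˣ) : F), Units.mul_inv c, ?_, ?_⟩⟩, ?_, Fintype.card Fˣ, hodd', ?_⟩
    · have := (tor_perm d.hD d.ha d.ha' hH c⁻¹).mul (tor_perm d.hD d.hb d.hb' hH' c)
      rwa [one_mul] at this
    · rw [ap_mul, ea', ea]
    · rw [ap_mul, eb', ap_smul, eb]
    · intro hs
      obtain ⟨z, hz⟩ := (mem_scalars_iff _).1 hs
      have h1 : ∀ u, ap (H c⁻¹ * H' c) u = (z : F) • u := fun u => by
        rw [ap, hz, Matrix.smul_mulVec, Matrix.one_mulVec]
      have h2 := h1 a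
      have h3 := h1 b
      rw [ap_mul, ea', ea] at h2
      rw [ap_mul, eb', ap_smul, eb] at h3
      have h4 := congrArg (fun u => f a' u) h2
      have h5 := congrArg (fun u => f b' u) h3
      simp only [sympForm_smul_right, d.haa, d.hbb, mul_one] at h4 h5
      -- `c = c⁻¹`, so `c² = 1`
      have h6 : (c : F) * (c : F) = 1 := by
        have := Units.mul_inv c
        rw [h4, ← h5] at this
        exact this
      apply hc
      apply Units.ext
      have h7 : ((c : F) - 1) * ((c : F) - 1) = 0 := by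
        linear_combination h6 - ((c : F) - 1) * h20
      rcases mul_self_eq_zero.1 h7 with h8
      exact sub_eq_zero.1 h8
    · rw [hcomm.mul_pow, ← map_pow, ← map_pow, pow_card_eq_one, pow_card_eq_one, map_one, map_one, one_mul]

/-- **[Sp-C2]** the stabiliser of a nondegenerate decomposition is not a point stabiliser of an extremely primitive group -/
theorem sp_c2 {Q : Type*} [Group Q] [Finite Q] {A : Subgroup Q} {Γ : Subgroup (MulAut Q)} (h : EPT A Γ)
    (m : Model Q (spGL k F)) (hq : 3 ≤ Fintype.card F) (hD : IsNondegenerateMDecomposition f e D)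
    (hA : m.hat A ≤ decompositionStabilizer D) : False := by
  classical
  have ht := hD.decomp.two_le
  obtain ⟨i, j, hij⟩ : ∃ i j : Fin t, i ≠ j := ⟨⟨0, by omega⟩, ⟨1, by omega⟩, fun h => by
    have := congrArg Fin.val h
    simp at this⟩
  obtain ⟨a, ha, a', ha', haa⟩ := exists_pair hD i
  obtain ⟨b, hb, b', hb', hbb⟩ := exists_pair hD j
  obtain ⟨x, hxS, hx⟩ := exists_transv (k := k) (F := F) (a + b) 1
  have d : Dat D e i j a a' b b' x := ⟨hD, hij, ha, ha', hb, hb', haa, hbb, fun u => by rw [hx, one_mul]⟩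
  have hxD : x ∉ decompositionStabilizer D := by
    intro hmem
    obtain ⟨σ, hσ⟩ := exists_perm' hmem
    exact d.not_mem (σ i) (hσ.mem i a' ha')
  have hhat : m.hat A = decompositionStabilizer D ⊓ spGL k F :=
    eq_of_max (m.isMaximalIn h.max) hA (fun hle => hxD (hle hxS))
  have hAiff : ∀ s : spGL k F, m.π s ∈ A ↔ (s : GLk) ∈ decompositionStabilizer D := by
    intro s
    rw [← m.mem_hat_iff, hhat, Subgroup.mem_inf]
    exact ⟨fun h => h.1, fun h => ⟨h, s.2⟩⟩
  set X := m.π ⟨x, hxS⟩ with hXdef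
  have hX : X ∉ A := fun h => hxD (((hAiff _).1 h :))
  have hM0 : ∀ s : spGL k F, m.π s ∈ A ⊓ cj X A ↔
      (s : GLk) ∈ decompositionStabilizer D ∧ x⁻¹ * (s : GLk) * x ∈ decompositionStabilizer D := by
    intro s
    have e1 : X⁻¹ * m.π s * X = m.π ((⟨x, hxS⟩ : spGL k F)⁻¹ * s * ⟨x, hxS⟩) := by rw [map_mul, map_mul, map_inv]
    rw [Subgroup.mem_inf, hAiff, mem_cj, e1, hAiff]
    exact Iff.rfl
  -- the elements of odd order
  have hplus : ∀ s : spGL k F, m.π s ∈ A ⊓ cj X A → Odd (orderOf (m.π s)) → Plus D i j a b (s : GLk) := by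
    intro s hs ho
    obtain ⟨h1, h2⟩ := (hM0 s).1 hs
    obtain ⟨σ, hσ⟩ := exists_perm' h1
    obtain ⟨τ, hτ⟩ := exists_perm' h2
    have hpow : σ ^ orderOf (m.π s) = 1 := by
      have h3 : m.π (s ^ orderOf (m.π s)) = 1 := by rw [map_pow, pow_orderOf_eq_one]
      have h4 := (m.ker _).1 h3
      exact perm_unique hD (hσ.pow _) (perm_scalar h4)
    rcases d.pair hσ hτ (by group) with ⟨hi, hj⟩ | ⟨hi, hj⟩
    · exact d.plus s.2 hxS hσ h2 hi hj
    · exact (not_swap ho hpow hij hi hj).elim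
  have hback : ∀ s : spGL k F, Plus D i j a b (s : GLk) → m.π s ∈ A ⊓ cj X A := fun s hs =>
    (hM0 s).2 ⟨hs.dec, hs.conj d⟩
  -- the torus element
  obtain ⟨H, hHS, hH⟩ := exists_tor haa
  obtain ⟨c, hc⟩ : ∃ c : Fˣ, c ≠ 1 := by
    have : 1 < Fintype.card Fˣ := by rw [Fintype.card_units]; omega
    have := Fintype.one_lt_card_iff_nontrivial.1 this
    exact exists_ne 1
  have ea : ap (H c) a = (c : F) • a := by
    rw [hH, haa, sympForm_self, zero_smul, smul_zero, add_zero, one_smul]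
    module
  have eb : ap (H c) b = b := by
    rw [hH, orth hD hij ha' hb, orth hD hij.symm hb ha, zero_smul, zero_smul, smul_zero, smul_zero, add_zero, add_zero]
  have hH1 : Perm' D (H c) 1 := tor_perm hD ha ha' hH c
  have hHP : H c ∈ decompositionStabilizer D := mem_dec hD.decomp fun l => ⟨l, hH1.mem l⟩
  have hcX : m.π ⟨H c, hHS c⟩ ∈ cj X A := by
    refine h.norm_aut hX (K := Subgroup.closure {y | y ∈ A ⊓ cj X A ∧ Odd (orderOf y)}) ?_ ?_ ?_
      ((hAiff ⟨H c, hHS c⟩).2 hHP) ?_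
    · rw [Subgroup.closure_le]
      exact fun y hy => hy.1
    · intro σ hσ k hk
      have h1 : Subgroup.closure {y | y ∈ A ⊓ cj X A ∧ Odd (orderOf y)} ≤
          (Subgroup.closure {y | y ∈ A ⊓ cj X A ∧ Odd (orderOf y)}).comap σ.toMonoidHom := by
        rw [Subgroup.closure_le]
        intro y hy
        refine Subgroup.subset_closure ⟨hσ y hy.1, ?_⟩
        change Odd (orderOf (σ y))
        rw [MulEquiv.orderOf_eq]
        exact hy.2
      exact h1 hk
    · obtain ⟨g, hg, hgs, n, hn, hgn⟩ := exists_odd d hq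
      intro hbot
      apply hgs
      rw [← m.ker ⟨g, hg.mem⟩, ← Subgroup.mem_bot, ← hbot]
      refine Subgroup.subset_closure ⟨hback ⟨g, hg.mem⟩ hg, ?_⟩
      refine hn.of_dvd_nat (orderOf_dvd_of_pow_eq_one ?_)
      rw [← map_pow]
      have : (⟨g, hg.mem⟩ : spGL k F) ^ n = 1 := Subtype.ext hgn
      rw [this, map_one]
    · intro k hk
      have h1 : Subgroup.closure {y | y ∈ A ⊓ cj X A ∧ Odd (orderOf y)} ≤
          (Subgroup.closure {y | y ∈ A ⊓ cj X A ∧ Odd (orderOf y)}).comap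
            (MulAut.conj (m.π ⟨H c, hHS c⟩)).toMonoidHom := by
        rw [Subgroup.closure_le]
        intro y hy
        refine Subgroup.subset_closure ⟨?_, ?_⟩
        · change m.π ⟨H c, hHS c⟩ * y * (m.π ⟨H c, hHS c⟩)⁻¹ ∈ A ⊓ cj X A
          obtain ⟨s, rfl⟩ := m.surj y
          rw [← map_inv, ← map_mul, ← map_mul]
          exact hback _ ((hplus s hy.1 hy.2).tor (hHS c) hH1 ea eb)
        · change Odd (orderOf (MulAut.conj (m.π ⟨H c, hHS c⟩) y))
          rw [MulEquiv.orderOf_eq]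
          exact hy.2
      exact h1 hk
  -- contradiction
  obtain ⟨h1, h2⟩ := (hM0 ⟨H c, hHS c⟩).1 ⟨(hAiff ⟨H c, hHS c⟩).2 hHP, hcX⟩
  have h3 := (d.plus (hHS c) hxS hH1 h2 rfl rfl).char
  obtain ⟨r, r', hr, e1, e2⟩ := h3
  rw [ea] at e1
  rw [eb] at e2
  have e3 := congrArg (fun u => f a' u) e1
  have e4 := congrArg (fun u => f b' u) e2
  simp only [sympForm_smul_right, haa, hbb, mul_one] at e3 e4
  apply hc
  apply Units.ext
  rw [← e4, ← e3, one_mul] at hr
  exact hr

end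

/-- [Sp-C2] in the shape of the task -/
theorem row_sp_c2 {Q : Type*} [Group Q] [Finite Q] (_ : IsSimpleGroup Q) {A : Subgroup Q} {Γ : Subgroup (MulAut Q)}
    (h : EPT A Γ) {F : Type*} [Field F] [Fintype F] {k : ℕ} (m : Model Q (spGL k F)) (_ : 2 ≤ k)
    (hq : 3 ≤ Fintype.card F) {t e : ℕ} {D : Fin t → Submodule F (Fin k ⊕ Fin k → F)}
    (hD : IsNondegenerateMDecomposition (sympForm k F) e D) (hA : m.hat A ≤ decompositionStabilizer D ⊓ spGL k F) :
    False := sp_c2 h m hq hD (hA.trans inf_le_left)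

end Cfsg.Agent.H269.EPC
end

private theorem dce_e75ecf4a7e5c : _root_.True := by
  try have : _root_.True := by simp only [_root_.Cfsg.Agent.H821.EP.tvE.congr_simp]
  try have : _root_.True := by simp only [_root_.Cfsg.Agent.H269.EPC.ap.eq_1]
  exact _root_.True.intro
end

-- part: H487/EP/Wreath3
section
prune_inst 0x106444102200000018808623001c42fa0005820048080020030a4006c0ac00e9470821b4b03111c81808546830006003000180424000000e200400011c018010800000a0080000000086000080000000000000000000000000000000010004200000002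
set_option linter.all false
open scoped Cfsg.Agent.FastGrp

-- part: H487/EP/TS
section
/-!
# Two commuting matrix algebras (helper487)

`TS s r` : `s : M_κ₁(F) → R`, `r : M_κ₂(F) → R` commuting and independent (`R = M_ι(F)`). For an idempotent `p` of
`M_κ₁(F)` and `b` in `M_κ₂(F)` we study the elements `x = s p * r b + s (1 - p)`.
-/

set_option autoImplicit false
set_option linter.unusedSectionVars false

namespace Cfsg.Agent.H487.EP

open Matrix

variable {κ₁ κ₂ ι : Type} [Fintype κ₁] [DecidableEq κ₁] [Fintype κ₂] [DecidableEq κ₂] [Fintype ι] [DecidableEq ι]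
variable {F : Type*} [Field F]

/-- two commuting, independent matrix algebras -/
structure TS (s : Matrix κ₁ κ₁ F →ₐ[F] Matrix ι ι F) (r : Matrix κ₂ κ₂ F →ₐ[F] Matrix ι ι F) : Prop where
  comm : ∀ a b, s a * r b = r b * s a
  ind : ∀ (N : ℕ) (u : Fin N → Matrix κ₁ κ₁ F) (v : Fin N → Matrix κ₂ κ₂ F), ∑ a, s (u a) * r (v a) = 0 →
    ∀ i j k l, ∑ a, u a i j * v a k l = 0

variable {s : Matrix κ₁ κ₁ F →ₐ[F] Matrix ι ι F} {r : Matrix κ₂ κ₂ F →ₐ[F] Matrix ι ι F}

theorem TS.ind3 (h : TS s r) {u u1 u2 : Matrix κ₁ κ₁ F} {v v1 v2 : Matrix κ₂ κ₂ F}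
    (e : s u * r v = s u1 * r v1 + s u2 * r v2) (i j : κ₁) (k l : κ₂) :
    u i j * v k l = u1 i j * v1 k l + u2 i j * v2 k l := by
  have h1 := h.ind 3 ![u, u1, u2] ![v, -v1, -v2] (by
    simp only [Fin.sum_univ_three, Matrix.cons_val_zero, Matrix.cons_val_one, Matrix.cons_val, map_neg, mul_neg]
    rw [e]; abel) i j k l
  simp only [Fin.sum_univ_three, Matrix.cons_val_zero, Matrix.cons_val_one, Matrix.cons_val, Matrix.neg_apply, mul_neg] at h1
  linear_combination h1

theorem TS.ind2 (h : TS s r) {u u1 : Matrix κ₁ κ₁ F} {v v1 : Matrix κ₂ κ₂ F}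
    (e : s u * r v = s u1 * r v1) (i j : κ₁) (k l : κ₂) : u i j * v k l = u1 i j * v1 k l := by
  have h1 := h.ind3 (u := u) (v := v) (u1 := u1) (v1 := v1) (u2 := 0) (v2 := 0) (by simp [e]) i j k l
  simpa using h1

theorem TS.ind1 (h : TS s r) {u : Matrix κ₁ κ₁ F} {v : Matrix κ₂ κ₂ F} (e : s u * r v = 0) : u = 0 ∨ v = 0 := by
  by_contra hcon
  push Not at hcon
  obtain ⟨h1, h2⟩ := hcon
  obtain ⟨i, j, hij⟩ : ∃ i j, u i j ≠ 0 := by
    by_contra hc; push Not at hc; exact h1 (by ext i j; exact hc i j)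
  obtain ⟨k, l, hkl⟩ : ∃ i j, v i j ≠ 0 := by
    by_contra hc; push Not at hc; exact h2 (by ext i j; exact hc i j)
  have := h.ind2 (u := u) (v := v) (u1 := 0) (v1 := 0) (by simp [e]) i j k l
  simp [hij, hkl] at this

theorem TS.symm (h : TS s r) : TS r s where
  comm := fun a b => (h.comm b a).symm
  ind := fun N u v e i j k l => by
    have := h.ind N v u (by rw [← e]; exact Finset.sum_congr rfl fun a _ => h.comm _ _) k l i j
    rw [← this]
    exact Finset.sum_congr rfl fun a _ => mul_comm _ _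

/-- **the main independence lemma** -/
theorem TS.key (h : TS s r) {u v1 v2 : Matrix κ₁ κ₁ F} {d w1 w2 : Matrix κ₂ κ₂ F}
    (e : s u * r d = s v1 * r w1 + s v2 * r w2) (hu : u ≠ 0)
    (hw : ∀ a b : F, a • w1 + b • w2 = 0 → a = 0 ∧ b = 0) :
    ∃ a b : F, v1 = a • u ∧ v2 = b • u ∧ d = a • w1 + b • w2 := by
  have h1 := h.ind3 e
  obtain ⟨i, j, hij⟩ : ∃ i j, u i j ≠ 0 := by
    by_contra hc; push Not at hc; exact hu (by ext i j; exact hc i j)
  set! a : F := v1 i j / u i j with ha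
  set! b : F := v2 i j / u i j with hb
  have hd : d = a • w1 + b • w2 := by
    ext k l
    rw [Matrix.add_apply, Matrix.smul_apply, Matrix.smul_apply, smul_eq_mul, smul_eq_mul]
    have := h1 i j k l
    field_simp at this ⊢
    rw [ha, hb]
    field_simp
    linear_combination this
  refine ⟨a, b, ?_, ?_, hd⟩
  · ext i' j'
    have h2 : (v1 i' j' - a * u i' j') • w1 + (v2 i' j' - b * u i' j') • w2 = 0 := by
      ext k l
      have := h1 i' j' k l
      rw [hd, Matrix.add_apply, Matrix.smul_apply, Matrix.smul_apply, smul_eq_mul, smul_eq_mul] at this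
      rw [Matrix.add_apply, Matrix.smul_apply, Matrix.smul_apply, smul_eq_mul, smul_eq_mul, Matrix.zero_apply]
      linear_combination -this
    have h3 := (hw _ _ h2).1
    rw [Matrix.smul_apply, smul_eq_mul]
    linear_combination h3
  · ext i' j'
    have h2 : (v1 i' j' - a * u i' j') • w1 + (v2 i' j' - b * u i' j') • w2 = 0 := by
      ext k l
      have := h1 i' j' k l
      rw [hd, Matrix.add_apply, Matrix.smul_apply, Matrix.smul_apply, smul_eq_mul, smul_eq_mul] at this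
      rw [Matrix.add_apply, Matrix.smul_apply, Matrix.smul_apply, smul_eq_mul, smul_eq_mul, Matrix.zero_apply]
      linear_combination -this
    have h3 := (hw _ _ h2).2
    rw [Matrix.smul_apply, smul_eq_mul]
    linear_combination h3

/-- not a scalar matrix -/
def NonSc (b : Matrix κ₂ κ₂ F) : Prop := ∀ c : F, b ≠ c • (1 : Matrix κ₂ κ₂ F)

theorem NonSc.one_ne {b : Matrix κ₂ κ₂ F} (hb : NonSc b) : (1 : Matrix κ₂ κ₂ F) ≠ 0 := by
  intro h
  apply hb 0
  rw [zero_smul]
  calc b = b * 1 := (mul_one b).symm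
    _ = 0 := by rw [h, mul_zero]

theorem NonSc.lin {b : Matrix κ₂ κ₂ F} (hb : NonSc b) (a c : F) (e : a • b + c • (1 : Matrix κ₂ κ₂ F) = 0) :
    a = 0 ∧ c = 0 := by
  have ha : a = 0 := by
    by_contra hne
    apply hb (-c / a)
    have : b = a⁻¹ • (a • b) := by rw [smul_smul, inv_mul_cancel₀ hne, one_smul]
    rw [this, eq_neg_of_add_eq_zero_left e, smul_neg, ← neg_smul, smul_smul]
    congr 1
    field_simp
  refine ⟨ha, ?_⟩
  rw [ha, zero_smul, zero_add] at e
  exact (smul_eq_zero.1 e).resolve_right hb.one_ne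

theorem NonSc.of_mul {b b' : Matrix κ₂ κ₂ F} (hb : NonSc b) (h : b * b' = 1) : NonSc b' := by
  intro c hc
  rw [hc, Matrix.mul_smul, mul_one] at h
  have hc0 : c ≠ 0 := by
    rintro rfl
    rw [zero_smul] at h
    exact hb.one_ne h.symm
  apply hb c⁻¹
  rw [← h, smul_smul, inv_mul_cancel₀ hc0, one_smul]

/-- **Lemma (Sub).** -/
theorem TS.sub (h : TS s r) {e c p' : Matrix κ₁ κ₁ F} {d b' : Matrix κ₂ κ₂ F} (he : e ≠ 0) (hc : IsUnit c)
    (hp' : p' * p' = p') (hb' : NonSc b')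
    (eq : s (e * c) * r d = s (e * p') * r b' + s (e * (1 - p')) * r 1) :
    (e * p' = 0 ∧ ∃ k : F, d = k • 1) ∨ (e * p' = e ∧ ∃ k : F, d = k • b') := by
  have hec : e * c ≠ 0 := by
    intro h0
    apply he
    obtain ⟨c, rfl⟩ := hc
    calc e = e * c * ((c⁻¹ : (Matrix κ₁ κ₁ F)ˣ) : Matrix κ₁ κ₁ F) := by rw [mul_assoc, Units.mul_inv, mul_one]
      _ = 0 := by rw [h0, zero_mul]
  obtain ⟨a, b, h1, h2, h3⟩ := h.key eq hec hb'.lin
  have hab : (a + b) • (e * c) = e := by
    rw [add_smul, ← h1, ← h2, ← mul_add, add_sub_cancel, mul_one]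
  have hab0 : a + b ≠ 0 := by
    intro h0
    rw [h0, zero_smul] at hab
    exact he hab.symm
  have h4 : e * c = (a + b)⁻¹ • e := by
    conv_rhs => rw [← hab]
    rw [smul_smul, inv_mul_cancel₀ hab0, one_smul]
  have h5 : e * p' = (a * (a + b)⁻¹) • e := by rw [h1, h4, smul_smul]
  have h6 : (a * (a + b)⁻¹) * (a * (a + b)⁻¹) = a * (a + b)⁻¹ := by
    have h7 : (a * (a + b)⁻¹ * (a * (a + b)⁻¹)) • e = (a * (a + b)⁻¹) • e := by
      rw [mul_smul, ← h5, ← Matrix.smul_mul, ← h5, mul_assoc, hp']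
    exact smul_left_injective F he h7
  rcases mul_eq_zero.1 (show (a * (a + b)⁻¹) * (a * (a + b)⁻¹ - 1) = 0 by rw [mul_sub, h6, mul_one, sub_self]) with h8 | h8
  · left
    have ha : a = 0 := (mul_eq_zero.1 h8).resolve_right (inv_ne_zero hab0)
    refine ⟨by rw [h5, h8, zero_smul], b, by rw [h3, ha, zero_smul, zero_add]⟩
  · right
    have h9 : a * (a + b)⁻¹ = 1 := by linear_combination h8
    have hb : b = 0 := by
      have : a = a + b := by
        calc a = a * (a + b)⁻¹ * (a + b) := by rw [mul_assoc, inv_mul_cancel₀ hab0, mul_one]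
          _ = a + b := by rw [h9, one_mul]
      linear_combination -this
    refine ⟨by rw [h5, h9, one_smul], a, by rw [h3, hb, zero_smul, add_zero]⟩

/-- **Lemma A** -/
theorem TS.lemA (h : TS s r) {p p' c : Matrix κ₁ κ₁ F} {b bi b' d : Matrix κ₂ κ₂ F} (hp : p * p = p) (hp0 : p ≠ 0)
    (hp1 : p ≠ 1) (hbi : b * bi = 1) (hp' : p' * p' = p') (hp0' : p' ≠ 0) (hp1' : p' ≠ 1) (hb' : NonSc b')
    (hc : IsUnit c) (hd : IsUnit d)
    (eq : (s p * r b + s (1 - p)) * (s c * r d) = s p' * r b' + s (1 - p')) :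
    (p' = p ∧ ∃ k : F, k ≠ 0 ∧ b' = k • b) ∨ (p' = 1 - p ∧ ∃ k : F, k ≠ 0 ∧ b' = k • bi) := by
  have hbi' : bi * b = 1 := mul_eq_one_comm.1 hbi
  have hone : (1 : Matrix κ₂ κ₂ F) ≠ 0 := hb'.one_ne
  have hd0 : d ≠ 0 := by
    rintro rfl
    rw [isUnit_zero_iff] at hd
    exact hone hd.symm
  have hq0 : (1 - p) ≠ 0 := sub_ne_zero.2 (Ne.symm hp1)
  have hqp : (1 - p) * p = 0 := by rw [sub_mul, one_mul, hp, sub_self]
  have hpq : p * (1 - p) = 0 := by rw [mul_sub, mul_one, hp, sub_self]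
  have hqq : (1 - p) * (1 - p) = 1 - p := by rw [mul_sub, hqp, mul_one, sub_zero]
  have e1 : s ((1 - p) * c) * r d = s ((1 - p) * p') * r b' + s ((1 - p) * (1 - p')) * r 1 := by
    have := congrArg (fun y => s (1 - p) * y) eq
    simp only [mul_add, ← mul_assoc, ← map_mul, hqp, hqq, map_zero, zero_mul, zero_add, add_mul] at this
    rw [this, map_one, mul_one]
  have e2 : s (p * c) * r (b * d) = s (p * p') * r b' + s (p * (1 - p')) * r 1 := by
    have := congrArg (fun y => s p * y) eq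
    simp only [mul_add, ← mul_assoc, ← map_mul, hpq, hp, map_zero, zero_mul, add_zero, add_mul] at this
    rw [mul_assoc (s p), ← h.comm c b, ← mul_assoc, ← map_mul, mul_assoc, ← map_mul] at this
    rw [this, map_one, mul_one]
  rcases h.sub hq0 hc hp' hb' e1 with ⟨h1, k, hk⟩ | ⟨h1, k, hk⟩
  · rcases h.sub hp0 hc hp' hb' e2 with ⟨h2, k', hk'⟩ | ⟨h2, k', hk'⟩
    · exfalso
      apply hp0'
      calc p' = (1 - p) * p' + p * p' := by rw [← add_mul, sub_add_cancel, one_mul]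
        _ = 0 := by rw [h1, h2, add_zero]
    · left
      have hk0 : k ≠ 0 := by
        rintro rfl
        rw [zero_smul] at hk
        exact hd0 hk
      have hk'0 : k' ≠ 0 := by
        rintro rfl
        rw [zero_smul] at hk'
        apply hd0
        calc d = bi * (b * d) := by rw [← mul_assoc, hbi', one_mul]
          _ = 0 := by rw [hk', mul_zero]
      refine ⟨?_, k'⁻¹ * k, mul_ne_zero (inv_ne_zero hk'0) hk0, ?_⟩
      · calc p' = (1 - p) * p' + p * p' := by rw [← add_mul, sub_add_cancel, one_mul]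
          _ = p := by rw [h1, h2, zero_add]
      · rw [hk, Matrix.mul_smul, mul_one] at hk'
        rw [mul_smul, hk', smul_smul, inv_mul_cancel₀ hk'0, one_smul]
  · rcases h.sub hp0 hc hp' hb' e2 with ⟨h2, k', hk'⟩ | ⟨h2, k', hk'⟩
    · right
      have hk0 : k ≠ 0 := by
        rintro rfl
        rw [zero_smul] at hk
        exact hd0 hk
      have hk'0 : k' ≠ 0 := by
        rintro rfl
        rw [zero_smul] at hk'
        apply hd0
        calc d = bi * (b * d) := by rw [← mul_assoc, hbi', one_mul]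
          _ = 0 := by rw [hk', mul_zero]
      refine ⟨?_, k⁻¹ * k', mul_ne_zero (inv_ne_zero hk0) hk'0, ?_⟩
      · calc p' = (1 - p) * p' + p * p' := by rw [← add_mul, sub_add_cancel, one_mul]
          _ = 1 - p := by rw [h1, h2, add_zero]
      · rw [hk, Matrix.mul_smul] at hk'
        have h3 : k • b' = k' • bi := by
          calc k • b' = bi * (k • (b * b')) := by rw [Matrix.mul_smul, ← mul_assoc, hbi', one_mul]
            _ = k' • bi := by rw [hk', Matrix.mul_smul, mul_one]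
        rw [mul_smul, ← h3, smul_smul, inv_mul_cancel₀ hk0, one_smul]
    · exfalso
      apply hp1'
      calc p' = (1 - p) * p' + p * p' := by rw [← add_mul, sub_add_cancel, one_mul]
        _ = 1 := by rw [h1, h2, sub_add_cancel]

/-- **Lemma B** -/
theorem TS.lemB {κ : Type} [Fintype κ] [DecidableEq κ] {s r : Matrix κ κ F →ₐ[F] Matrix ι ι F} (h : TS s r)
    {p p' c b b' d : Matrix κ κ F} (hp : p * p = p) (hp0 : p ≠ 0) (hp1 : p ≠ 1)
    (hp' : p' * p' = p') (hp0' : p' ≠ 0) (hp1' : p' ≠ 1) (hc : IsUnit c)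
    (eq : (s p * r b + s (1 - p)) * (s c * r d) = r p' * s b' + r (1 - p')) :
    ∃ k l : F, b' = k • (1 - p) + l • p := by
  have hq0 : (1 - p) ≠ 0 := sub_ne_zero.2 (Ne.symm hp1)
  have hqp : (1 - p) * p = 0 := by rw [sub_mul, one_mul, hp, sub_self]
  have hpq : p * (1 - p) = 0 := by rw [mul_sub, mul_one, hp, sub_self]
  have hqq : (1 - p) * (1 - p) = 1 - p := by rw [mul_sub, hqp, mul_one, sub_zero]
  have hlin : ∀ a b : F, a • p' + b • (1 - p') = 0 → a = 0 ∧ b = 0 := by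
    intro a b e
    have e1 : a • p' = 0 := by
      have := congrArg (fun y => p' * y) e
      simpa [mul_add, Matrix.mul_smul, hp', mul_sub] using this
    have e2 : b • (1 - p') = 0 := by rw [e1, zero_add] at e; exact e
    exact ⟨(smul_eq_zero.1 e1).resolve_right hp0', (smul_eq_zero.1 e2).resolve_right (sub_ne_zero.2 (Ne.symm hp1'))⟩
  have key : ∀ (e : Matrix κ κ F) (D : Matrix κ κ F), e ≠ 0 → s (e * c) * r D = s (e * b') * r p' + s e * r (1 - p') →
      ∃ k : F, e * b' = k • e := by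
    intro e D he h1
    have hec : e * c ≠ 0 := by
      intro h0
      apply he
      obtain ⟨c, rfl⟩ := hc
      calc e = e * c * ((c⁻¹ : (Matrix κ κ F)ˣ) : Matrix κ κ F) := by rw [mul_assoc, Units.mul_inv, mul_one]
        _ = 0 := by rw [h0, zero_mul]
    obtain ⟨a, b, h2, h3, -⟩ := h.key h1 hec hlin
    have hb0 : b ≠ 0 := by
      rintro rfl
      rw [zero_smul] at h3
      exact he h3
    refine ⟨a * b⁻¹, ?_⟩
    rw [h2, mul_smul]
    congr 1
    rw [eq_inv_smul_iff₀ hb0]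
    exact h3.symm
  obtain ⟨k, hk⟩ := key (1 - p) d hq0 (by
    have := congrArg (fun y => s (1 - p) * y) eq
    simp only [mul_add, ← mul_assoc, ← map_mul, hqp, hqq, map_zero, zero_mul, zero_add, add_mul] at this
    rw [this, mul_assoc, ← h.comm b' p', ← mul_assoc, ← map_mul])
  obtain ⟨l, hl⟩ := key p (b * d) hp0 (by
    have := congrArg (fun y => s p * y) eq
    simp only [mul_add, ← mul_assoc, ← map_mul, hpq, hp, map_zero, zero_mul, add_zero, add_mul] at this
    rw [mul_assoc (s p), ← h.comm c b, ← mul_assoc, ← map_mul, mul_assoc, ← map_mul] at this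
    rw [this, mul_assoc, ← h.comm b' p', ← mul_assoc, ← map_mul])
  refine ⟨k, l, ?_⟩
  calc b' = (1 - p) * b' + p * b' := by rw [← add_mul, sub_add_cancel, one_mul]
    _ = k • (1 - p) + l • p := by rw [hk, hl]

end Cfsg.Agent.H487.EP
end

-- part: H487/EP/Kill
section
/-!
# S3499: the kill criterion for elements `x = s p * r b + s (1 - p)` (helper487)
-/

set_option autoImplicit false
set_option linter.unusedSectionVars false

namespace Cfsg.Agent.H487.EP

open Matrix Subgroup Cfsg.Agent.H284 Cfsg.Agent.H419.EP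
open scoped MatrixGroups

variable {κ₁ κ₂ ι : Type} [Fintype κ₁] [DecidableEq κ₁] [Fintype κ₂] [DecidableEq κ₂] [Fintype ι] [DecidableEq ι]
variable {F : Type*} [Field F]

/-- conjugation of matrices by an invertible matrix -/
def cjm {κ : Type} [Fintype κ] [DecidableEq κ] (a : GL κ F) (u : Matrix κ κ F) : Matrix κ κ F :=
  (a : Matrix κ κ F) * u * ((a⁻¹ : GL κ F) : Matrix κ κ F)

section cjm

variable {κ : Type} [Fintype κ] [DecidableEq κ] (a : GL κ F)

theorem cjm_mul (u v : Matrix κ κ F) : cjm a (u * v) = cjm a u * cjm a v := by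
  simp only [cjm, mul_assoc, Units.inv_mul_cancel_left]

theorem cjm_one : cjm a (1 : Matrix κ κ F) = 1 := by
  simp only [cjm, mul_one, Units.mul_inv]

theorem cjm_add (u v : Matrix κ κ F) : cjm a (u + v) = cjm a u + cjm a v := by
  simp only [cjm, mul_add, add_mul]

theorem cjm_sub (u v : Matrix κ κ F) : cjm a (u - v) = cjm a u - cjm a v := by
  simp only [cjm, mul_sub, sub_mul]

theorem cjm_smul (k : F) (u : Matrix κ κ F) : cjm a (k • u) = k • cjm a u := by
  simp only [cjm, Matrix.mul_smul, Matrix.smul_mul]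

theorem cjm_cjm (a' : GL κ F) (u : Matrix κ κ F) : cjm a (cjm a' u) = cjm (a * a') u := by
  simp only [cjm, mul_assoc, _root_.mul_inv_rev, Units.val_mul]

theorem cjm_inv_self (u : Matrix κ κ F) : cjm a⁻¹ (cjm a u) = u := by
  rw [cjm_cjm, inv_mul_cancel]
  simp [cjm]

theorem cjm_self_inv (u : Matrix κ κ F) : cjm a (cjm a⁻¹ u) = u := by
  rw [cjm_cjm, mul_inv_cancel]
  simp [cjm]

theorem cjm_zero : cjm a (0 : Matrix κ κ F) = 0 := by simp [cjm]

theorem cjm_ne_zero {u : Matrix κ κ F} (hu : u ≠ 0) : cjm a u ≠ 0 := fun h => hu (by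
  rw [← cjm_inv_self a u, h, cjm_zero])

theorem cjm_ne_one {u : Matrix κ κ F} (hu : u ≠ 1) : cjm a u ≠ 1 := fun h => hu (by
  rw [← cjm_inv_self a u, h, cjm_one])

theorem NonSc.cjm {u : Matrix κ κ F} (hu : NonSc u) : NonSc (cjm a u) := fun k h => hu k (by
  rw [← cjm_inv_self a u, h, cjm_smul, cjm_one])

end cjm

theorem TS.inj_left {s : Matrix κ₁ κ₁ F →ₐ[F] Matrix ι ι F} {r : Matrix κ₂ κ₂ F →ₐ[F] Matrix ι ι F} (h : TS s r)
    (h1 : (1 : Matrix κ₂ κ₂ F) ≠ 0) {u v : Matrix κ₁ κ₁ F} (e : s u = s v) : u = v := by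
  rcases h.ind1 (u := u - v) (v := 1) (by rw [map_sub, e, sub_self, zero_mul]) with h2 | h2
  · exact sub_eq_zero.1 h2
  · exact absurd h2 h1

variable {Q : Type*} [Group Q] [Finite Q] {A : Subgroup Q} {Γ : Subgroup (MulAut Q)}

/-- the hypothesis on the matrices `b`, `c` -/
structure BC (b bi : Matrix κ₂ κ₂ F) (c : GL κ₂ F) : Prop where
  mbi : b * bi = 1
  ne : ∀ k : F, cjm c b ≠ k • b
  inv1 : ∀ (a : GL κ₂ F) (k : F), k ≠ 0 → cjm a b = k • b → ∃ k' : F, k' ≠ 0 ∧ cjm a (cjm c⁻¹ b) = k' • cjm c⁻¹ b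
  inv2 : ∀ (a : GL κ₂ F) (k : F), k ≠ 0 → cjm a b = k • bi → ∃ k' : F, k' ≠ 0 ∧ cjm a (cjm c⁻¹ b) = k' • cjm c⁻¹ bi

/-- `c b c⁻¹ = b⁻¹` and `b²` is not scalar -/
theorem BC.of_inv {b bi : Matrix κ₂ κ₂ F} {c : GL κ₂ F} (hbi : b * bi = 1) (hc : cjm c b = bi)
    (hb : NonSc (b * b)) : BC b bi c := by
  have hbi' : bi * b = 1 := mul_eq_one_comm.1 hbi
  have h1 : cjm c bi = b := by
    have := cjm_mul c b bi
    rw [hbi, cjm_one, hc] at this
    calc cjm c bi = b * (bi * cjm c bi) := by rw [← mul_assoc, hbi, one_mul]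
      _ = b := by rw [← this, mul_one]
  have h2 : cjm c⁻¹ b = bi := by rw [← h1, cjm_inv_self]
  have h3 : cjm c⁻¹ bi = b := by rw [← hc, cjm_inv_self]
  have hinv : ∀ (a : GL κ₂ F) (k : F), k ≠ 0 → ∀ y y' : Matrix κ₂ κ₂ F, y * y' = 1 → cjm a b = k • y →
      cjm a bi = k⁻¹ • y' := by
    intro a k hk y y' hy hab
    have hy' : y' * y = 1 := mul_eq_one_comm.1 hy
    have := cjm_mul a b bi
    rw [hbi, cjm_one, hab] at this
    calc cjm a bi = y' * (y * cjm a bi) := by rw [← mul_assoc, hy', one_mul]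
      _ = k⁻¹ • (y' * ((k • y) * cjm a bi)) := by
        rw [Matrix.smul_mul, Matrix.mul_smul, smul_smul, inv_mul_cancel₀ hk, one_smul]
      _ = k⁻¹ • y' := by rw [← this, mul_one]
  refine ⟨hbi, ?_, ?_, ?_⟩
  · intro k hk
    rw [hc] at hk
    have hk0 : k ≠ 0 := by
      rintro rfl
      rw [zero_smul] at hk
      rw [hk, mul_zero] at hbi
      apply hb 0
      rw [← hbi, smul_zero]
      calc b * b = b * b * 1 := (mul_one _).symm
        _ = 0 := by rw [← hbi, mul_zero]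
    apply hb k⁻¹
    have : k • (b * b) = 1 := by rw [← Matrix.mul_smul, ← hk, hbi]
    rw [← this, smul_smul, inv_mul_cancel₀ hk0, one_smul]
  · intro a k hk hab
    rw [h2]
    exact ⟨k⁻¹, inv_ne_zero hk, hinv a k hk b bi hbi hab⟩
  · intro a k hk hab
    rw [h2, h3]
    exact ⟨k⁻¹, inv_ne_zero hk, hinv a k hk bi b hbi' hab⟩

/-- `b = 1 + N`, `N² = 0`, `c N c⁻¹ = μ N`, `μ ≠ 1` -/
theorem BC.of_nil {N : Matrix κ₂ κ₂ F} {c : GL κ₂ F} (hN : N * N = 0) (hN0 : N ≠ 0) {μ : F} (hμ0 : μ ≠ 0) (hμ : μ ≠ 1)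
    (hc : cjm c N = μ • N) : BC (1 + N) (1 - N) c := by
  have hone : (1 : Matrix κ₂ κ₂ F) ≠ 0 := by
    intro h0
    apply hN0
    calc N = N * 1 := (mul_one N).symm
      _ = 0 := by rw [h0, mul_zero]
  -- a scalar plus a multiple of `N` of square zero
  have key : ∀ k l : F, (k • (1 : Matrix κ₂ κ₂ F) + l • N) * (k • (1 : Matrix κ₂ κ₂ F) + l • N) = 0 → k = 0 := by
    intro k l e
    have h1 : N * ((k • (1 : Matrix κ₂ κ₂ F) + l • N) * (k • (1 : Matrix κ₂ κ₂ F) + l • N)) = (k * k) • N := by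
      simp only [mul_add, add_mul, Matrix.mul_smul, Matrix.smul_mul, mul_one, one_mul, hN,
        smul_zero, add_zero, smul_smul]
    rw [e, mul_zero] at h1
    rcases smul_eq_zero.1 h1.symm with h2 | h2
    · exact mul_self_eq_zero.1 h2
    · exact absurd h2 hN0
  have hc' : cjm c⁻¹ N = μ⁻¹ • N := by
    have : N = cjm c (μ⁻¹ • N) := by rw [cjm_smul, hc, smul_smul, inv_mul_cancel₀ hμ0, one_smul]
    conv_lhs => rw [this]
    rw [cjm_inv_self]
  have hsq : ∀ a : GL κ₂ F, cjm a N * cjm a N = 0 := fun a => by rw [← cjm_mul, hN, cjm_zero]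
  refine ⟨by simp [add_mul, mul_sub, hN], ?_, ?_, ?_⟩
  · intro k hk
    rw [cjm_add, cjm_one, hc] at hk
    -- 1 + μ N = k + k N
    have e1 : (k - 1) • (1 : Matrix κ₂ κ₂ F) + (k - μ) • N = 0 := by
      rw [sub_smul, sub_smul, one_smul]
      have : k • (1 + N) = k • (1 : Matrix κ₂ κ₂ F) + k • N := smul_add _ _ _
      rw [this] at hk
      rw [show k • (1 : Matrix κ₂ κ₂ F) - 1 + (k • N - μ • N) = (k • (1 : Matrix κ₂ κ₂ F) + k • N) - (1 + μ • N) by abel,
        hk, sub_self]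
    have hk1 : k - 1 = 0 := key (k - 1) (k - μ) (by rw [e1, zero_mul])
    rw [hk1, zero_smul, zero_add] at e1
    have hk2 : k - μ = 0 := (smul_eq_zero.1 e1).resolve_right hN0
    apply hμ
    linear_combination hk1 - hk2
  · intro a k hk hab
    rw [cjm_add, cjm_one] at hab
    have e1 : cjm a N = (k - 1) • (1 : Matrix κ₂ κ₂ F) + k • N := by
      rw [sub_smul, one_smul]
      have : k • (1 + N) = k • (1 : Matrix κ₂ κ₂ F) + k • N := smul_add _ _ _
      rw [this] at hab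
      rw [show k • (1 : Matrix κ₂ κ₂ F) - 1 + k • N = (k • (1 : Matrix κ₂ κ₂ F) + k • N) - 1 by abel, ← hab]
      abel
    have hk1 : k - 1 = 0 := key (k - 1) k (by rw [← e1, hsq])
    have hk2 : k = 1 := by linear_combination hk1
    rw [hk1, zero_smul, zero_add, hk2, one_smul] at e1
    refine ⟨1, one_ne_zero, ?_⟩
    rw [cjm_add c⁻¹, cjm_one, hc', cjm_add, cjm_one, cjm_smul, e1, one_smul]
  · intro a k hk hab
    rw [cjm_add, cjm_one] at hab
    have e1 : cjm a N = (k - 1) • (1 : Matrix κ₂ κ₂ F) + (-k) • N := by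
      rw [sub_smul, one_smul, neg_smul]
      have : k • (1 - N) = k • (1 : Matrix κ₂ κ₂ F) - k • N := smul_sub _ _ _
      rw [this] at hab
      rw [show k • (1 : Matrix κ₂ κ₂ F) - 1 + -(k • N) = (k • (1 : Matrix κ₂ κ₂ F) - k • N) - 1 by abel, ← hab]
      abel
    have hk1 : k - 1 = 0 := key (k - 1) (-k) (by rw [← e1, hsq])
    have hk2 : k = 1 := by linear_combination hk1
    rw [hk1, zero_smul, zero_add, hk2, neg_smul, one_smul] at e1
    refine ⟨1, one_ne_zero, ?_⟩
    rw [cjm_add c⁻¹, cjm_sub c⁻¹, cjm_one, hc', cjm_add, cjm_one, cjm_smul, e1, one_smul, smul_neg, sub_eq_add_neg]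

/-- the action of an element of `GL ι F` on the two algebras -/
structure Acts (s : Matrix κ₁ κ₁ F →ₐ[F] Matrix ι ι F) (r : Matrix κ₂ κ₂ F →ₐ[F] Matrix ι ι F) (g : GL ι F)
    (a₁ : GL κ₁ F) (a₂ : GL κ₂ F) : Prop where
  left : ∀ u, cjm g (s u) = s (cjm a₁ u)
  right : ∀ v, cjm g (r v) = r (cjm a₂ v)

section acts

variable {s : Matrix κ₁ κ₁ F →ₐ[F] Matrix ι ι F} {r : Matrix κ₂ κ₂ F →ₐ[F] Matrix ι ι F}

theorem Acts.mul {g g' : GL ι F} {a₁ a₁' : GL κ₁ F} {a₂ a₂' : GL κ₂ F} (h : Acts s r g a₁ a₂)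
    (h' : Acts s r g' a₁' a₂') : Acts s r (g * g') (a₁ * a₁') (a₂ * a₂') :=
  ⟨fun u => by rw [← cjm_cjm, h'.left, h.left, cjm_cjm], fun v => by rw [← cjm_cjm, h'.right, h.right, cjm_cjm]⟩

theorem Acts.inv {g : GL ι F} {a₁ : GL κ₁ F} {a₂ : GL κ₂ F} (h : Acts s r g a₁ a₂) : Acts s r g⁻¹ a₁⁻¹ a₂⁻¹ :=
  ⟨fun u => by
    conv_lhs => rw [← cjm_self_inv a₁ u, ← h.left, cjm_inv_self],
   fun v => by
    conv_lhs => rw [← cjm_self_inv a₂ v, ← h.right, cjm_inv_self]⟩

/-- a product `s u * r v` acts -/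
theorem Acts.of_pure (hTS : TS s r) {g : GL ι F} {a₁ : GL κ₁ F} {a₂ : GL κ₂ F}
    (e : (g : Matrix ι ι F) = s (a₁ : Matrix κ₁ κ₁ F) * r (a₂ : Matrix κ₂ κ₂ F)) : Acts s r g a₁ a₂ := by
  have h1 : ∀ y z : Matrix ι ι F, (g : Matrix ι ι F) * y = z * (g : Matrix ι ι F) → cjm g y = z := by
    intro y z hyz
    rw [cjm, hyz, mul_assoc, Units.mul_inv, mul_one]
  constructor
  · intro u
    apply h1
    calc (g : Matrix ι ι F) * s u = s (a₁ : Matrix κ₁ κ₁ F) * (r (a₂ : Matrix κ₂ κ₂ F) * s u) := by rw [e, mul_assoc]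
      _ = s ((a₁ : Matrix κ₁ κ₁ F) * u) * r (a₂ : Matrix κ₂ κ₂ F) := by rw [← hTS.comm, ← mul_assoc, ← map_mul]
      _ = s (cjm a₁ u * (a₁ : Matrix κ₁ κ₁ F)) * r (a₂ : Matrix κ₂ κ₂ F) := by
        rw [cjm, mul_assoc _ _ (a₁ : Matrix κ₁ κ₁ F), Units.inv_mul, mul_one]
      _ = s (cjm a₁ u) * (g : Matrix ι ι F) := by rw [e, map_mul, mul_assoc]
  · intro v
    apply h1
    calc (g : Matrix ι ι F) * r v = s (a₁ : Matrix κ₁ κ₁ F) * r ((a₂ : Matrix κ₂ κ₂ F) * v) := by
          rw [e, mul_assoc, ← map_mul]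
      _ = s (a₁ : Matrix κ₁ κ₁ F) * r (cjm a₂ v * (a₂ : Matrix κ₂ κ₂ F)) := by
        rw [cjm, mul_assoc _ _ (a₂ : Matrix κ₂ κ₂ F), Units.inv_mul, mul_one]
      _ = r (cjm a₂ v) * (g : Matrix ι ι F) := by rw [e, map_mul, ← mul_assoc, hTS.comm, mul_assoc]

end acts

/-- **The kill.** -/
theorem kill_two (h : EPT A Γ) {S : Subgroup (GL ι F)} (m : Model Q S) {M : Subgroup (GL ι F)} (hA : m.hat A = M ⊓ S)
    {s : Matrix κ₁ κ₁ F →ₐ[F] Matrix ι ι F} {r : Matrix κ₂ κ₂ F →ₐ[F] Matrix ι ι F} (hTS : TS s r)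
    {p : Matrix κ₁ κ₁ F} (hp : p * p = p) (hp0 : p ≠ 0) {b bi : Matrix κ₂ κ₂ F} {c : GL κ₂ F} (hbc : BC b bi c)
    {x : GL ι F} (hxS : x ∈ S) (hxv : (x : Matrix ι ι F) = s p * r b + s (1 - p))
    (hpure : ∀ (u : GL κ₁ F) (v : GL κ₂ F) (g : GL ι F),
      (g : Matrix ι ι F) = s (u : Matrix κ₁ κ₁ F) * r (v : Matrix κ₂ κ₂ F) → g ∈ M)
    (hM : ∀ g ∈ M, x⁻¹ * g * x ∈ M → ∃ (a₁ : GL κ₁ F) (a₂ : GL κ₂ F), Acts s r g a₁ a₂ ∧
      ((cjm a₁ p = p ∧ ∃ k : F, k ≠ 0 ∧ cjm a₂ b = k • b) ∨ (cjm a₁ p = 1 - p ∧ ∃ k : F, k ≠ 0 ∧ cjm a₂ b = k • bi)))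
    {w : GL ι F} (hwM : w ∈ M) (hwS : w ∈ S) {c₁ : GL κ₁ F} (hw : Acts s r w c₁ c) (hcp : cjm c₁ p = p) : False := by
  have hone : (1 : Matrix κ₂ κ₂ F) ≠ 0 := by
    intro h0
    apply hbc.ne 0
    rw [zero_smul]
    calc cjm c b = cjm c b * 1 := (mul_one _).symm
      _ = 0 := by rw [h0, mul_zero]
  have hone1 : (1 : Matrix κ₁ κ₁ F) ≠ 0 := by
    intro h0
    apply hp0
    calc p = p * 1 := (mul_one _).symm
      _ = 0 := by rw [h0, mul_zero]
  -- `w` is not in `M^x`
  have hwno : ¬ x⁻¹ * w * x ∈ M := by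
    intro hcon
    obtain ⟨a₁, a₂, hact, h1⟩ := hM w hwM hcon
    have e1 : cjm a₁ p = p := by
      apply hTS.inj_left hone
      rw [← hact.left, hw.left, hcp]
    have e2 : cjm a₂ b = cjm c b := by
      apply hTS.symm.inj_left hone1
      rw [← hact.right, hw.right]
    rcases h1 with ⟨-, k, hk, h2⟩ | ⟨h2, -⟩
    · exact hbc.ne k (by rw [← e2, h2])
    · rw [e1] at h2
      apply hp0
      calc p = p * p := hp.symm
        _ = p * (1 - p) := by rw [← h2]
        _ = 0 := by rw [mul_sub, mul_one, hp, sub_self]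
  have hxM : x ∉ M := fun hx => hwno (M.mul_mem (M.mul_mem (M.inv_mem hx) hwM) hx)
  have hwA : w ∈ m.hat A := by rw [hA]; exact ⟨hwM, hwS⟩
  have key : w ∈ cj x (m.hat A) := by
    refine Cfsg.Agent.H458.EP.kill_norm h m hxS (fun hx => hxM (by rw [hA] at hx; exact (mem_inf.1 hx).1)) hwA ?_
    intro g hg hgx
    rw [hA] at hg hgx ⊢
    rw [mem_cj] at hgx ⊢
    obtain ⟨hgM, hgS⟩ := mem_inf.1 hg
    refine mem_inf.2 ⟨?_, S.mul_mem (S.mul_mem (S.inv_mem hxS) (S.mul_mem (S.mul_mem hwS hgS) (S.inv_mem hwS))) hxS⟩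
    obtain ⟨a₁, a₂, hact, h1⟩ := hM g hgM (mem_inf.1 hgx).1
    have hg'M : w * g * w⁻¹ ∈ M := M.mul_mem (M.mul_mem hwM hgM) (M.inv_mem hwM)
    have hact' := (hw.mul hact).mul hw.inv
    set g' := w * g * w⁻¹ with hg'
    have hX : cjm g' (x : Matrix ι ι F) = s (cjm (c₁ * a₁ * c₁⁻¹) p) * r (cjm (c * a₂ * c⁻¹) b) +
        (1 - s (cjm (c₁ * a₁ * c₁⁻¹) p)) := by
      rw [hxv, cjm_add, cjm_mul, hact'.left, hact'.right, map_sub, map_one, cjm_sub, cjm_one, hact'.left]
    have hcp' : cjm c₁⁻¹ p = p := by rw [← hcp, cjm_inv_self, hcp]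
    have hsplit : x⁻¹ * g' * x = (x⁻¹ * (g' * x * g'⁻¹)) * g' := by group
    rw [hsplit]
    refine M.mul_mem ?_ hg'M
    have hq : (1 - p) * p = 0 := by rw [sub_mul, one_mul, hp, sub_self]
    have hq' : p * (1 - p) = 0 := by rw [mul_sub, mul_one, hp, sub_self]
    have hqq : (1 - p) * (1 - p) = 1 - p := by rw [mul_sub, hq, mul_one, sub_zero]
    have hfin : ∀ (u : GL κ₁ F) (v : GL κ₂ F), cjm g' (x : Matrix ι ι F) =
        (x : Matrix ι ι F) * (s (u : Matrix κ₁ κ₁ F) * r (v : Matrix κ₂ κ₂ F)) → x⁻¹ * (g' * x * g'⁻¹) ∈ M := by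
      intro u v e
      apply hpure u v
      have : ((x⁻¹ * (g' * x * g'⁻¹) : GL ι F) : Matrix ι ι F) = ((x⁻¹ : GL ι F) : Matrix ι ι F) * cjm g' (x : Matrix ι ι F) :=
        rfl
      rw [this, e, ← mul_assoc, Units.inv_mul, one_mul]
    rcases h1 with ⟨h2, k, hk, h3⟩ | ⟨h2, k, hk, h3⟩
    · obtain ⟨k', hk', h4⟩ := hbc.inv1 a₂ k hk h3
      have e1 : cjm (c₁ * a₁ * c₁⁻¹) p = p := by rw [← cjm_cjm, hcp', ← cjm_cjm, h2, hcp]
      have e2 : cjm (c * a₂ * c⁻¹) b = k' • b := by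
        rw [← cjm_cjm, ← cjm_cjm, h4, cjm_smul, cjm_self_inv]
      let u : GL κ₁ F := ⟨k' • p + (1 - p), k'⁻¹ • p + (1 - p), by
        simp only [mul_add, add_mul, Matrix.smul_mul, Matrix.mul_smul, hp, hq, hq', hqq, smul_zero, add_zero, zero_add,
          smul_smul, mul_inv_cancel₀ hk', inv_mul_cancel₀ hk', one_smul]
        abel, by
        simp only [mul_add, add_mul, Matrix.smul_mul, Matrix.mul_smul, hp, hq, hq', hqq, smul_zero, add_zero, zero_add,
          smul_smul, mul_inv_cancel₀ hk', inv_mul_cancel₀ hk', one_smul]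
        abel⟩
      apply hfin u 1
      rw [hX, e1, e2, Units.val_one, map_one, mul_one, hxv, map_smul]
      change _ = (s p * r b + s (1 - p)) * s (k' • p + (1 - p))
      have e3 : p * (k' • p + (1 - p)) = k' • p := by rw [mul_add, hq', add_zero, Matrix.mul_smul, hp]
      have e4 : (1 - p) * (k' • p + (1 - p)) = 1 - p := by
        rw [mul_add, hqq, Matrix.mul_smul, hq, smul_zero, zero_add]
      rw [add_mul, mul_assoc, ← hTS.comm, ← mul_assoc, ← map_mul, ← map_mul, e3, e4, map_smul, map_sub, map_one,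
        Matrix.mul_smul, Matrix.smul_mul]
    · obtain ⟨k', hk', h4⟩ := hbc.inv2 a₂ k hk h3
      have e1 : cjm (c₁ * a₁ * c₁⁻¹) p = 1 - p := by rw [← cjm_cjm, hcp', ← cjm_cjm, h2, cjm_sub, cjm_one, hcp]
      have e2 : cjm (c * a₂ * c⁻¹) b = k' • bi := by
        rw [← cjm_cjm, ← cjm_cjm, h4, cjm_smul, cjm_self_inv]
      let u : GL κ₁ F := ⟨p + k' • (1 - p), p + k'⁻¹ • (1 - p), by
        simp only [mul_add, add_mul, Matrix.smul_mul, Matrix.mul_smul, hp, hq, hq', hqq, smul_zero, add_zero, zero_add,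
          smul_smul, mul_inv_cancel₀ hk', inv_mul_cancel₀ hk', one_smul]
        abel, by
        simp only [mul_add, add_mul, Matrix.smul_mul, Matrix.mul_smul, hp, hq, hq', hqq, smul_zero, add_zero, zero_add,
          smul_smul, mul_inv_cancel₀ hk', inv_mul_cancel₀ hk', one_smul]
        abel⟩
      let v : GL κ₂ F := ⟨bi, b, mul_eq_one_comm.1 hbc.mbi, hbc.mbi⟩
      apply hfin u v
      rw [hX, e1, e2, hxv]
      change _ = (s p * r b + s (1 - p)) * (s (p + k' • (1 - p)) * r bi)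
      rw [add_mul, ← mul_assoc, ← mul_assoc, mul_assoc (s p), ← hTS.comm, ← mul_assoc, ← map_mul, ← map_mul, mul_add,
        mul_add, Matrix.mul_smul, Matrix.mul_smul, hp, hq, hq', hqq, smul_zero, add_zero, zero_add, mul_assoc (s p),
        ← map_mul, hbc.mbi, map_one, mul_one, map_smul, map_smul, Matrix.mul_smul, Matrix.smul_mul, map_sub, map_one]
      abel
  rw [mem_cj] at key
  rw [hA] at key
  exact hwno (mem_inf.1 key).1

end Cfsg.Agent.H487.EP
end

-- part: H487/EP/Tensor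
section
/-!
# S3499: the kill for stabilisers of tensor decompositions (helper487)
-/

set_option autoImplicit false
set_option linter.unusedSectionVars false

namespace Cfsg.Agent.H487.EP

open Matrix Subgroup Cfsg.Agent.H284 Cfsg.Agent.H419.EP Cfsg.Geo
open scoped MatrixGroups Kronecker

section frame

variable {κ₁ κ₂ κ ι : Type} [Fintype κ₁] [DecidableEq κ₁] [Fintype κ₂] [DecidableEq κ₂] [Fintype ι] [DecidableEq ι]
variable [Fintype κ] [DecidableEq κ] {F : Type*} [Field F]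

/-- change of frame -/
def frA (e : ι ≃ κ) (P : GL ι F) : Matrix κ κ F →ₐ[F] Matrix ι ι F :=
  AlgHom.ofLinearMap
    { toFun := fun X => (P : Matrix ι ι F) * Matrix.reindexAlgEquiv F F e.symm X * ((P⁻¹ : GL ι F) : Matrix ι ι F)
      map_add' := fun X Y => by rw [map_add, mul_add, add_mul]
      map_smul' := fun c X => by rw [map_smul, Matrix.mul_smul, Matrix.smul_mul, RingHom.id_apply] }
    (by
      change (P : Matrix ι ι F) * Matrix.reindexAlgEquiv F F e.symm 1 * ((P⁻¹ : GL ι F) : Matrix ι ι F) = 1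
      rw [map_one, mul_one, Units.mul_inv])
    (fun X Y => by
      change (P : Matrix ι ι F) * Matrix.reindexAlgEquiv F F e.symm (X * Y) * ((P⁻¹ : GL ι F) : Matrix ι ι F) =
        (P : Matrix ι ι F) * Matrix.reindexAlgEquiv F F e.symm X * ((P⁻¹ : GL ι F) : Matrix ι ι F) *
        ((P : Matrix ι ι F) * Matrix.reindexAlgEquiv F F e.symm Y * ((P⁻¹ : GL ι F) : Matrix ι ι F))
      rw [map_mul]
      simp only [mul_assoc, Units.inv_mul_cancel_left])

theorem frA_apply (e : ι ≃ κ) (P : GL ι F) (X : Matrix κ κ F) : frA e P X =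
    (P : Matrix ι ι F) * Matrix.reindexAlgEquiv F F e.symm X * ((P⁻¹ : GL ι F) : Matrix ι ι F) := rfl

theorem frA_injective (e : ι ≃ κ) (P : GL ι F) : Function.Injective (frA e P : Matrix κ κ F → Matrix ι ι F) := by
  intro X Y h
  rw [frA_apply, frA_apply] at h
  have h2 : (Matrix.reindexAlgEquiv F F e.symm X) = (Matrix.reindexAlgEquiv F F e.symm Y) := by
    have := congrArg (fun Z => ((P⁻¹ : GL ι F) : Matrix ι ι F) * Z * (P : Matrix ι ι F)) h
    simpa only [mul_assoc, _root_.Matrix.coe_reindexAlgEquiv, _root_.Matrix.reindex_apply, _root_.Equiv.symm_symm, _root_.Matrix.coe_units_inv, _root_.Matrix.inv_mul_cancel_left_of_invertible, _root_.Matrix.inv_mul_of_invertible, _root_.mul_one] using this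
  exact (Matrix.reindexAlgEquiv F F e.symm).injective h2

/-- `u ↦ u ⊗ 1` -/
def krL (κ₁ κ₂ : Type) [Fintype κ₁] [DecidableEq κ₁] [Fintype κ₂] [DecidableEq κ₂] (F : Type*) [Field F] :
    Matrix κ₁ κ₁ F →ₐ[F] Matrix (κ₁ × κ₂) (κ₁ × κ₂) F :=
  AlgHom.ofLinearMap
    { toFun := fun u => u ⊗ₖ (1 : Matrix κ₂ κ₂ F)
      map_add' := fun u v => Matrix.add_kronecker _ _ _
      map_smul' := fun c u => Matrix.smul_kronecker _ _ _ }
    (Matrix.one_kronecker_one) (fun u v => by
      change (u * v) ⊗ₖ (1 : Matrix κ₂ κ₂ F) = (u ⊗ₖ (1 : Matrix κ₂ κ₂ F)) * (v ⊗ₖ (1 : Matrix κ₂ κ₂ F))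
      rw [← Matrix.mul_kronecker_mul, mul_one])

/-- `v ↦ 1 ⊗ v` -/
def krR (κ₁ κ₂ : Type) [Fintype κ₁] [DecidableEq κ₁] [Fintype κ₂] [DecidableEq κ₂] (F : Type*) [Field F] :
    Matrix κ₂ κ₂ F →ₐ[F] Matrix (κ₁ × κ₂) (κ₁ × κ₂) F :=
  AlgHom.ofLinearMap
    { toFun := fun u => (1 : Matrix κ₁ κ₁ F) ⊗ₖ u
      map_add' := fun u v => Matrix.kronecker_add _ _ _
      map_smul' := fun c u => Matrix.kronecker_smul _ _ _ }
    (Matrix.one_kronecker_one) (fun u v => by
      change (1 : Matrix κ₁ κ₁ F) ⊗ₖ (u * v) = ((1 : Matrix κ₁ κ₁ F) ⊗ₖ u) * ((1 : Matrix κ₁ κ₁ F) ⊗ₖ v)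
      rw [← Matrix.mul_kronecker_mul, mul_one])

theorem krL_apply (u : Matrix κ₁ κ₁ F) : krL κ₁ κ₂ F u = u ⊗ₖ (1 : Matrix κ₂ κ₂ F) := rfl
theorem krR_apply (u : Matrix κ₂ κ₂ F) : krR κ₁ κ₂ F u = (1 : Matrix κ₁ κ₁ F) ⊗ₖ u := rfl

theorem krL_mul_krR (u : Matrix κ₁ κ₁ F) (v : Matrix κ₂ κ₂ F) : krL κ₁ κ₂ F u * krR κ₁ κ₂ F v = u ⊗ₖ v := by
  rw [krL_apply, krR_apply, ← Matrix.mul_kronecker_mul, mul_one, one_mul]

theorem krR_mul_krL (u : Matrix κ₁ κ₁ F) (v : Matrix κ₂ κ₂ F) : krR κ₁ κ₂ F v * krL κ₁ κ₂ F u = u ⊗ₖ v := by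
  rw [krL_apply, krR_apply, ← Matrix.mul_kronecker_mul, mul_one, one_mul]

/-- the left factor -/
def sL (e : ι ≃ κ₁ × κ₂) (P : GL ι F) : Matrix κ₁ κ₁ F →ₐ[F] Matrix ι ι F := (frA e P).comp (krL κ₁ κ₂ F)

/-- the right factor -/
def sR (e : ι ≃ κ₁ × κ₂) (P : GL ι F) : Matrix κ₂ κ₂ F →ₐ[F] Matrix ι ι F := (frA e P).comp (krR κ₁ κ₂ F)

theorem sL_mul_sR (e : ι ≃ κ₁ × κ₂) (P : GL ι F) (u : Matrix κ₁ κ₁ F) (v : Matrix κ₂ κ₂ F) :
    sL e P u * sR e P v = frA e P (u ⊗ₖ v) := by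
  rw [← krL_mul_krR, map_mul]
  rfl

theorem ts (e : ι ≃ κ₁ × κ₂) (P : GL ι F) : TS (sL e P) (sR e P) where
  comm := fun a b => by
    rw [sL_mul_sR, ← krR_mul_krL, map_mul]
    rfl
  ind := fun N u v h i j k l => by
    have h1 : frA e P (∑ a, (u a) ⊗ₖ (v a)) = 0 := by
      rw [map_sum, ← h]
      exact Finset.sum_congr rfl fun a _ => (sL_mul_sR e P _ _).symm
    have h2 : ∑ a, (u a) ⊗ₖ (v a) = 0 := frA_injective e P (by rw [h1, map_zero])
    have h3 := congrFun (congrFun h2 (i, k)) (j, l)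
    rw [Matrix.sum_apply] at h3
    simpa only [Matrix.kroneckerMap_apply, _root_.Matrix.zero_apply] using h3

end frame

section tensor

variable {ι : Type} [Fintype ι] [DecidableEq ι] {F : Type*} [Field F] {n₁ n₂ : ℕ}

theorem mem_tensor (e : ι ≃ Fin n₁ × Fin n₂) (P : GL ι F) {g : GL ι F} :
    g ∈ tensorProductSubgroup n₁ n₂ e P ↔ ∃ (a : GL (Fin n₁) F) (b : GL (Fin n₂) F),
      (g : Matrix ι ι F) = sL e P (a : Matrix (Fin n₁) (Fin n₁) F) * sR e P (b : Matrix (Fin n₂) (Fin n₂) F) := by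
  constructor
  · rintro ⟨_, ⟨k, ⟨a, b, hk⟩, rfl⟩, rfl⟩
    refine ⟨a, b, ?_⟩
    rw [sL_mul_sR, ← hk]
    rfl
  · rintro ⟨a, b, hg⟩
    let k : GL (Fin n₁ × Fin n₂) F := ⟨(a : Matrix (Fin n₁) (Fin n₁) F) ⊗ₖ (b : Matrix (Fin n₂) (Fin n₂) F),
      ((a⁻¹ : GL (Fin n₁) F) : Matrix (Fin n₁) (Fin n₁) F) ⊗ₖ ((b⁻¹ : GL (Fin n₂) F) : Matrix (Fin n₂) (Fin n₂) F),
      by rw [← Matrix.mul_kronecker_mul, ← Units.val_mul, ← Units.val_mul, mul_inv_cancel, mul_inv_cancel,
          Units.val_one, Units.val_one, Matrix.one_kronecker_one],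
      by rw [← Matrix.mul_kronecker_mul, ← Units.val_mul, ← Units.val_mul, inv_mul_cancel, inv_mul_cancel,
          Units.val_one, Units.val_one, Matrix.one_kronecker_one]⟩
    refine ⟨_, ⟨k, ⟨a, b, rfl⟩, rfl⟩, ?_⟩
    apply Units.ext
    rw [hg, sL_mul_sR]
    rfl

variable {Q : Type*} [Group Q] [Finite Q] {A : Subgroup Q} {Γ : Subgroup (MulAut Q)}

theorem BC.nonSc {κ : Type} [Fintype κ] [DecidableEq κ] {b bi : Matrix κ κ F} {c : GL κ F} (h : BC b bi c) : NonSc b := by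
  intro k hk
  apply h.ne 1
  rw [one_smul, hk, cjm_smul, cjm_one]

/-- **The kill for tensor decompositions** -/
theorem kill_tensor (h : EPT A Γ) {S : Subgroup (GL ι F)} (m : Model Q S) (e : ι ≃ Fin n₁ × Fin n₂) (P : GL ι F)
    (hA : m.hat A = tensorProductSubgroup n₁ n₂ e P ⊓ S)
    {p : Matrix (Fin n₁) (Fin n₁) F} (hp : p * p = p) (hp0 : p ≠ 0) (hp1 : p ≠ 1)
    {b bi : Matrix (Fin n₂) (Fin n₂) F} {c : GL (Fin n₂) F} (hbc : BC b bi c)
    {x : GL ι F} (hxS : x ∈ S) (hxv : (x : Matrix ι ι F) = sL e P p * sR e P b + sL e P (1 - p))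
    {w : GL ι F} (hwS : w ∈ S) {c₁ : GL (Fin n₁) F} (hcp : cjm c₁ p = p)
    (hwv : (w : Matrix ι ι F) = sL e P (c₁ : Matrix (Fin n₁) (Fin n₁) F) * sR e P (c : Matrix (Fin n₂) (Fin n₂) F)) :
    False := by
  refine kill_two h m hA (ts e P) hp hp0 hbc hxS hxv (fun u v g hg => (mem_tensor e P).2 ⟨u, v, hg⟩) ?_
    ((mem_tensor e P).2 ⟨c₁, c, hwv⟩) hwS (Acts.of_pure (ts e P) hwv) hcp
  intro g hg hgx
  obtain ⟨a₁, a₂, hga⟩ := (mem_tensor e P).1 hg
  have hact := Acts.of_pure (ts e P) hga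
  refine ⟨a₁, a₂, hact, ?_⟩
  have hY : x⁻¹ * g * x * g⁻¹ ∈ tensorProductSubgroup n₁ n₂ e P := mul_mem hgx (inv_mem hg)
  obtain ⟨c', d', hY'⟩ := (mem_tensor e P).1 hY
  have e1 : (x : Matrix ι ι F) * ((x⁻¹ * g * x * g⁻¹ : GL ι F) : Matrix ι ι F) = cjm g (x : Matrix ι ι F) := by
    rw [← Units.val_mul, show x * (x⁻¹ * g * x * g⁻¹) = g * x * g⁻¹ by group]
    rfl
  have hX : cjm g (x : Matrix ι ι F) = sL e P (cjm a₁ p) * sR e P (cjm a₂ b) + sL e P (1 - cjm a₁ p) := by
    rw [hxv, cjm_add, cjm_mul, hact.left, hact.right, hact.left, cjm_sub, cjm_one]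
  rw [hY', hX, hxv] at e1
  have hp' : cjm a₁ p * cjm a₁ p = cjm a₁ p := by rw [← cjm_mul, hp]
  exact (ts e P).lemA hp hp0 hp1 hbc.mbi hp' (cjm_ne_zero a₁ hp0) (cjm_ne_one a₁ hp1) (hbc.nonSc.cjm a₂) c'.isUnit
    d'.isUnit e1

/-- exchanging the two factors -/
theorem tensor_swap (e : ι ≃ Fin n₁ × Fin n₂) (P : GL ι F) :
    tensorProductSubgroup n₂ n₁ (e.trans (Equiv.prodComm _ _)) P = tensorProductSubgroup n₁ n₂ e P := by
  have key : ∀ (a : Matrix (Fin n₁) (Fin n₁) F) (b : Matrix (Fin n₂) (Fin n₂) F),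
      sL (e.trans (Equiv.prodComm _ _)) P b * sR (e.trans (Equiv.prodComm _ _)) P a = sL e P a * sR e P b := by
    intro a b
    rw [sL_mul_sR, sL_mul_sR, frA_apply, frA_apply]
    congr 2
    ext i j
    simp [Matrix.kroneckerMap_apply, mul_comm]
  ext g
  rw [mem_tensor, mem_tensor]
  constructor
  · rintro ⟨b, a, h⟩
    exact ⟨a, b, by rw [h, key]⟩
  · rintro ⟨a, b, h⟩
    exact ⟨b, a, by rw [h, key]⟩

end tensor

end Cfsg.Agent.H487.EP
end

-- part: H487/EP/Wreath
section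
/-!
# S3499: the kill for stabilisers of tensor decompositions with equal factors (helper487)
-/

set_option autoImplicit false
set_option linter.unusedSectionVars false

namespace Cfsg.Agent.H487.EP

open Matrix Subgroup Cfsg.Agent.H284 Cfsg.Agent.H419.EP Cfsg.Geo
open Cfsg.Agent.H919 (pureMat slotMat slotEmb pureMat_apply pureMat_mul slotMat_commute facPerm pureGL
  slotMat_apply_facPerm pureGL_conj_slotMat pureGL_mem frameGL frameGL_val mem_tensorWreathSubgroup_iff
  scalar_of_commute_slots slotMat_mul slotMat_one)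
open scoped MatrixGroups Kronecker

variable {ι : Type} [Fintype ι] [DecidableEq ι] {F : Type*} [Field F] {t m : ℕ}

/-- the `i`-th slot -/
noncomputable def sl (e : ι ≃ (Fin t → Fin m)) (P : GL ι F) (i : Fin t) : Matrix (Fin m) (Fin m) F →ₐ[F] Matrix ι ι F :=
  (frA e P).comp (slotEmb i)

theorem sl_apply (e : ι ≃ (Fin t → Fin m)) (P : GL ι F) (i : Fin t) (u : Matrix (Fin m) (Fin m) F) :
    sl e P i u = frA e P (slotMat i u) := rfl

theorem ts_sl (e : ι ≃ (Fin t → Fin m)) (P : GL ι F) {i j : Fin t} (hij : i ≠ j) : TS (sl e P i) (sl e P j) where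
  comm := fun a b => by
    rw [sl_apply, sl_apply, ← map_mul, ← map_mul, (slotMat_commute hij a b).eq]
  ind := fun N u v h i' j' k l => by
    have h1 : frA e P (∑ a, slotMat i (u a) * slotMat j (v a)) = 0 := by
      rw [map_sum, ← h]
      exact Finset.sum_congr rfl fun a _ => by rw [map_mul]; rfl
    have h2 : ∑ a, slotMat i (u a) * slotMat j (v a) = 0 := frA_injective e P (by rw [h1, map_zero])
    let x : Fin t → Fin m := Function.update (fun _ => k) i i'
    let y : Fin t → Fin m := Function.update (Function.update (fun _ => k) i j') j l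
    have h3 := congrFun (congrFun h2 x) y
    rw [Matrix.sum_apply, Matrix.zero_apply] at h3
    rw [← h3]
    refine Finset.sum_congr rfl fun a _ => ?_
    rw [slotMat, slotMat, pureMat_mul, pureMat_apply]
    have hx : x = Function.update (fun _ => k) i i' := rfl
    have hy : y = Function.update (Function.update (fun _ => k) i j') j l := rfl
    rw [← Finset.mul_prod_erase _ _ (Finset.mem_univ i),
      ← Finset.mul_prod_erase _ _ (Finset.mem_erase.2 ⟨Ne.symm hij, Finset.mem_univ j⟩)]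
    have h4 : ∏ z ∈ (Finset.univ.erase i).erase j, (Function.update (fun _ : Fin t => (1 : Matrix (Fin m) (Fin m) F)) i (u a) z *
        Function.update (fun _ : Fin t => (1 : Matrix (Fin m) (Fin m) F)) j (v a) z) (x z) (y z) = 1 := by
      apply Finset.prod_eq_one
      intro z hz
      have hzj : z ≠ j := Finset.ne_of_mem_erase hz
      have hzi : z ≠ i := Finset.ne_of_mem_erase (Finset.mem_of_mem_erase hz)
      rw [Function.update_of_ne hzi, Function.update_of_ne hzj, hx, hy, Function.update_of_ne hzi,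
        Function.update_of_ne hzj, Function.update_of_ne hzi, mul_one, Matrix.one_apply_eq]
    rw [h4, mul_one, Function.update_self, Function.update_of_ne hij, Function.update_of_ne (Ne.symm hij),
      Function.update_self, mul_one, one_mul, hx, hy, Function.update_self, Function.update_of_ne (Ne.symm hij),
      Function.update_self, Function.update_of_ne hij, Function.update_self]

/-- elements of the wreath subgroup permute the slots -/
theorem wreath_acts {e : ι ≃ (Fin t → Fin m)} {P : GL ι F} {g : GL ι F} (hg : g ∈ tensorWreathSubgroup m t e P) :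
    ∃ (π : Equiv.Perm (Fin t)) (a : Fin t → GL (Fin m) F), ∀ k u, cjm g (sl e P k u) = sl e P (π k) (cjm (a k) u) := by
  obtain ⟨g, hg', rfl⟩ := (mem_tensorWreathSubgroup_iff e P g).1 hg
  clear hg
  have key : ∃ (π : Equiv.Perm (Fin t)) (a : Fin t → GL (Fin m) F), ∀ k u,
      cjm g (slotMat k u) = slotMat (π k) (cjm (a k) u) := by
    replace hg' : g ∈ Subgroup.closure {g : GL (Fin t → Fin m) F | IsPureTensor m t g ∨ IsFactorPermutation m t g} := hg'
    induction hg' using Subgroup.closure_induction with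
    | mem x hx =>
      rcases hx with ⟨gs, hgs⟩ | ⟨σ, hσ⟩
      · have hx : x = pureGL gs := Units.ext (by ext a b; exact hgs a b)
        subst hx
        exact ⟨1, gs, fun k u => pureGL_conj_slotMat gs k u⟩
      · have hx : x = facPerm F m σ := Units.ext (by ext a b; exact hσ a b)
        subst hx
        refine ⟨σ, fun _ => 1, fun k u => ?_⟩
        have h1 : cjm (1 : GL (Fin m) F) u = u := by simp [cjm]
        rw [h1]
        exact slotMat_apply_facPerm σ k u
    | one =>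
      refine ⟨1, fun _ => 1, fun k u => ?_⟩
      simp only [cjm, _root_.Units.val_one, _root_.one_mul, _root_.inv_one, _root_.mul_one, _root_.Equiv.Perm.coe_one, _root_.id_eq]
    | mul x y _ _ hx hy =>
      obtain ⟨π, a, h1⟩ := hx
      obtain ⟨ρ, b, h2⟩ := hy
      refine ⟨π * ρ, fun k => a (ρ k) * b k, fun k u => ?_⟩
      rw [← cjm_cjm, h2, h1, cjm_cjm]
      rfl
    | inv x _ hx =>
      obtain ⟨π, a, h1⟩ := hx
      refine ⟨π⁻¹, fun k => (a (π⁻¹ k))⁻¹, fun k u => ?_⟩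
      have h2 := h1 (π⁻¹ k) (cjm (a (π⁻¹ k))⁻¹ u)
      rw [cjm_self_inv, show π (π⁻¹ k) = k from π.apply_symm_apply k] at h2
      rw [← h2, cjm_inv_self]
  obtain ⟨π, a, h1⟩ := key
  refine ⟨π, a, fun k u => ?_⟩
  rw [sl_apply, sl_apply, ← h1]
  have h2 : ((frameGL e P g : GL ι F) : Matrix ι ι F) = frA e P (g : Matrix _ _ F) := frameGL_val e P g
  have h3 : (((frameGL e P g)⁻¹ : GL ι F) : Matrix ι ι F) = frA e P ((g⁻¹ : GL (Fin t → Fin m) F) : Matrix _ _ F) := by
    rw [← map_inv]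
    exact frameGL_val e P g⁻¹
  rw [cjm, cjm, h2, h3, ← map_mul, ← map_mul]

/-- pure tensors are in the wreath subgroup -/
theorem pure_mem {e : ι ≃ (Fin t → Fin m)} {P : GL ι F} {i j : Fin t} (hij : i ≠ j) (u v : GL (Fin m) F) {g : GL ι F}
    (hg : (g : Matrix ι ι F) = sl e P i (u : Matrix (Fin m) (Fin m) F) * sl e P j (v : Matrix (Fin m) (Fin m) F)) :
    g ∈ tensorWreathSubgroup m t e P := by
  rw [mem_tensorWreathSubgroup_iff]
  refine ⟨pureGL (Function.update (Function.update (fun _ => 1) i u) j v), pureGL_mem _, ?_⟩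
  apply Units.ext
  have h2 : ((frameGL e P (pureGL (Function.update (Function.update (fun _ => 1) i u) j v)) : GL ι F) : Matrix ι ι F) =
    frA e P (pureGL (Function.update (Function.update (fun _ => 1) i u) j v) : GL (Fin t → Fin m) F).val := frameGL_val e P _
  rw [h2, hg, sl_apply, sl_apply, ← map_mul, slotMat, slotMat, pureMat_mul]
  congr 1
  rw [Cfsg.Agent.H919.pureGL_val]
  congr 1
  funext k
  by_cases hkj : k = j
  · subst hkj
    rw [Function.update_self, Function.update_self, Function.update_of_ne (Ne.symm hij), one_mul]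
  · rw [Function.update_of_ne hkj, Function.update_of_ne hkj, mul_one]
    by_cases hki : k = i
    · subst hki
      rw [Function.update_self, Function.update_self]
    · rw [Function.update_of_ne hki, Function.update_of_ne hki, Units.val_one]

theorem scalar_of_sl {e : ι ≃ (Fin t → Fin m)} {P : GL ι F} (Y : Matrix ι ι F)
    (h : ∀ k u, Y * sl e P k u = sl e P k u * Y) : ∃ c : F, Y = c • 1 := by
  -- `frA` is onto
  obtain ⟨Z, rfl⟩ : ∃ Z, frA e P Z = Y := by
    refine ⟨(Matrix.reindexAlgEquiv F F e.symm).symm (((P⁻¹ : GL ι F) : Matrix ι ι F) * Y * (P : Matrix ι ι F)), ?_⟩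
    rw [frA_apply, AlgEquiv.apply_symm_apply]
    simp only [← mul_assoc, Units.mul_inv, one_mul]
    rw [mul_assoc, Units.mul_inv, mul_one]
  obtain ⟨c, hc⟩ := scalar_of_commute_slots (M := Z) fun k u => frA_injective e P (by
    rw [map_mul, map_mul]
    exact h k u)
  exact ⟨c, by rw [hc, map_smul, map_one]⟩

end Cfsg.Agent.H487.EP
end

-- part: H487/EP/Wreath2
section
/-!
# S3499: the kill for stabilisers of tensor decompositions with equal factors, main part (helper487)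
-/

set_option autoImplicit false
set_option linter.unusedSectionVars false

namespace Cfsg.Agent.H487.EP

open Matrix Subgroup Cfsg.Agent.H284 Cfsg.Agent.H419.EP Cfsg.Geo
open scoped MatrixGroups Kronecker

section prop

variable {κ₁ κ₂ ι : Type} [Fintype κ₁] [DecidableEq κ₁] [Fintype κ₂] [DecidableEq κ₂] [Fintype ι] [DecidableEq ι]
variable {F : Type*} [Field F]
variable {s : Matrix κ₁ κ₁ F →ₐ[F] Matrix ι ι F} {r : Matrix κ₂ κ₂ F →ₐ[F] Matrix ι ι F}

theorem TS.prop_right (h : TS s r) {u u1 : Matrix κ₁ κ₁ F} {v v1 : Matrix κ₂ κ₂ F} (e : s u * r v = s u1 * r v1)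
    (hu : u ≠ 0) : ∃ a : F, v = a • v1 := by
  obtain ⟨i, j, hij⟩ : ∃ i j, u i j ≠ 0 := by
    by_contra hc; push Not at hc; exact hu (by ext i j; exact hc i j)
  refine ⟨u1 i j / u i j, ?_⟩
  ext k l
  have := h.ind2 e i j k l
  rw [Matrix.smul_apply, smul_eq_mul]
  field_simp
  linear_combination this

theorem TS.prop_left (h : TS s r) {u u1 : Matrix κ₁ κ₁ F} {v v1 : Matrix κ₂ κ₂ F} (e : s u * r v = s u1 * r v1)
    (hv : v ≠ 0) : ∃ a : F, u = a • u1 :=
  h.symm.prop_right (by rw [← h.comm, ← h.comm, e]) hv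

theorem exists_mul_mul_ne {κ : Type} [Fintype κ] [DecidableEq κ] {a b : Matrix κ κ F} (ha : a ≠ 0) (hb : b ≠ 0) :
    ∃ y, a * y * b ≠ 0 := by
  obtain ⟨i, j, hij⟩ : ∃ i j, a i j ≠ 0 := by
    by_contra hc; push Not at hc; exact ha (by ext i j; exact hc i j)
  obtain ⟨k, l, hkl⟩ : ∃ i j, b i j ≠ 0 := by
    by_contra hc; push Not at hc; exact hb (by ext i j; exact hc i j)
  refine ⟨Matrix.single j k 1, fun h => ?_⟩
  have h1 := congrFun (congrFun h i) l
  rw [Matrix.mul_apply, Finset.sum_eq_single k] at h1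
  · rw [Matrix.mul_single_apply_same, mul_one] at h1
    exact mul_ne_zero hij hkl h1
  · intro z _ hz
    rw [Matrix.mul_single_apply_of_ne _ _ _ _ _ hz, zero_mul]
  · intro hk; exact absurd (Finset.mem_univ _) hk

theorem NonSc.exists_not_comm {κ : Type} [Fintype κ] [DecidableEq κ] {b : Matrix κ κ F} (hb : NonSc b) :
    ∃ v : Matrix κ κ F, v * b ≠ b * v := by
  by_contra hcon
  push Not at hcon
  have : b ∈ Set.range (Matrix.scalar κ : F →+* Matrix _ _ F) := by
    rw [Matrix.mem_range_scalar_iff_commute_single']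
    intro i j
    exact hcon _
  obtain ⟨c, hc⟩ := this
  exact hb c (by rw [← hc, Matrix.scalar_apply, Matrix.smul_one_eq_diagonal])

end prop

variable {ι : Type} [Fintype ι] [DecidableEq ι] {F : Type*} [Field F] {t m : ℕ}
variable {e : ι ≃ (Fin t → Fin m)} {P : GL ι F} {i0 i1 : Fin t}
variable {p : Matrix (Fin m) (Fin m) F} {b bi : Matrix (Fin m) (Fin m) F}

theorem sl_scalar {k l : Fin t} (hkl : k ≠ l) {u u' : Matrix (Fin m) (Fin m) F} (hone : (1 : Matrix (Fin m) (Fin m) F) ≠ 0)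
    (h : sl e P k u = sl e P l u') : ∃ a : F, u = a • 1 := by
  apply (ts_sl e P hkl).prop_left (v := 1) (v1 := u') _ hone
  rw [map_one, map_one, one_mul, mul_one, h]

theorem sl_inj {k : Fin t} (hone : (1 : Matrix (Fin m) (Fin m) F) ≠ 0) {l : Fin t} (hkl : k ≠ l)
    {u u' : Matrix (Fin m) (Fin m) F} (h : sl e P k u = sl e P k u') : u = u' :=
  (ts_sl e P hkl).inj_left hone h

section N

variable (h01 : i0 ≠ i1) (hp : p * p = p) (hp0 : p ≠ 0) (hp1 : p ≠ 1) (hb : NonSc b) {x : GL ι F}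
  (hx : (x : Matrix ι ι F) = sl e P i0 p * sl e P i1 b + sl e P i0 (1 - p))

include hp hx in
theorem qx : sl e P i0 (1 - p) * (x : Matrix ι ι F) = sl e P i0 (1 - p) := by
  have hqp : (1 - p) * p = 0 := by rw [sub_mul, one_mul, hp, sub_self]
  have hqq : (1 - p) * (1 - p) = 1 - p := by rw [mul_sub, hqp, mul_one, sub_zero]
  rw [hx, mul_add, ← mul_assoc, ← map_mul, ← map_mul, hqp, hqq, map_zero, zero_mul, zero_add]

include hp hx in
theorem px : sl e P i0 p * (x : Matrix ι ι F) = sl e P i0 p * sl e P i1 b := by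
  have hpq : p * (1 - p) = 0 := by rw [mul_sub, mul_one, hp, sub_self]
  rw [hx, mul_add, ← mul_assoc, ← map_mul, ← map_mul, hpq, hp, map_zero, add_zero]

include h01 hx in
theorem x_comm {l : Fin t} (h0 : l ≠ i0) (h1 : l ≠ i1) (u : Matrix (Fin m) (Fin m) F) :
    (x : Matrix ι ι F) * sl e P l u = sl e P l u * (x : Matrix ι ι F) := by
  rw [hx, add_mul, mul_add, mul_assoc, (ts_sl e P (Ne.symm h1)).comm, ← mul_assoc, (ts_sl e P (Ne.symm h0)).comm,
    mul_assoc, (ts_sl e P (Ne.symm h0)).comm]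

include h01 hp hp0 hp1 hb hx in
theorem N0 {l : Fin t} (H : ∀ u, ∃ u', sl e P i0 u * (x : Matrix ι ι F) = (x : Matrix ι ι F) * sl e P l u') : False := by
  have hT := ts_sl e P h01
  have hq0 : (1 - p) ≠ 0 := sub_ne_zero.2 (Ne.symm hp1)
  have hqp : (1 - p) * p = 0 := by rw [sub_mul, one_mul, hp, sub_self]
  have hpq : p * (1 - p) = 0 := by rw [mul_sub, mul_one, hp, sub_self]
  have hqq : (1 - p) * (1 - p) = 1 - p := by rw [mul_sub, hqp, mul_one, sub_zero]
  obtain ⟨E0, hE0⟩ := exists_mul_mul_ne hq0 hp0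
  set E := (1 - p) * E0 * p with hE
  have h1 : E * p = E := by rw [hE, mul_assoc, hp]
  have h2 : (1 - p) * E = E := by rw [hE, ← mul_assoc, ← mul_assoc, hqq]
  have h3 : E * (1 - p) = 0 := by rw [mul_sub, mul_one, h1, sub_self]
  have h4 : E * E = 0 := by
    calc E * E = (E * p) * ((1 - p) * E) := by rw [h1, h2]
      _ = 0 := by rw [mul_assoc, ← mul_assoc p, hpq, zero_mul, mul_zero]
  have hone : (1 : Matrix (Fin m) (Fin m) F) ≠ 0 := hb.one_ne
  obtain ⟨u', hu'⟩ := H E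
  have hEx : sl e P i0 E * (x : Matrix ι ι F) = sl e P i0 E * sl e P i1 b := by
    rw [hx, mul_add, ← mul_assoc, ← map_mul, ← map_mul, h1, h3, map_zero, add_zero]
  have h5 : sl e P i0 E * sl e P i1 b = sl e P i0 (1 - p) * sl e P l u' := by
    calc sl e P i0 E * sl e P i1 b = sl e P i0 (1 - p) * (sl e P i0 E * (x : Matrix ι ι F)) := by
          rw [hEx, ← mul_assoc, ← map_mul, h2]
      _ = sl e P i0 (1 - p) * sl e P l u' := by rw [hu', ← mul_assoc, qx hp hx]
  by_cases hl0 : l = i0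
  · rw [hl0, ← map_mul] at h5
    obtain ⟨a, ha⟩ := hT.prop_right (u1 := (1 - p) * u') (v1 := 1) (by rw [h5, map_one, mul_one]) hE0
    exact hb a ha
  by_cases hl1 : l = i1
  · rw [hl1] at h5
    obtain ⟨a, ha⟩ := hT.prop_left h5 (fun h0 => hb 0 (by rw [h0, zero_smul]))
    apply hE0
    calc E = E * p := h1.symm
      _ = 0 := by rw [ha, Matrix.smul_mul, hqp, smul_zero]
  · rw [x_comm h01 hx hl0 hl1] at hu'
    have h6 : sl e P i0 E = sl e P l u' := by
      have := congrArg (fun y => y * ((x⁻¹ : GL ι F) : Matrix ι ι F)) hu'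
      simpa only [mul_assoc, _root_.Matrix.coe_units_inv, _root_.Matrix.mul_inv_of_invertible, _root_.mul_one] using this
    obtain ⟨a, ha⟩ := sl_scalar (Ne.symm hl0) hone h6
    rw [ha, Matrix.smul_mul, one_mul, smul_smul] at h4
    have ha0 : a = 0 := mul_self_eq_zero.1 ((smul_eq_zero.1 h4).resolve_right hone)
    apply hE0
    rw [ha, ha0, zero_smul]

include h01 hp hp1 hx in
theorem N1' {v v' : Matrix (Fin m) (Fin m) F}
    (H : sl e P i1 v * (x : Matrix ι ι F) = (x : Matrix ι ι F) * sl e P i0 v') : ∃ a : F, v = a • 1 := by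
  have hT := ts_sl e P h01
  have hq0 : (1 - p) ≠ 0 := sub_ne_zero.2 (Ne.symm hp1)
  refine hT.prop_right (u := 1 - p) (u1 := (1 - p) * v') ?_ hq0
  calc sl e P i0 (1 - p) * sl e P i1 v = sl e P i0 (1 - p) * (x : Matrix ι ι F) * sl e P i1 v := by rw [qx hp hx]
    _ = sl e P i0 (1 - p) * (sl e P i1 v * (x : Matrix ι ι F)) := by
      rw [← mul_assoc, hT.comm (1 - p) v, mul_assoc (sl e P i1 v), qx hp hx]
      exact hT.comm _ _
    _ = sl e P i0 ((1 - p) * v') * sl e P i1 1 := by rw [H, ← mul_assoc, qx hp hx, ← map_mul, map_one, mul_one]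

include h01 hp hp0 hp1 hb hx in
theorem N1 {l : Fin t} (H : ∀ v, ∃ v', sl e P i1 v * (x : Matrix ι ι F) = (x : Matrix ι ι F) * sl e P l v') : False := by
  have hT := ts_sl e P h01
  have hq0 : (1 - p) ≠ 0 := sub_ne_zero.2 (Ne.symm hp1)
  have hone : (1 : Matrix (Fin m) (Fin m) F) ≠ 0 := hb.one_ne
  obtain ⟨v, hv⟩ := hb.exists_not_comm
  have hvs : ∀ a : F, v ≠ a • 1 := by
    rintro a rfl
    apply hv
    rw [Matrix.smul_mul, Matrix.mul_smul, one_mul, mul_one]
  obtain ⟨v', hv'⟩ := H v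
  by_cases hl0 : l = i0
  · rw [hl0] at hv'
    obtain ⟨a, ha⟩ := N1' h01 hp hp1 hx hv'
    exact hvs a ha
  by_cases hl1 : l = i1
  · rw [hl1] at hv'
    have h1 : v = v' := by
      have e1 : sl e P i0 (1 - p) * sl e P i1 (v - v') = 0 := by
        have h2 : sl e P i0 (1 - p) * (sl e P i1 v * (x : Matrix ι ι F)) = sl e P i0 (1 - p) * sl e P i1 v := by
          rw [← mul_assoc, hT.comm, mul_assoc, qx hp hx, ← hT.comm]
        rw [map_sub (sl e P i1) v v', mul_sub, ← h2, hv', ← mul_assoc, qx hp hx, sub_self]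
      rcases hT.ind1 e1 with h3 | h3
      · exact absurd h3 hq0
      · exact sub_eq_zero.1 h3
    have e1 : sl e P i0 p * sl e P i1 (v * b - b * v) = 0 := by
      have h2 : sl e P i0 p * (sl e P i1 v * (x : Matrix ι ι F)) = sl e P i0 p * sl e P i1 (v * b) := by
        rw [← mul_assoc, hT.comm, mul_assoc, px hp hx, ← mul_assoc, ← hT.comm, mul_assoc, ← map_mul]
      have h3 : sl e P i0 p * ((x : Matrix ι ι F) * sl e P i1 v') = sl e P i0 p * sl e P i1 (b * v') := by
        rw [← mul_assoc, px hp hx, mul_assoc, ← map_mul]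
      rw [map_sub (sl e P i1), mul_sub, ← h2, hv', h3, h1, sub_self]
    rcases hT.ind1 e1 with h3 | h3
    · exact hp0 h3
    · exact hv (sub_eq_zero.1 h3)
  · rw [x_comm h01 hx hl0 hl1] at hv'
    have h6 : sl e P i1 v = sl e P l v' := by
      have := congrArg (fun y => y * ((x⁻¹ : GL ι F) : Matrix ι ι F)) hv'
      simpa only [mul_assoc, _root_.Matrix.coe_units_inv, _root_.Matrix.mul_inv_of_invertible, _root_.mul_one] using this
    obtain ⟨a, ha⟩ := sl_scalar (Ne.symm hl1) hone h6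
    exact hvs a ha

include h01 hp hp0 hp1 hb hx in
theorem N0' {v u' : Matrix (Fin m) (Fin m) F}
    (H : sl e P i0 v * (x : Matrix ι ι F) = (x : Matrix ι ι F) * sl e P i1 u') : ∃ a : F, v = a • 1 := by
  have hT := ts_sl e P h01
  have hq0 : (1 - p) ≠ 0 := sub_ne_zero.2 (Ne.symm hp1)
  have hqp : (1 - p) * p = 0 := by rw [sub_mul, one_mul, hp, sub_self]
  have hpq : p * (1 - p) = 0 := by rw [mul_sub, mul_one, hp, sub_self]
  have hqq : (1 - p) * (1 - p) = 1 - p := by rw [mul_sub, hqp, mul_one, sub_zero]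
  have h1 : sl e P i0 (1 - p) * sl e P i1 u' =
      sl e P i0 ((1 - p) * v * p) * sl e P i1 b + sl e P i0 ((1 - p) * v * (1 - p)) * sl e P i1 1 := by
    calc sl e P i0 (1 - p) * sl e P i1 u' = sl e P i0 (1 - p) * (sl e P i0 v * (x : Matrix ι ι F)) := by
          rw [H, ← mul_assoc, qx hp hx]
      _ = _ := by rw [hx, mul_add, mul_add, map_one, mul_one]; simp only [← mul_assoc, ← map_mul]
  obtain ⟨a, c, h2, h3, h4⟩ := hT.key h1 hq0 hb.lin
  have ha : a = 0 := by
    have h5 : a • (1 - p) = 0 := by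
      calc a • (1 - p) = (a • (1 - p)) * (1 - p) := by rw [Matrix.smul_mul, hqq]
        _ = 0 := by rw [← h2, mul_assoc, hpq, mul_zero]
    exact (smul_eq_zero.1 h5).resolve_right hq0
  rw [ha, zero_smul, zero_add] at h4
  rw [h4, map_smul, map_one, Matrix.mul_smul, mul_one] at H
  refine ⟨c, sl_inj (e := e) (P := P) hb.one_ne h01 ?_⟩
  have := congrArg (fun y => y * ((x⁻¹ : GL ι F) : Matrix ι ι F)) H
  rw [map_smul, map_one]
  simpa only [mul_assoc, _root_.Matrix.coe_units_inv, _root_.Matrix.mul_inv_of_invertible, _root_.mul_one, _root_.Algebra.smul_mul_assoc] using this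

end N

end Cfsg.Agent.H487.EP
end

-- part: H487/EP/Wreath3
section
/-!
# S3499: the kill for stabilisers of tensor decompositions with equal factors, final part (helper487)
-/

set_option autoImplicit false
set_option linter.unusedSectionVars false

namespace Cfsg.Agent.H487.EP

open Matrix Subgroup Cfsg.Agent.H284 Cfsg.Agent.H419.EP Cfsg.Geo
open scoped MatrixGroups Kronecker

variable {ι : Type} [Fintype ι] [DecidableEq ι] {F : Type*} [Field F] {t m : ℕ}
variable {e : ι ≃ (Fin t → Fin m)} {P : GL ι F} {i0 i1 : Fin t}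
variable {p : Matrix (Fin m) (Fin m) F} {b bi : Matrix (Fin m) (Fin m) F}

theorem comm_of_cjm {g : GL ι F} {y z : Matrix ι ι F} (h : cjm g y = z) : (g : Matrix ι ι F) * y = z * (g : Matrix ι ι F) := by
  rw [← h, cjm, mul_assoc, Units.inv_mul, mul_one]

theorem cjm_of_comm {g : GL ι F} {y z : Matrix ι ι F} (h : (g : Matrix ι ι F) * y = z * (g : Matrix ι ι F)) :
    cjm g y = z := by
  rw [cjm, h, mul_assoc, Units.mul_inv, mul_one]

set_option maxHeartbeats 1000000 in
/-- **the elements of `M ∩ M^x`** -/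
theorem wreath_types (h01 : i0 ≠ i1) (hp : p * p = p) (hp0 : p ≠ 0) (hp1 : p ≠ 1) (hbi : b * bi = 1) (hb : NonSc b)
    (hR : ∀ (k l : F) (q : Matrix (Fin m) (Fin m) F), q * q = q → b ≠ k • (1 - q) + l • q) {x g : GL ι F}
    (hx : (x : Matrix ι ι F) = sl e P i0 p * sl e P i1 b + sl e P i0 (1 - p))
    (hg : g ∈ tensorWreathSubgroup m t e P) (hgx : x⁻¹ * g * x ∈ tensorWreathSubgroup m t e P) :
    ∃ (a₁ a₂ : GL (Fin m) F), Acts (sl e P i0) (sl e P i1) g a₁ a₂ ∧
      ((cjm a₁ p = p ∧ ∃ k : F, k ≠ 0 ∧ cjm a₂ b = k • b) ∨ (cjm a₁ p = 1 - p ∧ ∃ k : F, k ≠ 0 ∧ cjm a₂ b = k • bi)) := by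
  have hT := ts_sl e P h01
  have hone : (1 : Matrix (Fin m) (Fin m) F) ≠ 0 := hb.one_ne
  obtain ⟨π, a, hπ⟩ := wreath_acts hg
  have hY : x⁻¹ * g * x * g⁻¹ ∈ tensorWreathSubgroup m t e P := mul_mem hgx (inv_mem hg)
  set Y := x⁻¹ * g * x * g⁻¹ with hYdef
  obtain ⟨ρ, c, hρ⟩ := wreath_acts hY
  -- `X = g x g⁻¹ = x Y`
  set! X : Matrix ι ι F := cjm g (x : Matrix ι ι F) with hXdef
  have hxY : (x : Matrix ι ι F) * (Y : Matrix ι ι F) = X := by
    rw [← Units.val_mul, hYdef, show x * (x⁻¹ * g * x * g⁻¹) = g * x * g⁻¹ by group]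
    rfl
  have hXv : X = sl e P (π i0) (cjm (a i0) p) * sl e P (π i1) (cjm (a i1) b) + sl e P (π i0) (1 - cjm (a i0) p) := by
    rw [hXdef, hx, cjm_add, cjm_mul, hπ, hπ, hπ, cjm_sub, cjm_one]
  have hπ01 : π i0 ≠ π i1 := fun h => h01 (π.injective h)
  -- transfer
  have hL : ∀ (k : Fin t) (u : Matrix (Fin m) (Fin m) F), X * sl e P k u = sl e P k u * X →
      sl e P k u * (x : Matrix ι ι F) = (x : Matrix ι ι F) * sl e P (ρ k) (cjm (c k) u) := by
    intro k u hu
    have h1 := comm_of_cjm (hρ k u)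
    rw [← hxY] at hu
    have h2 : (sl e P k u * (x : Matrix ι ι F)) * (Y : Matrix ι ι F) =
        ((x : Matrix ι ι F) * sl e P (ρ k) (cjm (c k) u)) * (Y : Matrix ι ι F) := by
      rw [mul_assoc, ← hu, mul_assoc, h1, mul_assoc]
    have := congrArg (fun y => y * ((Y⁻¹ : GL ι F) : Matrix ι ι F)) h2
    simpa only [mul_assoc, Units.mul_inv, mul_one] using this
  -- commutation with `X`
  have hXc : ∀ (k : Fin t), k ≠ π i0 → k ≠ π i1 → ∀ u, X * sl e P k u = sl e P k u * X := by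
    intro k h0 h1 u
    rw [hXv, add_mul, mul_add, mul_assoc, (ts_sl e P (Ne.symm h1)).comm, ← mul_assoc, (ts_sl e P (Ne.symm h0)).comm,
      mul_assoc, (ts_sl e P (Ne.symm h0)).comm]
  have hs0 : i0 = π i0 ∨ i0 = π i1 := by
    by_contra hcon
    push Not at hcon
    exact N0 h01 hp hp0 hp1 hb hx (l := ρ i0) fun u => ⟨_, hL i0 u (hXc i0 hcon.1 hcon.2 u)⟩
  have hs1 : i1 = π i0 ∨ i1 = π i1 := by
    by_contra hcon
    push Not at hcon
    exact N1 h01 hp hp0 hp1 hb hx (l := ρ i1) fun u => ⟨_, hL i1 u (hXc i1 hcon.1 hcon.2 u)⟩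
  -- the other slots
  have hk : ∀ k, k ≠ i0 → k ≠ i1 → k ≠ π i0 ∧ k ≠ π i1 := by
    intro k h0 h1
    rcases hs0 with h2 | h2
    · rcases hs1 with h3 | h3
      · exact absurd (h2.trans h3.symm) h01
      · exact ⟨by rw [← h2]; exact h0, by rw [← h3]; exact h1⟩
    · rcases hs1 with h3 | h3
      · exact ⟨by rw [← h3]; exact h1, by rw [← h2]; exact h0⟩
      · exact absurd (h2.trans h3.symm) h01
  have hρk : ∀ k, k ≠ i0 → k ≠ i1 → ∀ u, sl e P k u = sl e P (ρ k) (cjm (c k) u) := by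
    intro k h0 h1 u
    have h2 := hL k u (hXc k (hk k h0 h1).1 (hk k h0 h1).2 u)
    rw [← x_comm h01 hx h0 h1] at h2
    have := congrArg (fun y => ((x⁻¹ : GL ι F) : Matrix ι ι F) * y) h2
    simpa only [← mul_assoc, Units.inv_mul, one_mul] using this
  have hρ1 : ∀ k, k ≠ i0 → k ≠ i1 → ρ k = k := by
    intro k h0 h1
    by_contra hne
    obtain ⟨z, hz⟩ := sl_scalar (Ne.symm hne) hone (hρk k h0 h1 b)
    exact hb z hz
  have hρ0 : ρ i0 = i0 ∨ ρ i0 = i1 := by
    by_contra hcon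
    push Not at hcon
    have := hρ1 (ρ i0) hcon.1 hcon.2
    exact hcon.1 (ρ.injective this)
  have hρ1' : ρ i1 = i0 ∨ ρ i1 = i1 := by
    by_contra hcon
    push Not at hcon
    have := hρ1 (ρ i1) hcon.1 hcon.2
    exact hcon.2 (ρ.injective this)
  -- if `ρ i0 = i0` then `Y` is a pure tensor
  have hpure : ρ i0 = i0 → ∃ c' d' : Matrix (Fin m) (Fin m) F, IsUnit c' ∧ IsUnit d' ∧
      (Y : Matrix ι ι F) = sl e P i0 c' * sl e P i1 d' := by
    intro h0
    have h1 : ρ i1 = i1 := by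
      rcases hρ1' with h | h
      · exact absurd (ρ.injective (h.trans h0.symm)) (Ne.symm h01)
      · exact h
    set! Z : Matrix ι ι F := sl e P i0 ((c i0)⁻¹ : GL (Fin m) F).val * sl e P i1 ((c i1)⁻¹ : GL (Fin m) F).val *
      (Y : Matrix ι ι F) with hZ
    have hcc : ∀ (g' : GL (Fin m) F) (u : Matrix (Fin m) (Fin m) F), (g'⁻¹ : GL (Fin m) F).val * cjm g' u =
        u * (g'⁻¹ : GL (Fin m) F).val := by
      intro g' u
      rw [cjm, ← mul_assoc, ← mul_assoc, Units.inv_mul, one_mul]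
    obtain ⟨l, hl⟩ := scalar_of_sl (e := e) (P := P) Z (by
      intro k u
      by_cases hk0 : k = i0
      · subst hk0
        have h2 := comm_of_cjm (hρ k u)
        rw [h0] at h2
        rw [hZ, mul_assoc, h2, ← mul_assoc, mul_assoc (sl e P k ((c k)⁻¹ : GL (Fin m) F).val), ← hT.comm, ← mul_assoc,
          ← map_mul, hcc, map_mul]
        simp only [mul_assoc]
      by_cases hk1 : k = i1
      · subst hk1
        have h2 := comm_of_cjm (hρ k u)
        rw [h1] at h2
        rw [hZ, mul_assoc, h2, ← mul_assoc, mul_assoc (sl e P i0 ((c i0)⁻¹ : GL (Fin m) F).val), ← map_mul, hcc, map_mul,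
          ← mul_assoc, hT.comm]
        simp only [mul_assoc]
      · have h2 := comm_of_cjm (hρ k u)
        rw [← hρk k hk0 hk1 u] at h2
        rw [hZ, mul_assoc, h2, ← mul_assoc, mul_assoc (sl e P i0 ((c i0)⁻¹ : GL (Fin m) F).val),
          (ts_sl e P (Ne.symm hk1)).comm, ← mul_assoc, (ts_sl e P (Ne.symm hk0)).comm]
        simp only [mul_assoc])
    have hYZ : (Y : Matrix ι ι F) = sl e P i0 (c i0 : Matrix (Fin m) (Fin m) F) * sl e P i1 (c i1 : Matrix (Fin m) (Fin m) F) * Z := by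
      rw [hZ]
      have h2 : sl e P i0 (c i0 : Matrix (Fin m) (Fin m) F) * sl e P i1 (c i1 : Matrix (Fin m) (Fin m) F) *
          (sl e P i0 ((c i0)⁻¹ : GL (Fin m) F).val * sl e P i1 ((c i1)⁻¹ : GL (Fin m) F).val) = 1 := by
        rw [mul_assoc, ← mul_assoc (sl e P i1 _), ← hT.comm, mul_assoc, ← map_mul, Units.mul_inv, map_one, mul_one,
          ← map_mul, Units.mul_inv, map_one]
      rw [← mul_assoc, h2, one_mul]
    have hl0 : l ≠ 0 := by
      rintro rfl
      rw [zero_smul] at hl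
      rw [hl, mul_zero] at hYZ
      have h3 : (1 : Matrix ι ι F) = 0 := by
        rw [← Units.mul_inv Y, hYZ, zero_mul]
      have h4 := (hT.ind1 (u := 1) (v := 1) (by rw [map_one, map_one, one_mul, h3]))
      rcases h4 with h4 | h4 <;> exact hone h4
    refine ⟨l • (c i0 : Matrix (Fin m) (Fin m) F), (c i1 : Matrix (Fin m) (Fin m) F), ?_, (c i1).isUnit, ?_⟩
    · exact (Units.mk0 l hl0 • c i0).isUnit
    · rw [hYZ, hl, map_smul, Matrix.mul_smul, mul_one, Matrix.smul_mul]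
  have hp' : cjm (a i0) p * cjm (a i0) p = cjm (a i0) p := by rw [← cjm_mul, hp]
  rcases hs0 with h2 | h2
  · -- `π` fixes `i0` and `i1`
    have h3 : i1 = π i1 := by
      rcases hs1 with h | h
      · exact absurd (h2.trans h.symm) h01
      · exact h
    have hact : Acts (sl e P i0) (sl e P i1) g (a i0) (a i1) :=
      ⟨fun u => by rw [hπ, ← h2], fun u => by rw [hπ, ← h3]⟩
    refine ⟨a i0, a i1, hact, ?_⟩
    rw [← h2, ← h3] at hXv
    rcases hρ0 with h4 | h4
    · obtain ⟨c', d', hc', hd', hYv⟩ := hpure h4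
      rw [hYv, hXv, hx] at hxY
      exact hT.lemA hp hp0 hp1 hbi hp' (cjm_ne_zero _ hp0) (cjm_ne_one _ hp1) (hb.cjm _) hc' hd' hxY
    · exfalso
      have h5 : ρ i1 = i0 := by
        rcases hρ1' with h | h
        · exact h
        · exact absurd (ρ.injective (h.trans h4.symm)) (Ne.symm h01)
      have h6 := hL i1 (cjm (a i1) b) (by
        rw [hXv, add_mul, mul_add, mul_assoc, ← mul_assoc (sl e P i1 (cjm (a i1) b)) (sl e P i0 (cjm (a i0) p)),
          ← hT.comm, mul_assoc, hT.comm (1 - cjm (a i0) p)])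
      rw [h5] at h6
      obtain ⟨z, hz⟩ := N1' h01 hp hp1 hx h6
      exact (hb.cjm _) z hz
  · exfalso
    have h3 : i1 = π i0 := by
      rcases hs1 with h | h
      · exact h
      · exact absurd (h2.trans h.symm) h01
    rw [← h2, ← h3] at hXv
    rcases hρ0 with h4 | h4
    · obtain ⟨c', d', hc', hd', hYv⟩ := hpure h4
      rw [hYv, hXv, hx] at hxY
      obtain ⟨k, l, hkl⟩ := hT.lemB hp hp0 hp1 hp' (cjm_ne_zero _ hp0) (cjm_ne_one _ hp1) hc' hxY
      apply hR k l (cjm (a i1)⁻¹ p) (by rw [← cjm_mul, hp])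
      rw [← cjm_inv_self (a i1) b, hkl, cjm_add, cjm_smul, cjm_smul, cjm_sub, cjm_one]
    · have h6 := hL i0 (cjm (a i1) b) (by
        rw [hXv, add_mul, mul_add, hT.comm (cjm (a i1) b) (1 - cjm (a i0) p), ← hT.comm, ← mul_assoc]
        (with_reducible congr 1)
        rw [mul_assoc, mul_assoc, hT.comm])
      rw [h4] at h6
      obtain ⟨z, hz⟩ := N0' h01 hp hp0 hp1 hb hx h6
      exact (hb.cjm _) z hz

variable {Q : Type*} [Group Q] [Finite Q] {A : Subgroup Q} {Γ : Subgroup (MulAut Q)}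

/-- **The kill for tensor decompositions with equal factors** -/
theorem kill_wreath (h : EPT A Γ) {S : Subgroup (GL ι F)} (mo : Model Q S) (e : ι ≃ (Fin t → Fin m)) (P : GL ι F)
    (hA : mo.hat A = tensorWreathSubgroup m t e P ⊓ S) (h01 : i0 ≠ i1)
    (hp : p * p = p) (hp0 : p ≠ 0) (hp1 : p ≠ 1) {c : GL (Fin m) F} (hbc : BC b bi c)
    (hR : ∀ (k l : F) (q : Matrix (Fin m) (Fin m) F), q * q = q → b ≠ k • (1 - q) + l • q)
    {x : GL ι F} (hxS : x ∈ S) (hxv : (x : Matrix ι ι F) = sl e P i0 p * sl e P i1 b + sl e P i0 (1 - p))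
    {w : GL ι F} (hwS : w ∈ S) {c₁ : GL (Fin m) F} (hcp : cjm c₁ p = p)
    (hwv : (w : Matrix ι ι F) = sl e P i0 (c₁ : Matrix (Fin m) (Fin m) F) * sl e P i1 (c : Matrix (Fin m) (Fin m) F)) :
    False :=
  kill_two h mo hA (ts_sl e P h01) hp hp0 hbc hxS hxv (fun u v _ hg => pure_mem h01 u v hg)
    (fun _ hg hgx => wreath_types h01 hp hp0 hp1 hbc.mbi hbc.nonSc hR hxv hg hgx)
    (pure_mem h01 c₁ c hwv) hwS (Acts.of_pure (ts_sl e P h01) hwv) hcp

/-- `1 + N`, `N ≠ 0` nilpotent, is not of the form `k (1 - q) + l q` -/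
theorem unip_ne {κ : Type} [Fintype κ] [DecidableEq κ] {N : Matrix κ κ F} (hN : IsNilpotent N) (hN0 : N ≠ 0) (k l : F)
    (q : Matrix κ κ F) (hq : q * q = q) : 1 + N ≠ k • (1 - q) + l • q := by
  intro h
  have hN1 : N = (k - 1) • (1 - q) + (l - 1) • q := by
    rw [sub_smul, sub_smul, one_smul, one_smul]
    have : N = k • (1 - q) + l • q - 1 := by rw [← h]; abel
    rw [this]
    abel
  have h1 : (1 - q) * q = 0 := by rw [sub_mul, one_mul, hq, sub_self]
  have h2 : q * (1 - q) = 0 := by rw [mul_sub, mul_one, hq, sub_self]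
  have h3 : (1 - q) * (1 - q) = 1 - q := by rw [mul_sub, h1, mul_one, sub_zero]
  have hpow : ∀ n : ℕ, N ^ (n + 1) = (k - 1) ^ (n + 1) • (1 - q) + (l - 1) ^ (n + 1) • q := by
    intro n
    induction n with
    | zero => simpa using hN1
    | succ n ih =>
      rw [pow_succ, ih, hN1]
      simp only [add_mul, mul_add, Matrix.smul_mul, Matrix.mul_smul, h1, h2, h3, hq, smul_zero, add_zero, zero_add,
        smul_smul, pow_succ]
      congr 1 <;> congr 1 <;> ring
  obtain ⟨n, hn⟩ := hN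
  have hn' : N ^ (n + 1) = 0 := by rw [pow_succ, hn, zero_mul]
  rw [hpow n] at hn'
  have h4 : (k - 1) ^ (n + 1) • (1 - q) = 0 := by
    have := congrArg (fun y => (1 - q) * y) hn'
    simpa [mul_add, Matrix.mul_smul, h1, h3] using this
  have h5 : (l - 1) ^ (n + 1) • q = 0 := by rw [h4, zero_add] at hn'; exact hn'
  apply hN0
  rw [hN1]
  have h6 : (k - 1) • (1 - q) = 0 := by
    rcases smul_eq_zero.1 h4 with h7 | h7
    · rw [pow_eq_zero_iff (by omega)] at h7
      rw [h7, zero_smul]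
    · rw [h7, smul_zero]
  have h7 : (l - 1) • q = 0 := by
    rcases smul_eq_zero.1 h5 with h7 | h7
    · rw [pow_eq_zero_iff (by omega)] at h7
      rw [h7, zero_smul]
    · rw [h7, smul_zero]
  rw [h6, h7, add_zero]

end Cfsg.Agent.H487.EP
end

private theorem dce_0455c956425b : _root_.True := by
  try have : _root_.True := by simp only [_root_.Cfsg.Agent.H487.EP.cjm.eq_1]
  exact _root_.True.intro
end

-- part: H523/EP/Fit_mg
section
prune_inst 0x4502004202202000000808631201c62860004b2004b0800c003004004c1cc2049822e60822021174a00880520310060020000800040000004200000011d01a08000420013000104060089000000000000000000000000000000000000000000200000002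
set_option linter.all false
open scoped Cfsg.Agent.FastGrp

-- part: H523/EP/Fit
section
/-!
# S3499: the Fitting subgroup of `A` (helper523)
-/

set_option autoImplicit false


namespace Cfsg.Agent.H523.EP

open Subgroup Cfsg.Agent.H284 Cfsg.Agent.H419.EP

section

theorem ab_nil {G : Type*} [Group G] (hc : ∀ a b : G, a * b = b * a) : Group.IsNilpotent G := by
  letI : CommGroup G := { (inferInstance : Group G) with mul_comm := hc }
  exact CommGroup.isNilpotent

variable {Q : Type*} [Group Q] {A : Subgroup Q} {Γ : Subgroup (MulAut Q)}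

/-- a characteristic subgroup of `A` is invariant under `Γ` -/
theorem char_inv (h : EPT A Γ) (K : Subgroup A) (hK : K.Characteristic) :
    ∀ σ ∈ Γ, ∀ k ∈ K.map A.subtype, σ k ∈ K.map A.subtype := by
  intro σ hσ
  have hs : ∀ a : A, σ a ∈ A := fun a => (h.inv σ hσ a).2 a.2
  have hs' : ∀ a : A, σ⁻¹ a ∈ A := fun a => (h.inv σ⁻¹ (Γ.inv_mem hσ) a).2 a.2
  let τ : A ≃* A :=
    { toFun := fun a => ⟨σ a, hs a⟩
      invFun := fun a => ⟨σ⁻¹ a, hs' a⟩
      left_inv := fun a => Subtype.ext (MulEquiv.symm_apply_apply σ (a : Q))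
      right_inv := fun a => Subtype.ext (MulEquiv.apply_symm_apply σ (a : Q))
      map_mul' := fun a b => Subtype.ext (map_mul σ _ _) }
  have hτ : K.map τ.toMonoidHom = K := Subgroup.characteristic_iff_map_eq.1 hK τ
  rintro _ ⟨k, hk, rfl⟩
  refine ⟨τ k, ?_, rfl⟩
  rw [SetLike.mem_coe, ← hτ]
  exact ⟨k, hk, rfl⟩

/-- an element `z ≠ 1` of a nilpotent normal subgroup `N` of `A` lies in no other conjugate of `A` -/
theorem fit_kill [Finite Q] (h : EPT A Γ) {N : Subgroup Q} (hNA : N ≤ A) (hNn : ∀ a ∈ A, ∀ n ∈ N, a * n * a⁻¹ ∈ N)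
    (hNil : Group.IsNilpotent N) {z x : Q} (hz : z ∈ N) (hz1 : z ≠ 1) (hx : x ∉ A) : z ∉ cj x A := by
  intro hzx
  have hN : (N.subgroupOf A).Normal := ⟨by
    rintro ⟨n, hn'⟩ hn ⟨a, ha⟩
    exact hNn a ha n hn⟩
  have hNil' : Group.IsNilpotent (N.subgroupOf A) :=
    Group.nilpotent_of_mulEquiv (Subgroup.subgroupOfEquivOfLe hNA).symm
  have h1 : N.subgroupOf A ≤ Cfsg.fittingSubgroup A := Lib.Cores.le_fittingSubgroup hN hNil'
  have hzK : z ∈ (Cfsg.fittingSubgroup A).map A.subtype := ⟨⟨z, hNA hz⟩, h1 hz, rfl⟩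
  have hKnil : Group.IsNilpotent ((Cfsg.fittingSubgroup A).map A.subtype) := by
    have := Lib.Cores.fittingSubgroup_isNilpotent (G := A)
    exact Group.nilpotent_of_mulEquiv ((Cfsg.fittingSubgroup A).equivMapOfInjective _ A.subtype_injective)
  have h2 := h.nilp ((Cfsg.fittingSubgroup A).map A.subtype) (Subgroup.map_subtype_le _)
    (char_inv h _ Lib.Cores.fittingSubgroup_characteristic) hKnil ?_
  · have h3 := (h2.2.2.2.1 x hx).1
    apply hz1
    rw [← Subgroup.mem_bot, ← h3]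
    exact ⟨hzK, hzx⟩
  · intro e
    rw [e, Subgroup.mem_bot] at hzK
    exact hz1 hzK

end

section model

variable {Q : Type*} [Group Q] [Finite Q] {A : Subgroup Q} {Γ : Subgroup (MulAut Q)} (h : EPT A Γ)
variable {ι : Type} [Fintype ι] [DecidableEq ι] {F : Type*} [Field F] {S : Subgroup (GL ι F)} (m : Model Q S)

include h

/-- an abelian normal subgroup `R` of `Â`, `z ∈ R` not scalar : `z` lies in no other conjugate of `Â` -/
theorem fit_kill_hat {R : Subgroup (GL ι F)} (hRA : R ≤ m.hat A) (hRn : ∀ a ∈ m.hat A, ∀ n ∈ R, a * n * a⁻¹ ∈ R)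
    (hRab : ∀ a ∈ R, ∀ b ∈ R, a * b = b * a) {z x : GL ι F} (hz : z ∈ R) (hz1 : z ∉ Cfsg.Geo.scalars ι F)
    (hxS : x ∈ S) (hx : x ∉ m.hat A) : x⁻¹ * z * x ∉ m.hat A := by
  intro hzx
  have hRS : R ≤ S := hRA.trans (m.hat_le A)
  have hx' : m.π ⟨x, hxS⟩ ∉ A := fun e => hx ((m.mem_hat_iff ⟨x, hxS⟩).2 e)
  refine fit_kill h (N := (R.subgroupOf S).map m.π) ?_ ?_ ?_ (z := m.π ⟨z, hRS hz⟩) (x := m.π ⟨x, hxS⟩) ?_ ?_ hx' ?_
  · rintro _ ⟨r, hr, rfl⟩
    exact (m.mem_hat_iff r).1 (hRA hr)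
  · rintro a ha _ ⟨r, hr, rfl⟩
    obtain ⟨s, rfl⟩ := m.surj a
    refine ⟨s * r * s⁻¹, hRn s ((m.mem_hat_iff s).2 ha) r hr, ?_⟩
    rw [map_mul, map_mul, map_inv]
  · have hc : IsMulCommutative ((R.subgroupOf S).map m.π) := ⟨⟨by
      rintro ⟨_, r, hr, rfl⟩ ⟨_, t, ht, rfl⟩
      apply Subtype.ext
      show m.π r * m.π t = m.π t * m.π r
      rw [← map_mul, ← map_mul]
      congr 1
      exact Subtype.ext (hRab r hr t ht)⟩⟩
    exact ab_nil hc.is_comm.comm
  · exact ⟨⟨z, hRS hz⟩, hz, rfl⟩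
  · intro e
    exact hz1 ((m.ker _).1 e)
  · obtain ⟨hg, h1⟩ := m.mem_hat.1 hzx
    have e : (⟨x⁻¹ * z * x, hg⟩ : S) = ⟨x, hxS⟩⁻¹ * ⟨z, hRS hz⟩ * ⟨x, hxS⟩ := rfl
    rw [e, map_mul, map_mul, map_inv] at h1
    rw [mem_cj]
    exact h1

/-- **(F3)** for the whole two point stabiliser: an element of `Â` normalising `Â ∩ Â^x` lies in `Â^x` -/
theorem norm_hat {x g : GL ι F} (hxS : x ∈ S) (hx : x ∉ m.hat A) (hg : g ∈ m.hat A)
    (hgK : ∀ k ∈ m.hat A, x⁻¹ * k * x ∈ m.hat A → x⁻¹ * (g * k * g⁻¹) * x ∈ m.hat A) : x⁻¹ * g * x ∈ m.hat A := by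
  have hx' : m.π ⟨x, hxS⟩ ∉ A := fun e => hx ((m.mem_hat_iff ⟨x, hxS⟩).2 e)
  obtain ⟨hgS, hgA⟩ := m.mem_hat.1 hg
  have h1 := h.norm_aut hx' (K := A ⊓ cj (m.π ⟨x, hxS⟩) A) le_rfl (fun σ hσ => hσ) (h.M0 _ hx') hgA ?_
  · rw [mem_cj] at h1
    refine m.mem_hat.2 ⟨S.mul_mem (S.mul_mem (S.inv_mem hxS) hgS) hxS, ?_⟩
    have e : (⟨x⁻¹ * g * x, S.mul_mem (S.mul_mem (S.inv_mem hxS) hgS) hxS⟩ : S) = ⟨x, hxS⟩⁻¹ * ⟨g, hgS⟩ * ⟨x, hxS⟩ :=
      rfl
    rw [e, map_mul, map_mul, map_inv]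
    exact h1
  · rintro k ⟨hk1, hk2⟩
    obtain ⟨⟨s, hs⟩, rfl⟩ := m.surj k
    refine ⟨A.mul_mem (A.mul_mem hgA hk1) (A.inv_mem hgA), ?_⟩
    have hk2' := mem_cj.1 hk2
    refine mem_cj.2 ?_
    have hsA : s ∈ m.hat A := m.mem_hat.2 ⟨hs, hk1⟩
    have hxs : x⁻¹ * s * x ∈ m.hat A := by
      refine m.mem_hat.2 ⟨S.mul_mem (S.mul_mem (S.inv_mem hxS) hs) hxS, ?_⟩
      have e : (⟨x⁻¹ * s * x, S.mul_mem (S.mul_mem (S.inv_mem hxS) hs) hxS⟩ : S) = ⟨x, hxS⟩⁻¹ * ⟨s, hs⟩ * ⟨x, hxS⟩ :=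
        rfl
      rw [e, map_mul, map_mul, map_inv]
      exact hk2'
    obtain ⟨h4, h3⟩ := m.mem_hat.1 (hgK s hsA hxs)
    have e : (⟨x⁻¹ * (g * s * g⁻¹) * x, h4⟩ : S) = ⟨x, hxS⟩⁻¹ * (⟨g, hgS⟩ * ⟨s, hs⟩ * ⟨g, hgS⟩⁻¹) * ⟨x, hxS⟩ := rfl
    rw [e, map_mul, map_mul, map_mul, map_mul, map_inv, map_inv] at h3
    exact h3

omit [Finite Q] in
/-- maximality: a proper subgroup of `S` containing `Â` is `Â` -/
theorem eq_of_le {M : Subgroup (GL ι F)} (hAM : m.hat A ≤ M) (hMS : M ≤ S) (hne : ∃ s ∈ S, s ∉ M) : m.hat A = M := by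
  rcases (m.isMaximalIn h.max).2 M hAM hMS with h1 | h1
  · exact h1.symm
  · obtain ⟨s, hs, hsM⟩ := hne
    rw [h1] at hsM
    exact absurd hs hsM

end model

end Cfsg.Agent.H523.EP
end

-- part: H491/EP/C6
section
/-!
# S3499, class C6: general lemmas (helper491)

* `mem_of_comm` : in an extremely primitive group a `p`-element `k ≠ 1` of a normal `p`-subgroup of `A` has `C_Q(k) ≤ A`;
* `mem_hat_of_comm` : the same in the matrix group;
* `scalar_of_fix` : `R` absolutely irreducible with commutators and squares in `{1, -1}`; an element of odd order which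
  normalises `R` and fixes pointwise a subspace of dimension more than `n / 2` is scalar;
* `exists_invol` : a group of order more than eight with commutators and squares in `{1, -1}` contains a noncentral
  involution.
-/

set_option autoImplicit false

namespace Cfsg.Agent.H491.EP

open Subgroup Cfsg.Agent.H284 Cfsg.Agent.H419.EP Cfsg.Geo
open scoped MatrixGroups Matrix

section T1

variable {Q : Type*} [Group Q] [Finite Q] {A : Subgroup Q} {Γ : Subgroup (MulAut Q)}

/-- a normal `p`-subgroup lies in the core of every Sylow subgroup -/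
theorem le_core {G : Type*} [Group G] [Finite G] {p : ℕ} [Fact p.Prime] (P : Sylow p G) {N : Subgroup G} (hN : N.Normal)
    (hNp : IsPGroup p N) : N ≤ (P : Subgroup G).normalCore := by
  rw [Subgroup.normal_le_normalCore]
  obtain ⟨P', hP'⟩ := hNp.exists_le_sylow
  obtain ⟨g, rfl⟩ := MulAction.exists_smul_eq G P' P
  intro x hx
  have h1 : g⁻¹ * x * g ∈ P' := hP' (by simpa using hN.conj_mem x hx g⁻¹)
  rw [Sylow.coe_subgroup_smul]
  refine ⟨g⁻¹ * x * g, h1, ?_⟩
  change g * (g⁻¹ * x * g) * g⁻¹ = x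
  group

/-- the largest normal `p`-subgroup is characteristic -/
theorem core_char {G : Type*} [Group G] [Finite G] {p : ℕ} [Fact p.Prime] (P : Sylow p G) (φ : G ≃* G) {x : G}
    (hx : x ∈ (P : Subgroup G).normalCore) : φ x ∈ (P : Subgroup G).normalCore := by
  have h1 : ((P : Subgroup G).normalCore.map φ.toMonoidHom).Normal :=
    (inferInstance : (P : Subgroup G).normalCore.Normal).map _ φ.surjective
  have h2 : IsPGroup p ((P : Subgroup G).normalCore.map φ.toMonoidHom) :=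
    (P.isPGroup'.to_le (Subgroup.normalCore_le _)).map _
  exact le_core P h1 h2 ⟨x, hx, rfl⟩

/-- **T1** for a normal `p`-subgroup of `A` -/
theorem mem_of_comm (h : EPT A Γ) {p : ℕ} (hp : p.Prime) {K : Subgroup Q} (hKA : K ≤ A)
    (hKn : ∀ a ∈ A, ∀ k ∈ K, a * k * a⁻¹ ∈ K) (hKp : IsPGroup p K) {k : Q} (hk : k ∈ K) (hk1 : k ≠ 1) {x : Q}
    (hx : x * k = k * x) : x ∈ A := by
  have := Fact.mk hp
  obtain ⟨P⟩ : Nonempty (Sylow p A) := inferInstance
  set C := (P : Subgroup A).normalCore with hC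
  have hKC : K.subgroupOf A ≤ C := by
    apply le_core P
    · refine ⟨fun n hn g => ?_⟩
      rw [mem_subgroupOf] at hn ⊢
      exact hKn g g.2 n hn
    · exact hKp.of_injective (Subgroup.subgroupOfEquivOfLe hKA).toMonoidHom (Subgroup.subgroupOfEquivOfLe hKA).injective
  have hkC : (⟨k, hKA hk⟩ : A) ∈ C := hKC (mem_subgroupOf.2 hk)
  have hCp : IsPGroup p C := P.isPGroup'.to_le (Subgroup.normalCore_le _)
  have hle : C.map A.subtype ≤ A := by
    rintro _ ⟨a, -, rfl⟩
    exact a.2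
  have hkm : k ∈ C.map A.subtype := ⟨⟨k, hKA hk⟩, hkC, rfl⟩
  have hnil : Group.IsNilpotent (C.map A.subtype) := (hCp.map A.subtype).isNilpotent
  have hinv : ∀ σ ∈ Γ, ∀ k ∈ C.map A.subtype, σ k ∈ C.map A.subtype := by
    rintro σ hσ _ ⟨a, ha, rfl⟩
    let φ : A ≃* A :=
      { toFun := fun a => ⟨σ a, (h.inv σ hσ a).2 a.2⟩
        invFun := fun a => ⟨σ.symm a, by
          rw [← h.inv σ hσ, MulEquiv.apply_symm_apply]
          exact a.2⟩
        left_inv := fun a => Subtype.ext (σ.symm_apply_apply _)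
        right_inv := fun a => Subtype.ext (σ.apply_symm_apply _)
        map_mul' := fun a b => Subtype.ext (map_mul σ _ _) }
    exact ⟨φ a, core_char P φ ha, rfl⟩
  obtain ⟨-, -, -, h4, -⟩ := h.nilp _ hle hinv hnil (fun e => hk1 (by
    rw [e, mem_bot] at hkm
    exact hkm))
  by_contra hxA
  have h5 := (h4 x hxA).1
  have h6 : k ∈ C.map A.subtype ⊓ cj x A := by
    refine ⟨hkm, mem_cj.2 ?_⟩
    rw [mul_assoc, ← hx, inv_mul_cancel_left]
    exact hKA hk
  rw [h5, mem_bot] at h6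
  exact hk1 h6

variable {ι : Type} [Fintype ι] [DecidableEq ι] {F : Type*} [Field F] {S : Subgroup (GL ι F)} (m : Model Q S)

/-- the same in the matrix group -/
theorem mem_hat_of_comm (h : EPT A Γ) {p : ℕ} (hp : p.Prime) {R : Subgroup (GL ι F)} (hRA : R ≤ m.hat A)
    (hRn : ∀ g ∈ m.hat A, ∀ x ∈ R, g * x * g⁻¹ ∈ R) (hRp : IsPGroup p R) {v : GL ι F} (hv : v ∈ R)
    (hvs : v ∉ scalars ι F) {x : GL ι F} (hxS : x ∈ S) (hx : x * v = v * x) : x ∈ m.hat A := by
  have hRS := hRA.trans (m.hat_le A)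
  have h1 := mem_of_comm h hp (K := (R.subgroupOf S).map m.π) ?_ ?_ ?_ (k := m.π ⟨v, hRS hv⟩) ⟨⟨v, hRS hv⟩, hv, rfl⟩ ?_
    (x := m.π ⟨x, hxS⟩) ?_
  · exact (m.mem_hat_iff ⟨x, hxS⟩).2 h1
  · rintro _ ⟨r, hr, rfl⟩
    exact (m.mem_hat_iff r).1 (hRA hr)
  · rintro a ha _ ⟨r, hr, rfl⟩
    obtain ⟨s, rfl⟩ := m.surj a
    refine ⟨s * r * s⁻¹, ?_, by rw [map_mul, map_mul, map_inv]⟩
    exact hRn s ((m.mem_hat_iff s).2 ha) r hr
  · exact (hRp.of_injective (Subgroup.subgroupOfEquivOfLe hRS).toMonoidHom (Subgroup.subgroupOfEquivOfLe hRS).injective).map _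
  · intro e
    exact hvs ((m.ker _).1 e)
  · rw [← map_mul, ← map_mul]
    congr 1
    exact Subtype.ext hx

end T1

section Fix

open Module

variable {ι : Type} [Fintype ι] [DecidableEq ι] {F : Type*} [Field F] {R : Subgroup (GL ι F)}

theorem neg_one_comm (g : GL ι F) : g * (-1) = (-1) * g := by rw [mul_neg, neg_mul, mul_one, one_mul]

theorem neg_one_sq : (-1 : GL ι F) * (-1) = 1 := by rw [neg_mul_neg, one_mul]

/-- commutators and squares in `{1, -1}` -/
structure PM (R : Subgroup (GL ι F)) : Prop where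
  comm : ∀ x ∈ R, ∀ y ∈ R, x * y = y * x ∨ x * y = -1 * (y * x)
  sq : ∀ x ∈ R, x * x = 1 ∨ x * x = -1

/-- a group of order more than eight contains an involution different from `-1` -/
theorem exists_invol [Finite R] (h : PM R) (hcard : 8 < Nat.card R) : ∃ v ∈ R, v * v = 1 ∧ v ≠ 1 ∧ v ≠ -1 := by
  classical
  by_contra hcon
  push Not at hcon
  have hN : ∀ v ∈ R, v * v = 1 → v = 1 ∨ v = -1 := by
    intro v hv h1
    by_cases h2 : v = 1
    · exact Or.inl h2
    · exact Or.inr (hcon v hv h1 h2)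
  have hsub : ∀ C : Finset (GL ι F), (∀ x ∈ R, x ∈ C) → Nat.card R ≤ C.card := by
    intro C hC
    have h1 : (R : Set (GL ι F)) ⊆ (C : Set (GL ι F)) := fun x hx => hC x hx
    have h2 := Set.ncard_le_ncard h1 (Finset.finite_toSet C)
    rwa [Set.ncard_coe_finset] at h2
  -- an element outside `{1, -1}`
  obtain ⟨a, ha, ha1, ha2⟩ : ∃ a ∈ R, a ≠ 1 ∧ a ≠ -1 := by
    by_contra hc
    push Not at hc
    have h1 := hsub {1, -1} (fun x hx => by
      by_cases h1 : x = 1
      · simp [h1]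
      · simp [hc x hx h1])
    have h2 : ({1, -1} : Finset (GL ι F)).card ≤ 2 := Finset.card_le_two
    omega
  have haa : a * a = -1 := by
    rcases h.sq a ha with h1 | h1
    · rcases hN a ha h1 with h2 | h2
      · exact absurd h2 ha1
      · exact absurd h2 ha2
    · exact h1
  have ha' : a⁻¹ = -1 * a := by
    rw [inv_eq_iff_mul_eq_one, ← mul_assoc, neg_one_comm, mul_assoc, haa, neg_one_sq]
  -- elements commuting with `a`
  have hC : ∀ b ∈ R, a * b = b * a → b = 1 ∨ b = -1 ∨ b = a ∨ b = -1 * a := by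
    intro b hb hab
    rcases h.sq b hb with h1 | h1
    · rcases hN b hb h1 with h2 | h2
      · exact Or.inl h2
      · exact Or.inr (Or.inl h2)
    · have h2 : (a * b) * (a * b) = 1 := by
        have : (a * b) * (a * b) = (a * a) * (b * b) := by
          rw [mul_assoc, ← mul_assoc b a b, ← hab, mul_assoc a b b, ← mul_assoc a a]
        rw [this, haa, h1, neg_one_sq]
      rcases hN _ (R.mul_mem ha hb) h2 with h3 | h3
      · right; right; right
        rw [← ha']
        exact (inv_eq_of_mul_eq_one_right h3).symm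
      · right; right; left
        have h4 : b = a⁻¹ * (-1) := by rw [← h3, inv_mul_cancel_left]
        rw [h4, ha', mul_assoc, neg_one_comm, ← mul_assoc, neg_one_sq, one_mul]
  let C : Finset (GL ι F) := {1, -1, a, -1 * a}
  have hCc : C.card ≤ 4 := Finset.card_le_four
  have hCm : ∀ b ∈ R, a * b = b * a → b ∈ C := by
    intro b hb hab
    simp only [C, Finset.mem_insert, Finset.mem_singleton]
    exact hC b hb hab
  by_cases hall : ∀ b ∈ R, a * b = b * a
  · have h1 := hsub C fun x hx => hCm x hx (hall x hx)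
    omega
  · push Not at hall
    obtain ⟨b, hb, hab⟩ := hall
    have hab' : a * b = -1 * (b * a) := (h.comm a ha b hb).resolve_left hab
    have h1 := hsub (C ∪ C.image (fun x => b * x)) (fun c hc => by
      rw [Finset.mem_union, Finset.mem_image]
      rcases h.comm a ha c hc with h2 | h2
      · exact Or.inl (hCm c hc h2)
      · right
        refine ⟨b⁻¹ * c, hCm _ (R.mul_mem (R.inv_mem hb) hc) ?_, mul_inv_cancel_left b c⟩
        have h3 : a * b⁻¹ = -1 * (b⁻¹ * a) := by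
          have h4 : b⁻¹ * (a * b) * b⁻¹ = b⁻¹ * (-1 * (b * a)) * b⁻¹ := by rw [hab']
          rw [← mul_assoc b⁻¹ (-1) (b * a), neg_one_comm b⁻¹, mul_assoc (-1) b⁻¹ (b * a), inv_mul_cancel_left] at h4
          have h5 : b⁻¹ * (a * b) * b⁻¹ = b⁻¹ * a := by group
          rw [h5] at h4
          rw [h4, ← mul_assoc, ← mul_assoc, neg_one_sq, one_mul]
        rw [← mul_assoc, h3, mul_assoc, mul_assoc, h2, ← mul_assoc b⁻¹ (-1), neg_one_comm b⁻¹, mul_assoc, ← mul_assoc (-1) (-1),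
          neg_one_sq, one_mul, mul_assoc])
    have h2 : (C ∪ C.image (fun x => b * x)).card ≤ 8 := by
      have h3 := Finset.card_union_le C (C.image (fun x => b * x))
      have h4 := Finset.card_image_le (s := C) (f := fun x => b * x)
      omega
    omega

/-- an element of odd order which normalises `R` and fixes a large subspace pointwise is scalar -/
theorem scalar_of_fix (h2 : (2 : F) ≠ 0) (habs : ActsAbsolutelyIrreducibly (matrixSet R)) (h : PM R)
    {t : GL ι F} (htn : ∀ x ∈ R, t * x * t⁻¹ ∈ R) {o : ℕ} (ho : Odd o) (hto : t ^ o = 1)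
    (W : Submodule F (ι → F)) (hW : ∀ w ∈ W, (t : Matrix ι ι F) *ᵥ w = w) (hdim : Fintype.card ι < 2 * finrank F W) :
    t ∈ scalars ι F := by
  -- a common fixed vector of `t` and `r t r⁻¹`
  have hfix : ∀ r ∈ R, t * r * t⁻¹ * r⁻¹ * (t * r * t⁻¹ * r⁻¹) = 1 := by
    intro r hr
    have hg : t * r * t⁻¹ * r⁻¹ ∈ R := R.mul_mem (htn r hr) (R.inv_mem hr)
    rcases h.sq _ hg with h1 | h1
    · exact h1
    exfalso
    set W' := W.map (Matrix.toLin' (r : Matrix ι ι F)) with hW'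
    have hinj : Function.Injective (Matrix.toLin' (r : Matrix ι ι F)) := by
      intro x y hxy
      rw [Matrix.toLin'_apply, Matrix.toLin'_apply] at hxy
      have h3 := congrArg (fun z => ((r⁻¹ : GL ι F) : Matrix ι ι F) *ᵥ z) hxy
      simpa only [Matrix.mulVec_mulVec, ← Units.val_mul, inv_mul_cancel, Units.val_one, Matrix.one_mulVec] using h3
    have hd : finrank F W' = finrank F W := (Submodule.equivMapOfInjective _ hinj W).finrank_eq.symm
    have hne : W ⊓ W' ≠ ⊥ := by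
      intro e
      have h3 := Submodule.finrank_sup_add_finrank_inf_eq W W'
      rw [e, finrank_bot, hd] at h3
      have h4 := Submodule.finrank_le (W ⊔ W')
      rw [Module.finrank_fintype_fun_eq_card] at h4
      omega
    obtain ⟨w, hw, hw0⟩ := (Submodule.ne_bot_iff _).1 hne
    obtain ⟨hw1, ⟨w', hw', hw2⟩⟩ := hw
    rw [Matrix.toLin'_apply] at hw2
    have ht' : ∀ w ∈ W, ((t⁻¹ : GL ι F) : Matrix ι ι F) *ᵥ w = w := by
      intro w hw
      conv_lhs => rw [← hW w hw]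
      rw [Matrix.mulVec_mulVec, ← Units.val_mul, inv_mul_cancel, Units.val_one, Matrix.one_mulVec]
    have h5 : ((t * r * t⁻¹ * r⁻¹ : GL ι F) : Matrix ι ι F) *ᵥ w = w := by
      have h6 : ((r⁻¹ : GL ι F) : Matrix ι ι F) *ᵥ w = w' := by
        rw [← hw2, Matrix.mulVec_mulVec, ← Units.val_mul, inv_mul_cancel, Units.val_one, Matrix.one_mulVec]
      rw [Units.val_mul, ← Matrix.mulVec_mulVec, h6, Units.val_mul, ← Matrix.mulVec_mulVec, ht' w' hw', Units.val_mul,
        ← Matrix.mulVec_mulVec, hw2, hW w hw1]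
    have h7 : ((-1 : GL ι F) : Matrix ι ι F) *ᵥ w = w := by
      rw [← h1, Units.val_mul, ← Matrix.mulVec_mulVec, h5, h5]
    rw [Units.val_neg, Units.val_one, Matrix.neg_mulVec, Matrix.one_mulVec] at h7
    apply hw0
    have h8 : (2 : F) • w = 0 := by
      rw [two_smul]
      nth_rewrite 1 [← h7]
      exact neg_add_cancel w
    exact (smul_eq_zero.1 h8).resolve_left h2
  have hne : Nonempty ι := by
    rw [← Fintype.card_pos_iff]
    have h3 := Submodule.finrank_le W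
    rw [Module.finrank_fintype_fun_eq_card] at h3
    omega
  -- conjugation by an element of `R`
  have hconj : ∀ x ∈ R, ∀ y ∈ R, ∃ e : GL ι F, (e = 1 ∨ e = -1) ∧ x * y * x⁻¹ = e * y := by
    intro x hx y hy
    rcases h.comm x hx y hy with h1 | h1
    · exact ⟨1, Or.inl rfl, by rw [h1, one_mul, mul_inv_cancel_right]⟩
    · exact ⟨-1, Or.inr rfl, by rw [h1, mul_assoc (-1) (y * x), mul_inv_cancel_right]⟩
  have hec : ∀ e : GL ι F, (e = 1 ∨ e = -1) → ∀ g : GL ι F, g * e = e * g := by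
    rintro e (rfl | rfl) g
    · rw [mul_one, one_mul]
    · exact neg_one_comm g
  have hes : ∀ e : GL ι F, (e = 1 ∨ e = -1) → e * e = 1 := by
    rintro e (rfl | rfl)
    · exact one_mul 1
    · exact neg_one_sq
  have hG : ∀ r ∈ R, t * r * t⁻¹ * r⁻¹ ∈ R := fun r hr => R.mul_mem (htn r hr) (R.inv_mem hr)
  have hcomm : ∀ r ∈ R, ∀ s ∈ R, (t * r * t⁻¹ * r⁻¹) * (t * s * t⁻¹ * s⁻¹) = (t * s * t⁻¹ * s⁻¹) * (t * r * t⁻¹ * r⁻¹) := by
    intro r hr s hs
    obtain ⟨e, he, h1⟩ := hconj r hr _ (hG s hs)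
    have h3 := hfix (r * s) (R.mul_mem hr hs)
    have h4 : t * (r * s) * t⁻¹ * (r * s)⁻¹ = (t * r * t⁻¹ * r⁻¹) * (r * (t * s * t⁻¹ * s⁻¹) * r⁻¹) := by group
    have ha := hfix r hr
    have hb := hfix s hs
    rw [h4, h1] at h3
    generalize t * r * t⁻¹ * r⁻¹ = a at *
    generalize t * s * t⁻¹ * s⁻¹ = b at *
    have h5 : (a * b) * (a * b) = 1 := by
      have h6 : a * (e * b) * (a * (e * b)) = e * e * ((a * b) * (a * b)) := by
        rw [← mul_assoc a e b, hec e he a, mul_assoc e a b, mul_assoc e (a * b), ← mul_assoc (a * b) e, hec e he (a * b),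
          mul_assoc e (a * b), ← mul_assoc e e]
      rw [h6, hes e he, one_mul] at h3
      exact h3
    have h7 : (a * b)⁻¹ = a * b := inv_eq_of_mul_eq_one_left h5
    rw [← h7, mul_inv_rev, inv_eq_of_mul_eq_one_left ha, inv_eq_of_mul_eq_one_left hb]
  -- `t²` centralises `R` modulo `{1, -1}`
  have ht2 : ∀ s ∈ R, ∃ e : GL ι F, (e = 1 ∨ e = -1) ∧ (t * t) * s * (t * t)⁻¹ = e * s := by
    intro s hs
    set g := t * s * t⁻¹ * s⁻¹ with hg
    have hgR : g ∈ R := hG s hs
    set g' := t * g * t⁻¹ with hg'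
    have hg'R : g' ∈ R := htn g hgR
    have hgg : t * t * s * (t * t)⁻¹ = g' * g * s := by
      rw [hg', hg]; group
    have hg'e : g' = t * (t * s * t⁻¹) * t⁻¹ * (t * s * t⁻¹)⁻¹ := by
      rw [hg', hg]; group
    have hcomm' : ∀ r ∈ R, r * (g' * g) = (g' * g) * r := by
      intro r hr
      obtain ⟨e, he, h1⟩ := hconj r hr g hgR
      obtain ⟨d, hd, h3⟩ := hconj r hr g' hg'R
      have h4 : (t * r * t⁻¹) * g' * (t * r * t⁻¹)⁻¹ = e * g' := by
        have h5 : (t * r * t⁻¹) * g' * (t * r * t⁻¹)⁻¹ = t * (r * g * r⁻¹) * t⁻¹ := by rw [hg']; group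
        rw [h5, h1, ← mul_assoc t e g, hec e he t, hg']
        group
      have h6 : (t * r * t⁻¹) * g' * (t * r * t⁻¹)⁻¹ = d * g' := by
        have h7 : (t * r * t⁻¹) * g' * (t * r * t⁻¹)⁻¹ =
            (t * r * t⁻¹ * r⁻¹) * (r * g' * r⁻¹) * (t * r * t⁻¹ * r⁻¹)⁻¹ := by group
        have h8 := hcomm r hr _ (htn s hs)
        rw [← hg'e] at h8
        rw [h7, h3, ← mul_assoc _ d g', hec d hd, mul_assoc d, h8, mul_assoc d, mul_inv_cancel_right]
      have h9 : d = e := mul_right_cancel (h6.symm.trans h4)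
      have h10 : r * (g' * g) * r⁻¹ = g' * g := by
        have h11 : r * (g' * g) * r⁻¹ = (r * g' * r⁻¹) * (r * g * r⁻¹) := by group
        rw [h11, h3, h1, h9, ← mul_assoc (e * g') e g, hec e he (e * g'), ← mul_assoc e e g', hes e he, one_mul]
      rwa [mul_inv_eq_iff_eq_mul] at h10
    obtain ⟨c, hc⟩ := habs.2 ((g' * g : GL ι F) : Matrix ι ι F) (by
      rintro _ ⟨r, hr, rfl⟩
      change ((g' * g : GL ι F) : Matrix ι ι F) * ((r : GL ι F) : Matrix ι ι F) =
        ((r : GL ι F) : Matrix ι ι F) * ((g' * g : GL ι F) : Matrix ι ι F)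
      rw [← Units.val_mul, ← Units.val_mul, hcomm' r hr])
    have hsq : (g' * g) * (g' * g) = 1 := by
      have h1 : g' * g' = 1 := by rw [hg'e]; exact hfix _ (htn s hs)
      have h3 : g * g = 1 := hfix s hs
      have h4 : g' * g = g * g' := by
        have h8 := hcomm _ (htn s hs) s hs
        rw [← hg'e] at h8
        exact h8
      rw [mul_assoc, ← mul_assoc g g' g, ← h4, mul_assoc g' g g, h3, mul_one, h1]
    have hcc : c * c = 1 := by
      have h1 := congrArg (fun x : GL ι F => (x : Matrix ι ι F)) hsq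
      simp only [Units.val_one] at h1
      rw [Units.val_mul, hc, Matrix.smul_mul, Matrix.one_mul, smul_smul] at h1
      have h3 := congrFun (congrFun h1 hne.some) hne.some
      rwa [Matrix.smul_apply, Matrix.one_apply_eq, smul_eq_mul, mul_one] at h3
    refine ⟨g' * g, ?_, hgg⟩
    rcases mul_self_eq_one_iff.1 hcc with h1 | h1
    · left
      apply Units.ext
      rw [hc, h1, one_smul, Units.val_one]
    · right
      apply Units.ext
      rw [hc, h1, Units.val_neg, Units.val_one, neg_smul, one_smul]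
  -- `t²` centralises `R`
  have ht2' : ∀ s ∈ R, (t * t) * s = s * (t * t) := by
    intro s hs
    obtain ⟨e, he, h1⟩ := ht2 s hs
    have h3 : ∀ n : ℕ, (t * t) ^ n * s * ((t * t) ^ n)⁻¹ = e ^ n * s := by
      intro n
      induction n with
      | zero => rw [pow_zero, pow_zero, one_mul, inv_one, mul_one]
      | succ n ih =>
        have h4 : (t * t) ^ (n + 1) * s * ((t * t) ^ (n + 1))⁻¹ = (t * t) * ((t * t) ^ n * s * ((t * t) ^ n)⁻¹) * (t * t)⁻¹ := by
          rw [pow_succ' (t * t) n, mul_inv_rev]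
          simp only [mul_assoc]
        have hen : e ^ n = 1 ∨ e ^ n = -1 := by
          rcases he with rfl | rfl
          · exact Or.inl (one_pow n)
          · exact neg_one_pow_eq_or _ n
        rw [h4, ih, ← mul_assoc (t * t) (e ^ n) s, hec _ hen (t * t), mul_assoc (e ^ n), mul_assoc (e ^ n), h1, ← mul_assoc,
          pow_succ]
    have h4 := h3 o
    have h5 : (t * t) ^ o = 1 := by
      rw [← pow_two, ← pow_mul, mul_comm, pow_mul, hto, one_pow]
    rw [h5, inv_one, mul_one, one_mul] at h4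
    have h6 : e = 1 := by
      rcases he with he | he
      · exact he
      · exfalso
        rw [he, ho.neg_one_pow] at h4
        have h7 : (1 : GL ι F) = -1 := mul_right_cancel (b := s) (by rw [one_mul]; exact h4)
        have h8 := congrArg (fun x : GL ι F => (x : Matrix ι ι F) hne.some hne.some) h7
        simp only [Units.val_neg, Units.val_one, Matrix.neg_apply, Matrix.one_apply_eq] at h8
        apply h2
        have : (2 : F) = 1 + 1 := by norm_num
        rw [this]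
        nth_rewrite 1 [h8]
        exact neg_add_cancel 1
    rw [h6, one_mul, mul_inv_eq_iff_eq_mul] at h1
    exact h1
  -- `t` centralises `R`
  have ht1 : ∀ s ∈ R, t * s = s * t := by
    intro s hs
    obtain ⟨j, hj⟩ := ho
    have h3 : t = (t * t) ^ (j + 1) := by
      rw [← pow_two, ← pow_mul, show 2 * (j + 1) = o + 1 by omega, pow_succ, hto, one_mul]
    have h4 : Commute (t * t) s := ht2' s hs
    rw [h3]
    exact (h4.pow_left (j + 1)).eq
  obtain ⟨c, hc⟩ := habs.2 (t : Matrix ι ι F) (by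
    rintro _ ⟨r, hr, rfl⟩
    change (t : Matrix ι ι F) * ((r : GL ι F) : Matrix ι ι F) = ((r : GL ι F) : Matrix ι ι F) * (t : Matrix ι ι F)
    rw [← Units.val_mul, ← Units.val_mul, ht1 r hr])
  rw [mem_scalars_iff]
  have hc0 : c ≠ 0 := by
    rintro rfl
    have h3 : (t : Matrix ι ι F) * ((t⁻¹ : GL ι F) : Matrix ι ι F) = 1 := by rw [← Units.val_mul, mul_inv_cancel, Units.val_one]
    rw [hc, zero_smul, zero_mul] at h3
    have h4 := congrFun (congrFun h3 hne.some) hne.some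
    rw [Matrix.zero_apply, Matrix.one_apply_eq] at h4
    exact zero_ne_one h4
  exact ⟨Units.mk0 c hc0, hc⟩

end Fix

end Cfsg.Agent.H491.EP
end

-- part: H491/EP/SpC6
section
/-!
# S3499, symplectic groups, class C6 (helper491)
-/

set_option autoImplicit false

namespace Cfsg.Agent.H491.EP

open Subgroup Module Cfsg Cfsg.Agent.H284 Cfsg.Agent.H419.EP Cfsg.Geo
open scoped MatrixGroups Matrix

section

variable {ι : Type} [Fintype ι] [DecidableEq ι] {F : Type*} [Field F] {R : Subgroup (GL ι F)}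

/-- `R` of symplectic type with centre of order two: commutators and squares in `{1, -1}` -/
theorem pm_of [Finite R] [Nonempty ι] (hR : IsSymplecticTypeGroup 2 R) (habs : ActsAbsolutelyIrreducibly (matrixSet R))
    (hZ : Nat.card (center R) = 2) : PM R := by
  have hc : ∀ z : R, z ∈ center R → (z : GL ι F) = 1 ∨ (z : GL ι F) = -1 := by
    intro z hz
    obtain ⟨c, hc⟩ := Cfsg.Agent.H921.center_scalar habs z hz
    have h1 : z * z = 1 := by
      have h2 : (⟨z, hz⟩ : center R) ^ Nat.card (center R) = 1 := pow_card_eq_one'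
      rw [hZ, pow_two] at h2
      exact congrArg Subtype.val h2
    have h2 : ((z : GL ι F) : Matrix ι ι F) * ((z : GL ι F) : Matrix ι ι F) = 1 := by
      rw [← Units.val_mul, ← Subgroup.coe_mul, h1, Subgroup.coe_one, Units.val_one]
    rw [hc, Matrix.smul_mul, Matrix.one_mul, smul_smul] at h2
    have i : ι := Classical.arbitrary ι
    have h3 := congrFun (congrFun h2 i) i
    rw [Matrix.smul_apply, Matrix.one_apply_eq, smul_eq_mul, mul_one] at h3
    rcases mul_self_eq_one_iff.1 h3 with h4 | h4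
    · left
      apply Units.ext
      rw [hc, h4, one_smul, Units.val_one]
    · right
      apply Units.ext
      rw [hc, h4, Units.val_neg, Units.val_one, neg_smul, one_smul]
  have hcm : ∀ x y : R, x * y * x⁻¹ * y⁻¹ ∈ center R :=
    Cfsg.Agent.H921.commutator_mem_center hR (fun h => absurd h (by decide))
  have hcomm : ∀ x ∈ R, ∀ y ∈ R, x * y = y * x ∨ x * y = -1 * (y * x) := by
    intro x hx y hy
    have h1 : x * y = x * y * x⁻¹ * y⁻¹ * (y * x) := by group
    rcases hc _ (hcm ⟨x, hx⟩ ⟨y, hy⟩) with h2 | h2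
    · left
      have h3 : x * y * x⁻¹ * y⁻¹ = 1 := h2
      rw [h1, h3, one_mul]
    · right
      have h3 : x * y * x⁻¹ * y⁻¹ = -1 := h2
      rw [h1, h3]
  refine ⟨hcomm, fun x hx => ?_⟩
  apply hc (⟨x, hx⟩ * ⟨x, hx⟩)
  rw [mem_center_iff]
  rintro ⟨y, hy⟩
  apply Subtype.ext
  change y * (x * x) = x * x * y
  rcases hcomm x hx y hy with h1 | h1
  · rw [mul_assoc x x y, h1, ← mul_assoc, ← mul_assoc, h1]
  · rw [mul_assoc x x y, h1, ← mul_assoc x (-1), neg_one_comm x, mul_assoc, ← mul_assoc x y x, h1, ← mul_assoc (-1) _ x,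
      ← mul_assoc (-1) (-1), neg_one_sq, one_mul, mul_assoc]

/-- the elements of `R` which are involutions different from `-1` are not scalar -/
theorem not_scalar_of_invol [Nonempty ι] {v : GL ι F} (h1 : v * v = 1) (h2 : v ≠ 1) (h3 : v ≠ -1) : v ∉ scalars ι F := by
  rw [mem_scalars_iff]
  rintro ⟨c, hc⟩
  have h4 : (v : Matrix ι ι F) * (v : Matrix ι ι F) = 1 := by rw [← Units.val_mul, h1, Units.val_one]
  rw [hc, Matrix.smul_mul, Matrix.one_mul, smul_smul] at h4
  have i : ι := Classical.arbitrary ι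
  have h5 := congrFun (congrFun h4 i) i
  rw [Matrix.smul_apply, Matrix.one_apply_eq, smul_eq_mul, mul_one] at h5
  rcases mul_self_eq_one_iff.1 h5 with h6 | h6
  · apply h2
    apply Units.ext
    rw [hc, h6, one_smul, Units.val_one]
  · apply h3
    apply Units.ext
    rw [hc, h6, Units.val_neg, Units.val_one, neg_smul, one_smul]

/-- an involution different from `-1` has a fixed vector -/
theorem exists_fixed {v : GL ι F} (h1 : v * v = 1) (h3 : v ≠ -1) : ∃ w : ι → F, w ≠ 0 ∧ (v : Matrix ι ι F) *ᵥ w = w := by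
  by_contra hcon
  push Not at hcon
  apply h3
  apply Units.ext
  rw [Units.val_neg, Units.val_one]
  apply Matrix.toLin'.injective
  apply LinearMap.ext
  intro x
  rw [Matrix.toLin'_apply, Matrix.toLin'_apply, Matrix.neg_mulVec, Matrix.one_mulVec]
  by_contra hx
  refine hcon (x + (v : Matrix ι ι F) *ᵥ x) (fun h => hx (eq_neg_of_add_eq_zero_right h)) ?_
  rw [Matrix.mulVec_add, Matrix.mulVec_mulVec, ← Units.val_mul, h1, Units.val_one, Matrix.one_mulVec, add_comm]

end

section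

variable {F : Type*} [Field F] {k : ℕ}

open Cfsg.Agent.H876 Cfsg.Agent.ClassicalGeometry.SympBasic

theorem tGL_pow_mulVec (w u : Fin k ⊕ Fin k → F) (n : ℕ) :
    ((tGL w 1 ^ n : GL (Fin k ⊕ Fin k) F) : Matrix _ _ F) *ᵥ u = u + ((n : F) * sympForm k F u w) • w := by
  induction n with
  | zero => rw [pow_zero, Units.val_one, Matrix.one_mulVec, Nat.cast_zero, zero_mul, zero_smul, add_zero]
  | succ n ih =>
    rw [pow_succ', Units.val_mul, ← Matrix.mulVec_mulVec, ih, tGL_mulVec, sympForm_add_left, sympForm_smul_left,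
      sympForm_self, mul_zero, add_zero, one_mul, add_assoc, ← add_smul, Nat.cast_succ]
    ring_nf

/-- no transvection normalises `R` -/
theorem tGL_not_norm [Fintype F] {R : Subgroup (GL (Fin k ⊕ Fin k) F)} (hk : 2 ≤ k) {p : ℕ} (hpo : Odd p)
    (hcard : Fintype.card F = p) (habs : ActsAbsolutelyIrreducibly (matrixSet R)) (h : PM R) {w : Fin k ⊕ Fin k → F}
    (hw : w ≠ 0) (hn : tGL w 1 ∈ subgroupNormalizer R) : False := by
  have hp0 : (p : F) = 0 := by rw [← hcard]; exact Nat.cast_card_eq_zero F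
  have h2 : (2 : F) ≠ 0 := by
    intro h2
    obtain ⟨j, hj⟩ := hpo
    rw [hj] at hp0
    push_cast at hp0
    rw [h2, zero_mul, zero_add] at hp0
    exact one_ne_zero hp0
  have htp : (tGL w 1 : GL (Fin k ⊕ Fin k) F) ^ p = 1 := by
    apply Units.ext
    apply Matrix.toLin'.injective
    apply LinearMap.ext
    intro u
    rw [Matrix.toLin'_apply, Matrix.toLin'_apply, tGL_pow_mulVec, hp0, zero_mul, zero_smul, add_zero, Units.val_one,
      Matrix.one_mulVec]
  let φ : (Fin k ⊕ Fin k → F) →ₗ[F] F :=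
    { toFun := fun u => sympForm k F u w
      map_add' := fun u u' => sympForm_add_left u u' w
      map_smul' := fun c u => sympForm_smul_left c u w }
  have hfix : ∀ u ∈ LinearMap.ker φ, (tGL w 1 : Matrix _ _ F) *ᵥ u = u := by
    intro u hu
    have h1 : sympForm k F u w = 0 := hu
    rw [tGL_mulVec, h1, mul_zero, zero_smul, add_zero]
  have hdim : Fintype.card (Fin k ⊕ Fin k) < 2 * finrank F (LinearMap.ker φ) := by
    have h1 := LinearMap.finrank_range_add_finrank_ker φ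
    have h3 : finrank F (LinearMap.range φ) ≤ 1 := by
      have := Submodule.finrank_le (LinearMap.range φ)
      rwa [finrank_self] at this
    rw [Module.finrank_fintype_fun_eq_card] at h1
    have h4 : Fintype.card (Fin k ⊕ Fin k) = k + k := by rw [Fintype.card_sum, Fintype.card_fin]
    omega
  have hs := scalar_of_fix h2 habs h (t := tGL w 1) (fun x hx => ((Subgroup.mem_normalizer_iff.1 hn) x).1 hx) hpo htp _ hfix hdim
  obtain ⟨c, hc⟩ := (mem_scalars_iff _).1 hs
  have hval : ∀ u, u + ((1 : F) * sympForm k F u w) • w = (c : F) • u := by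
    intro u
    rw [← tGL_mulVec, hc, Matrix.smul_mulVec, Matrix.one_mulVec]
  have h1 := hval w
  rw [sympForm_self, mul_zero, zero_smul, add_zero] at h1
  have hc1 : (c : F) = 1 := by
    have h3 : ((1 : F) - c) • w = 0 := by rw [sub_smul, one_smul, ← h1, sub_self]
    have h4 := (smul_eq_zero.1 h3).resolve_right hw
    exact (sub_eq_zero.1 h4).symm
  apply hw
  apply eq_zero_of_forall_sympForm_left
  intro u
  have h3 := hval u
  rw [hc1, one_smul, one_mul] at h3
  have h4 : sympForm k F u w • w = 0 := by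
    have := add_left_cancel (h3.trans (add_zero u).symm)
    exact this
  exact (smul_eq_zero.1 h4).resolve_right hw

/-- `R ∩ Sp` has index at most two in `R` -/
theorem card_le_two {R : Subgroup (GL (Fin k ⊕ Fin k) F)} [Finite R] (hk : 1 ≤ k) (h : PM R)
    (hsim : R ≤ similarityGroup (sympForm k F)) : Nat.card R ≤ 2 * Nat.card (R ⊓ spGL k F : Subgroup (GL (Fin k ⊕ Fin k) F)) := by
  classical
  have hmul : ∀ r ∈ R, (r ∈ spGL k F) ∨ ∀ u v, sympForm k F ((r : Matrix _ _ F) *ᵥ u) ((r : Matrix _ _ F) *ᵥ v) = - sympForm k F u v := by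
    intro r hr
    obtain ⟨c', hc'⟩ := hsim hr
    obtain ⟨c, hc⟩ : ∃ c : F, ∀ u v, sympForm k F ((r : Matrix _ _ F) *ᵥ u) ((r : Matrix _ _ F) *ᵥ v) = c * sympForm k F u v :=
      ⟨c', hc'⟩
    have h1 : ∀ u v, c * (c * sympForm k F u v) = sympForm k F u v := by
      intro u v
      rw [← hc, ← hc, Matrix.mulVec_mulVec, Matrix.mulVec_mulVec, ← Units.val_mul]
      rcases h.sq r hr with h2 | h2
      · rw [h2, Units.val_one, Matrix.one_mulVec, Matrix.one_mulVec]
      · rw [h2, Units.val_neg, Units.val_one, Matrix.neg_mulVec, Matrix.neg_mulVec, Matrix.one_mulVec, Matrix.one_mulVec,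
          sympForm_neg_left, sympForm_neg_right, neg_neg]
    have h3 : c * c = 1 := by
      have h4 := h1 (Pi.single (Sum.inr ⟨0, hk⟩) 1) (Pi.single (Sum.inl ⟨0, hk⟩) 1)
      rw [sympForm_single_inr_left, Pi.single_eq_same, mul_one] at h4
      exact h4
    rcases mul_self_eq_one_iff.1 h3 with h4 | h4
    · left
      intro u v
      have := hc u v
      rw [h4, one_mul] at this
      exact this
    · right
      intro u v
      rw [hc u v, h4, neg_one_mul]
  by_cases hle : R ≤ spGL k F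
  · rw [inf_eq_left.2 hle]
    have : 0 < Nat.card R := Nat.card_pos
    omega
  · obtain ⟨b, hb, hbS⟩ := SetLike.not_le_iff_exists.1 hle
    have hb' := (hmul b hb).resolve_left hbS
    set R0 := R ⊓ spGL k F with hR0
    have hfin : (R0 : Set (GL (Fin k ⊕ Fin k) F)).Finite :=
      (Set.toFinite (R : Set (GL (Fin k ⊕ Fin k) F))).subset (fun x hx => hx.1)
    have hsub : (R : Set (GL (Fin k ⊕ Fin k) F)) ⊆ (R0 : Set (GL (Fin k ⊕ Fin k) F)) ∪ (fun x => b * x) '' (R0 : Set _) := by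
      intro x hx
      rcases hmul x hx with h1 | h1
      · exact Or.inl ⟨hx, h1⟩
      · right
        refine ⟨b⁻¹ * x, ⟨R.mul_mem (R.inv_mem hb) hx, ?_⟩, mul_inv_cancel_left b x⟩
        intro u v
        have h3 := hb' (((b⁻¹ * x : GL _ F) : Matrix _ _ F) *ᵥ u) (((b⁻¹ * x : GL _ F) : Matrix _ _ F) *ᵥ v)
        rw [Matrix.mulVec_mulVec, Matrix.mulVec_mulVec, ← Units.val_mul, mul_inv_cancel_left, h1] at h3
        exact (neg_injective h3).symm
    have h1 := Set.ncard_le_ncard hsub (hfin.union (hfin.image _))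
    have h3 := Set.ncard_union_le (R0 : Set (GL (Fin k ⊕ Fin k) F)) ((fun x => b * x) '' (R0 : Set _))
    have h4 := Set.ncard_image_le hfin (f := fun x => b * x)
    have e1 : Nat.card R = (R : Set (GL (Fin k ⊕ Fin k) F)).ncard := rfl
    have e2 : Nat.card R0 = (R0 : Set (GL (Fin k ⊕ Fin k) F)).ncard := rfl
    omega

/-- **S3499-III-Sp-C6** -/
theorem sp_c6 {Q : Type*} [Group Q] [Finite Q] {A : Subgroup Q} {Γ : Subgroup (MulAut Q)} (h : EPT A Γ)
    {F : Type*} [Field F] [Fintype F] {k : ℕ} (hk : 2 ≤ k) (m : Model Q (spGL k F)) {R : Subgroup (GL (Fin k ⊕ Fin k) F)}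
    {p j : ℕ} (hR : IsSymplecticTypeGroup 2 R) (habs : ActsAbsolutelyIrreducibly (matrixSet R))
    (hsim : R ≤ similarityGroup (sympForm k F)) (hpo : Odd p) (hcard : Fintype.card F = p)
    (hRc : Nat.card R = 2 ^ (1 + 2 * j)) (hZ : Nat.card (center R) = 2) (hA : m.hat A ≤ subgroupNormalizer R ⊓ spGL k F) :
    False := by
  have hne : Nonempty (Fin k ⊕ Fin k) := ⟨Sum.inl ⟨0, by omega⟩⟩
  have hfin : Finite (GL (Fin k ⊕ Fin k) F) := inferInstance
  have hPM := pm_of hR habs hZ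
  have hj : 2 ≤ j := by
    have h1 := Cfsg.Agent.H921.card_eq_pow_of_center_prime hR habs hZ hRc
    rw [Fintype.card_sum, Fintype.card_fin] at h1
    by_contra h2
    have h3 : 2 ^ j ≤ 2 ^ 1 := Nat.pow_le_pow_right (by norm_num) (by omega)
    omega
  have hcard8 : 8 < Nat.card (R ⊓ spGL k F : Subgroup (GL (Fin k ⊕ Fin k) F)) := by
    have h1 := card_le_two (by omega) hPM hsim
    have h3 : 2 ^ 5 ≤ Nat.card R := by
      rw [hRc]
      exact Nat.pow_le_pow_right (by norm_num) (by omega)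
    omega
  rcases (m.isMaximalIn h.max).2 _ hA inf_le_right with h1 | h1
  · have hRA : R ⊓ spGL k F ≤ m.hat A := by
      rw [← h1]
      exact inf_le_inf_right _ Subgroup.le_normalizer
    obtain ⟨v, hv, hv1, hv2, hv3⟩ := exists_invol (R := R ⊓ spGL k F)
      ⟨fun x hx y hy => hPM.comm x hx.1 y hy.1, fun x hx => hPM.sq x hx.1⟩ hcard8
    obtain ⟨w, hw0, hw⟩ := exists_fixed hv1 hv3
    have ht : tGL w 1 ∈ m.hat A := by
      refine mem_hat_of_comm m h Nat.prime_two hRA ?_ (hR.pGroup.to_le inf_le_left) hv (not_scalar_of_invol hv1 hv2 hv3)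
        (tGL_mem w 1) ?_
      · intro g hg x hx
        have hg' := hA hg
        exact ⟨((Subgroup.mem_normalizer_iff.1 hg'.1) x).1 hx.1,
          (spGL k F).mul_mem ((spGL k F).mul_mem hg'.2 hx.2) ((spGL k F).inv_mem hg'.2)⟩
      · apply Units.ext
        apply Matrix.toLin'.injective
        apply LinearMap.ext
        intro u
        have hvS : ∀ a b, sympForm k F ((v : Matrix _ _ F) *ᵥ a) ((v : Matrix _ _ F) *ᵥ b) = sympForm k F a b := hv.2
        have h3 : sympForm k F ((v : Matrix _ _ F) *ᵥ u) w = sympForm k F u w := by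
          rw [← hvS u w, hw]
        rw [Matrix.toLin'_apply, Matrix.toLin'_apply, Units.val_mul, Units.val_mul, ← Matrix.mulVec_mulVec,
          ← Matrix.mulVec_mulVec, tGL_mulVec, tGL_mulVec, h3, Matrix.mulVec_add, Matrix.mulVec_smul, hw]
    exact tGL_not_norm hk hpo hcard habs hPM hw0 (hA ht).1
  · obtain ⟨w, hw0⟩ : ∃ w : Fin k ⊕ Fin k → F, w ≠ 0 := exists_ne 0
    have ht : (tGL w 1 : GL (Fin k ⊕ Fin k) F) ∈ subgroupNormalizer R ⊓ spGL k F := by
      rw [h1]
      exact tGL_mem w 1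
    exact tGL_not_norm hk hpo hcard habs hPM hw0 ht.1

end

end Cfsg.Agent.H491.EP
end
end

-- part: H567/EP/Wd
section
prune_inst 0x10000000000002
set_option linter.all false
open scoped Cfsg.Agent.FastGrp

-- part: H567/EP/Core
section
/-!
# S3499: two criteria (helper567)

* `P1` : `N_A(A ∩ A^x) = A ∩ A^x` for `x ∉ A`, in the preimage;
* `T1` : a normal `p`-subgroup of `Â` meets `Â^x` only in scalars.
-/

set_option autoImplicit false

namespace Cfsg.Agent.H567.EP

open Subgroup Cfsg.Agent.H284 Cfsg.Agent.H419.EP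
open scoped MatrixGroups

variable {Q : Type*} [Group Q] {A : Subgroup Q} {Γ : Subgroup (MulAut Q)}

/-- `N_A(A ∩ A^x) = A ∩ A^x` -/
theorem norm_M0 (h : EPT A Γ) {x : Q} (hx : x ∉ A) {a : Q} (ha : a ∈ A)
    (hn : ∀ k, k ∈ A → x⁻¹ * k * x ∈ A → x⁻¹ * (a * k * a⁻¹) * x ∈ A) : x⁻¹ * a * x ∈ A := by
  have h1 := h.norm_aut hx (K := A ⊓ cj x A) le_rfl (fun σ hσ => hσ) (h.M0 x hx) ha (by
    intro k hk
    refine ⟨A.mul_mem (A.mul_mem ha (mem_inf.1 hk).1) (A.inv_mem ha), ?_⟩
    exact mem_cj.2 (hn k (mem_inf.1 hk).1 (mem_cj.1 (mem_inf.1 hk).2)))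
  exact mem_cj.1 h1

section

variable {ι : Type} [Fintype ι] [DecidableEq ι] {F : Type*} [Field F] {S : Subgroup (GL ι F)}

end

section pcore

variable [Finite Q]

/-- a normal `p`-subgroup of `A` meets `A^x` trivially -/
theorem normal_inf (h : EPT A Γ) {p : ℕ} (hp : p.Prime) {N : Subgroup Q} (hN : N ≤ A) (hNp : IsPGroup p N)
    (hNn : ∀ a ∈ A, ∀ k ∈ N, a * k * a⁻¹ ∈ N) {x : Q} (hx : x ∉ A) {z : Q} (hz : z ∈ N) (hzx : z ∈ cj x A) :
    z = 1 := by
  classical
  have := Fact.mk hp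
  by_contra hz1
  -- the intersection of the Sylow subgroups of `A`
  let C : Subgroup A := ⨅ P : Sylow p A, (P : Subgroup A)
  have hC : ∀ φ : MulAut A, ∀ a, a ∈ C → φ a ∈ C := by
    intro φ a ha
    rw [Subgroup.mem_iInf] at ha ⊢
    intro P
    have hb : a ∈ ((P : Subgroup A).comap φ.toMonoidHom : Subgroup A) := by
      have hP1 : IsPGroup p ((P : Subgroup A).comap φ.toMonoidHom : Subgroup A) :=
        P.isPGroup'.comap_of_injective _ φ.injective
      have hcard : Nat.card ((P : Subgroup A).comap φ.toMonoidHom : Subgroup A) = Nat.card P := by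
        have e1 : ((P : Subgroup A).comap φ.toMonoidHom : Subgroup A) = (P : Subgroup A).map φ.symm.toMonoidHom := by
          exact (Subgroup.map_equiv_eq_comap_symm φ.symm _).symm
        rw [e1]
        exact Nat.card_congr (Subgroup.equivMapOfInjective _ _ φ.symm.injective).toEquiv.symm
      obtain ⟨P', hP'⟩ := hP1.exists_le_sylow
      have h3 : Nat.card P' = Nat.card P := by
        rw [P'.card_eq_multiplicity, P.card_eq_multiplicity]
      have h4 : ((P : Subgroup A).comap φ.toMonoidHom : Subgroup A) = P' := by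
        apply Subgroup.eq_of_le_of_card_ge hP'
        rw [hcard]
        exact h3.le
      rw [h4]
      exact ha P'
    exact hb
  have hNC : ∀ k (hk : k ∈ N), (⟨k, hN hk⟩ : A) ∈ C := by
    intro k hk
    rw [Subgroup.mem_iInf]
    intro P
    have hnorm : (N.subgroupOf A).Normal := by
      refine ⟨fun k' hk' g => ?_⟩
      exact hNn g g.2 k' hk'
    have hp1 : IsPGroup p (N.subgroupOf A) :=
      hNp.comap_of_injective A.subtype A.subtype_injective
    have h5 : N.subgroupOf A ≤ P := by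
      have h6 : IsPGroup p ((P : Subgroup A) ⊔ N.subgroupOf A : Subgroup A) := P.isPGroup'.to_sup_of_normal_right hp1
      have h7 : (P : Subgroup A) = (P : Subgroup A) ⊔ N.subgroupOf A := by
        exact (P.is_maximal' h6 le_sup_left).symm
      rw [h7]
      exact le_sup_right
    exact h5 hk
  let K : Subgroup Q := C.map A.subtype
  have hKA : K ≤ A := by
    rintro _ ⟨c, _, rfl⟩
    exact c.2
  have hKinv : ∀ σ ∈ Γ, ∀ k ∈ K, σ k ∈ K := by
    intro σ hσ
    have hσA : ∀ y ∈ A, σ y ∈ A := fun y hy => (h.inv σ hσ y).2 hy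
    let f : A →* A := (σ.toMonoidHom.comp A.subtype).codRestrict A (fun y => hσA y y.2)
    have hf : Function.Injective f := by
      intro y z e
      have e' : σ y = σ z := Subtype.ext_iff.1 e
      exact Subtype.ext (σ.injective e')
    let τ : MulAut A := MulEquiv.ofBijective f (Finite.injective_iff_bijective.1 hf)
    rintro _ ⟨c, hc, rfl⟩
    exact ⟨τ c, hC τ c hc, rfl⟩
  have hCp : IsPGroup p C := by
    obtain ⟨P⟩ : Nonempty (Sylow p A) := inferInstance
    exact P.isPGroup'.to_le (iInf_le _ P)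
  have hKp : IsPGroup p K := hCp.map A.subtype
  have hzK : z ∈ K := ⟨⟨z, hN hz⟩, hNC z hz, rfl⟩
  have hKne : K ≠ ⊥ := by
    intro e
    rw [e, mem_bot] at hzK
    exact hz1 hzK
  have h8 := (h.nilp K hKA hKinv hKp.isNilpotent hKne).2.2.2.1 x hx
  have h9 : z ∈ K ⊓ cj x A := ⟨hzK, hzx⟩
  rw [h8.1, mem_bot] at h9
  exact hz1 h9

variable {ι : Type} [Fintype ι] [DecidableEq ι] {F : Type*} [Field F] {S : Subgroup (GL ι F)}

end pcore

end Cfsg.Agent.H567.EP
end

-- part: H567/EP/Gen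
section
/-!
# S3499: the criteria `P1`, `T1` for an arbitrary surjection `π : S → Q` (helper567)
-/

set_option autoImplicit false

namespace Cfsg.Agent.H567.EP

open Subgroup Cfsg.Agent.H284 Cfsg.Agent.H419.EP

variable {Q : Type*} [Group Q] {A : Subgroup Q} {Γ : Subgroup (MulAut Q)}
variable {G : Type*} [Group G] {S : Subgroup G}

/-- the preimage of `A` -/
def pre (π : S →* Q) (A : Subgroup Q) : Subgroup G := (A.comap π).map S.subtype

theorem mem_pre {π : S →* Q} {g : G} : g ∈ pre π A ↔ ∃ hg : g ∈ S, π ⟨g, hg⟩ ∈ A := by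
  constructor
  · rintro ⟨s, hs, rfl⟩
    exact ⟨s.2, hs⟩
  · rintro ⟨hg, h⟩
    exact ⟨⟨g, hg⟩, h, rfl⟩

theorem mem_pre_iff {π : S →* Q} (s : S) : (s : G) ∈ pre π A ↔ π s ∈ A := by
  rw [mem_pre]
  constructor
  · rintro ⟨_, h⟩
    exact h
  · intro h
    exact ⟨s.2, h⟩

theorem pre_le {π : S →* Q} : pre π A ≤ S := by
  intro g hg
  exact (mem_pre.1 hg).1

/-- maximality of the preimage -/
theorem pre_max {π : S →* Q} (hπ : Function.Surjective π) (hA : IsCoatom A) {L : Subgroup G} (h1 : pre π A ≤ L)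
    (h2 : L ≤ S) : L ≤ pre π A ∨ S ≤ L := by
  have h3 : A ≤ (L.subgroupOf S).map π := by
    intro a ha
    obtain ⟨s, rfl⟩ := hπ a
    exact ⟨s, h1 ((mem_pre_iff s).2 ha), rfl⟩
  by_cases h4 : (L.subgroupOf S).map π = A
  · left
    intro g hg
    refine mem_pre.2 ⟨h2 hg, ?_⟩
    rw [← h4]
    exact ⟨⟨g, h2 hg⟩, hg, rfl⟩
  · right
    have h5 := hA.2 _ (lt_of_le_of_ne h3 (Ne.symm h4))
    intro g hg
    have h6 : π ⟨g, hg⟩ ∈ (L.subgroupOf S).map π := by rw [h5]; exact mem_top _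
    obtain ⟨l, hl, e⟩ := h6
    have h7 : π (l⁻¹ * ⟨g, hg⟩) = 1 := by rw [map_mul, map_inv, e, inv_mul_cancel]
    have h8 : ((l⁻¹ * ⟨g, hg⟩ : S) : G) ∈ pre π A := by
      rw [mem_pre_iff, h7]
      exact A.one_mem
    have h9 := L.mul_mem hl (h1 h8)
    have e9 : ((L.subtype ⟨l, hl⟩ : G)) * ((l⁻¹ * ⟨g, hg⟩ : S) : G) = g := by
      rw [Subgroup.coe_mul, Subgroup.coe_inv]
      exact mul_inv_cancel_left _ _
    rw [← e9]
    exact h9

/-- **(P1)** -/
theorem P1' (h : EPT A Γ) {π : S →* Q} (hπ : Function.Surjective π) {x t : G} (hxS : x ∈ S) (hx : x ∉ pre π A)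
    (ht : t ∈ pre π A)
    (hn : ∀ g, g ∈ pre π A → x⁻¹ * g * x ∈ pre π A → x⁻¹ * (t * g * t⁻¹) * x ∈ pre π A) :
    x⁻¹ * t * x ∈ pre π A := by
  have htS := pre_le ht
  have key : ∀ g : S, (x⁻¹ * (g : G) * x ∈ pre π A ↔
      (π ⟨x, hxS⟩)⁻¹ * π g * π ⟨x, hxS⟩ ∈ A) := by
    intro g
    rw [← map_inv, ← map_mul, ← map_mul, ← mem_pre_iff, Subgroup.coe_mul, Subgroup.coe_mul, Subgroup.coe_inv]
  have hx' : π ⟨x, hxS⟩ ∉ A := fun e => hx ((mem_pre_iff ⟨x, hxS⟩).2 e)
  have ha : π ⟨t, htS⟩ ∈ A := (mem_pre_iff ⟨t, htS⟩).1 ht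
  refine (key ⟨t, htS⟩).2 (norm_M0 h hx' ha ?_)
  intro k hk hk'
  obtain ⟨g, rfl⟩ := hπ k
  have h1 := hn g ((mem_pre_iff g).2 hk) ((key g).2 hk')
  have h2 := key (⟨t, htS⟩ * g * (⟨t, htS⟩ : S)⁻¹)
  rw [map_mul, map_mul, map_inv, Subgroup.coe_mul, Subgroup.coe_mul, Subgroup.coe_inv] at h2
  exact h2.1 h1

/-- **(T1)** -/
theorem T1' [Finite Q] (h : EPT A Γ) {π : S →* Q} (hπ : Function.Surjective π) {p : ℕ} (hp : p.Prime)
    {N : Subgroup G} (hN : N ≤ pre π A)
    (hNp : IsPGroup p N) (hNn : ∀ a ∈ pre π A, ∀ k ∈ N, a * k * a⁻¹ ∈ N) {x : G} (hxS : x ∈ S)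
    (hx : x ∉ pre π A) {z : S} (hz : (z : G) ∈ N) (hzx : x⁻¹ * z * x ∈ pre π A) : π z = 1 := by
  have hx' : π ⟨x, hxS⟩ ∉ A := fun e => hx ((mem_pre_iff ⟨x, hxS⟩).2 e)
  refine normal_inf h hp (N := (N.subgroupOf S).map π) ?_ ?_ ?_ hx' ⟨z, hz, rfl⟩ ?_
  · rintro _ ⟨k, hk, rfl⟩
    exact (mem_pre_iff k).1 (hN hk)
  · exact (hNp.comap_of_injective S.subtype S.subtype_injective).map π
  · rintro a ha _ ⟨k, hk, rfl⟩
    obtain ⟨g, rfl⟩ := hπ a
    refine ⟨g * k * g⁻¹, hNn g ((mem_pre_iff g).2 ha) k hk, ?_⟩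
    rw [map_mul, map_mul, map_inv]
  · rw [mem_cj, ← map_inv, ← map_mul, ← map_mul, ← mem_pre_iff, Subgroup.coe_mul, Subgroup.coe_mul,
      Subgroup.coe_inv]
    exact hzx

end Cfsg.Agent.H567.EP
end

-- part: H567/EP/Wd
section
/-!
# S3499, orthogonal groups: the criteria for stabilisers of subspaces; tools (helper567)
-/

set_option autoImplicit false
set_option linter.unusedSectionVars false

namespace Cfsg.Agent.H567.EP

open QuadraticMap Cfsg.Agent.LieClassical.OrthCore Cfsg.Agent.LieClassical.OrthTrans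
  Cfsg.Agent.LieClassical.OrthFinite Cfsg.Agent.H883.Sub Cfsg.Agent.H284

variable {F V : Type*} [Field F] [AddCommGroup V] [Module F V] [FiniteDimensional F V] {Q : QuadraticForm F V}

section stab

theorem inv_stab {W : Submodule F V} {g : V ≃ₗ[F] V} (h : ∀ w ∈ W, g w ∈ W) : ∀ w ∈ W, g⁻¹ w ∈ W := by
  have h1 := Cfsg.Agent.H883.Bridge.mem_stab_of_le h
  intro w hw
  have h2 : g (g⁻¹ w) = w := LinearEquiv.apply_symm_apply g w
  rw [h1 (g⁻¹ w), h2]
  exact hw

theorem perp_stab {W : Submodule F V} {g : V ≃ₗ[F] V} (hg : g ∈ O Q) (h : ∀ w ∈ W, g w ∈ W) :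
    ∀ v ∈ perp Q W, g v ∈ perp Q W := by
  intro v hv
  rw [mem_perp]
  intro w hw
  have h2 : g (g⁻¹ w) = w := LinearEquiv.apply_symm_apply g w
  rw [← h2, polar_map hg]
  exact mem_perp.1 hv _ (inv_stab h w hw)

variable {T : Type*} [Group T] {A : Subgroup T} {Γ : Subgroup (MulAut T)} {π : E Q →* T}

/-- the preimage of `A` is the stabiliser of `W` in `E Q` -/
def IsStab (π : E Q →* T) (A : Subgroup T) (W : Submodule F V) : Prop :=
  ∀ g ∈ E Q, (g ∈ pre π A ↔ ∀ w ∈ W, g w ∈ W)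

theorem IsStab.perp (hQ : Nondeg Q) {W : Submodule F V} (hS : IsStab π A W) : IsStab π A (perp Q W) := by
  intro g hg
  rw [hS g hg]
  constructor
  · exact perp_stab (E_le_O hg)
  · intro h
    have := perp_stab (E_le_O hg) h
    rwa [perp_perp hQ] at this

/-- **(P1)** for the stabiliser of a subspace -/
theorem P1W (h : EPT A Γ) (hπ : Function.Surjective π) {W : Submodule F V} (hS : IsStab π A W) {x t : V ≃ₗ[F] V}
    (hx : x ∈ E Q) (ht : t ∈ E Q) (hxW : ∃ w ∈ W, x w ∉ W) (htW : ∀ w ∈ W, t w ∈ W)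
    (hn : ∀ g ∈ E Q, (∀ w ∈ W, g w ∈ W) → (∀ w ∈ W, ∃ w' ∈ W, g (x w) = x w') →
      ∀ w ∈ W, ∃ w' ∈ W, g (t (x w)) = t (x w')) : ∀ w ∈ W, ∃ w' ∈ W, t (x w) = x w' := by
  have hxA : x ∉ pre π A := by
    intro e
    obtain ⟨w, hw, h1⟩ := hxW
    exact h1 ((hS x hx).1 e w hw)
  have htA : t ∈ pre π A := (hS t ht).2 htW
  have hcj : ∀ g ∈ E Q, (x⁻¹ * g * x ∈ pre π A ↔ ∀ w ∈ W, ∃ w' ∈ W, g (x w) = x w') := by
    intro g hg
    rw [hS _ ((E Q).mul_mem ((E Q).mul_mem ((E Q).inv_mem hx) hg) hx)]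
    constructor
    · intro h1 w hw
      exact ⟨_, h1 w hw, (LinearEquiv.apply_symm_apply x (g (x w))).symm⟩
    · intro h1 w hw
      obtain ⟨w', hw', e⟩ := h1 w hw
      have e2 : (x⁻¹ * g * x) w = w' := by
        show x.symm (g (x w)) = w'
        rw [e, LinearEquiv.symm_apply_apply]
      rw [e2]
      exact hw'
  have h1 := P1' h hπ hx hxA ((pre π A).inv_mem htA) (by
    intro g hg hg'
    have hgE := pre_le hg
    have h2 := hn g hgE ((hS g hgE).1 hg) ((hcj g hgE).1 hg')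
    rw [hcj _ ((E Q).mul_mem ((E Q).mul_mem ((E Q).inv_mem ht) hgE) ((E Q).inv_mem ((E Q).inv_mem ht)))]
    intro w hw
    obtain ⟨w', hw', e⟩ := h2 w hw
    refine ⟨w', hw', ?_⟩
    show t.symm (g (t (x w))) = x w'
    rw [e, LinearEquiv.symm_apply_apply])
  have h2 := (pre π A).inv_mem h1
  have e3 : (x⁻¹ * t⁻¹ * x)⁻¹ = x⁻¹ * t * x := by group
  rw [e3, hcj t ht] at h2
  exact h2

/-- **(T1)** for the stabiliser of a subspace -/
theorem T1W [Finite T] (h : EPT A Γ) (hπ : Function.Surjective π)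
    (hk : ∀ s : E Q, π s = 1 → ∃ c : F, ∀ v, (s : V ≃ₗ[F] V) v = c • v) {W : Submodule F V} (hS : IsStab π A W)
    {p : ℕ} (hp : p.Prime) {N : Subgroup (V ≃ₗ[F] V)} (hNE : N ≤ E Q) (hNW : ∀ g ∈ N, ∀ w ∈ W, g w ∈ W)
    (hNp : IsPGroup p N) (hNn : ∀ a ∈ E Q, (∀ w ∈ W, a w ∈ W) → ∀ k ∈ N, a * k * a⁻¹ ∈ N) {x : V ≃ₗ[F] V}
    (hx : x ∈ E Q) (hxW : ∃ w ∈ W, x w ∉ W) {z : V ≃ₗ[F] V} (hz : z ∈ N)
    (hzx : ∀ w ∈ W, z (x w) = x w) : ∃ c : F, ∀ v, z v = c • v := by
  have hxA : x ∉ pre π A := by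
    intro e
    obtain ⟨w, hw, h1⟩ := hxW
    exact h1 ((hS x hx).1 e w hw)
  refine hk ⟨z, hNE hz⟩ (T1' h hπ hp (N := N) ?_ hNp ?_ hx hxA (z := ⟨z, hNE hz⟩) hz ?_)
  · intro g hg
    exact (hS g (hNE hg)).2 (hNW g hg)
  · intro a ha k hk'
    exact hNn a (pre_le ha) ((hS a (pre_le ha)).1 ha) k hk'
  · refine (hS _ ((E Q).mul_mem ((E Q).mul_mem ((E Q).inv_mem hx) (hNE hz)) hx)).2 ?_
    intro w hw
    show x.symm (z (x w)) ∈ W
    rw [hzx w hw, LinearEquiv.symm_apply_apply]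
    exact hw

end stab

section tools

theorem nd_split {W : Submodule F V} (hW : NondegOn Q W) {a a' y y' : V} (ha : a ∈ W) (ha' : a' ∈ W)
    (hy : y ∈ perp Q W) (hy' : y' ∈ perp Q W) (e : a + y = a' + y') : a = a' ∧ y = y' := by
  have e1 : a - a' = y' - y := by
    rw [sub_eq_sub_iff_add_eq_add, e, add_comm]
  have h1 : a - a' = 0 := by
    apply hW _ (W.sub_mem ha ha')
    intro z hz
    rw [e1]
    exact mem_perp'.1 ((perp Q W).sub_mem hy' hy) z hz
  have h2 : a = a' := sub_eq_zero.1 h1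
  refine ⟨h2, ?_⟩
  rw [h2] at e
  exact add_left_cancel e

theorem exists_hyp_in {U : Submodule F V} (hU : NondegOn Q U) {u : V} (huU : u ∈ U) (hu0 : u ≠ 0) (hu : Q u = 0) :
    ∃ u' ∈ U, Hyp Q u u' := by
  obtain ⟨y, hyU, hy⟩ := hU.exists_polar_eq huU hu0 1
  refine ⟨y + (-Q y) • u, U.add_mem hyU (U.smul_mem _ huU), hu, ?_, ?_⟩
  · rw [Q_add, QuadraticMap.map_smul, hu, polar_smul_right, polar_comm Q y u, hy]
    simp
  · rw [polar_add_right, polar_smul_right, polar_self_of_sing hu, hy]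
    simp

/-- the complement of a hyperbolic pair in `U` -/
theorem nondegOn_compl {U : Submodule F V} (hU : NondegOn Q U) {e f : V} (he : e ∈ U) (hf : f ∈ U) (h : Hyp Q e f) :
    NondegOn Q (U ⊓ perp Q (Submodule.span F {e, f})) := by
  have hmem : ∀ v, v ∈ perp Q (Submodule.span F {e, f}) ↔ polar Q e v = 0 ∧ polar Q f v = 0 := by
    intro v
    rw [mem_perp]
    constructor
    · intro h1
      exact ⟨h1 e (Submodule.subset_span (by simp)), h1 f (Submodule.subset_span (by simp))⟩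
    · rintro ⟨h1, h2⟩ w hw
      obtain ⟨a, b, rfl⟩ := Submodule.mem_span_pair.1 hw
      rw [polar_add_left, polar_smul_left, polar_smul_left, h1, h2, smul_zero, smul_zero, add_zero]
  intro y hy hy'
  obtain ⟨h1, h2⟩ := (hmem y).1 hy.2
  apply hU y hy.1
  intro z hz
  have h3 := hy' (Cfsg.Agent.LieClassical.OrthTrans.proj Q e f z) ⟨U.sub_mem (U.sub_mem hz (U.smul_mem _ he)) (U.smul_mem _ hf),
    (hmem _).2 ⟨polar_proj_left h z, polar_proj_right h z⟩⟩
  rw [polar_comm] at h3 ⊢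
  rw [Cfsg.Agent.LieClassical.OrthTrans.proj, polar_sub_left, polar_sub_left, polar_smul_left, polar_smul_left, h1, h2, smul_zero, smul_zero, sub_zero,
    sub_zero] at h3
  exact h3

theorem mem_compl {U : Submodule F V} {e f v : V} : v ∈ U ⊓ perp Q (Submodule.span F {e, f}) ↔
    v ∈ U ∧ polar Q e v = 0 ∧ polar Q f v = 0 := by
  rw [Submodule.mem_inf]
  apply and_congr_right
  intro _
  rw [mem_perp]
  constructor
  · intro h1
    exact ⟨h1 e (Submodule.subset_span (by simp)), h1 f (Submodule.subset_span (by simp))⟩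
  · rintro ⟨h1, h2⟩ w hw
    obtain ⟨a, b, rfl⟩ := Submodule.mem_span_pair.1 hw
    rw [polar_add_left, polar_smul_left, polar_smul_left, h1, h2, smul_zero, smul_zero, add_zero]

theorem finrank_inf_perp_span (hQ : Nondeg Q) (U : Submodule F V) (e f : V) :
    Module.finrank F U ≤ Module.finrank F (U ⊓ perp Q (Submodule.span F {e, f}) : Submodule F V) + 2 := by
  have h1 := finrank_perp hQ (Submodule.span F {e, f})
  have h2 := Submodule.finrank_sup_add_finrank_inf_eq U (perp Q (Submodule.span F {e, f}))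
  have h3 : Module.finrank F (U ⊔ perp Q (Submodule.span F {e, f}) : Submodule F V) ≤ Module.finrank F V :=
    Submodule.finrank_le _
  have h4 : Module.finrank F (Submodule.span F {e, f}) ≤ 2 := by
    classical
    have h5 := finrank_span_finset_le_card (R := F) (M := V) ({e, f} : Finset V)
    have h6 : ({e, f} : Finset V).card ≤ 2 := Finset.card_le_two
    have h7 : ((({e, f} : Finset V) : Set V)) = {e, f} := by simp
    rw [Set.finrank, h7] at h5
    omega
  omega

theorem exists_nonsing_in {Y : Submodule F V} (hY : NondegOn Q Y) (h0 : Y ≠ ⊥) : ∃ v ∈ Y, Q v ≠ 0 := by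
  by_contra hcon
  push Not at hcon
  obtain ⟨x, hx, hx0⟩ := Submodule.exists_mem_ne_zero_of_ne_bot h0
  apply hx0
  apply hY x hx
  intro y hy
  rw [polar, hcon _ (Y.add_mem hx hy), hcon _ hx, hcon _ hy]
  simp

/-- every value is taken in dimension at least two, odd characteristic -/
theorem exists_val [Finite F] (h2 : (2 : F) ≠ 0) {Y : Submodule F V} (hY : NondegOn Q Y) (hd : 2 ≤ Module.finrank F Y)
    (c : F) : ∃ v ∈ Y, Q v = c := by
  let B : LinearMap.BilinForm F Y := (polarBilin Q).domRestrict₁₂ Y Y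
  have hB : ∀ x y : Y, B x y = polar Q x y := fun x y => rfl
  have hsymm : LinearMap.BilinForm.IsSymm B := ⟨fun x y => by
    change B x y = B y x
    rw [hB, hB]
    exact polar_comm _ _ _⟩
  have hBn : B.Nondegenerate := by
    constructor
    · intro x hx
      apply Subtype.ext
      apply hY x x.2
      intro y hy
      exact hx ⟨y, hy⟩
    · intro x hx
      apply Subtype.ext
      apply hY x x.2
      intro y hy
      rw [polar_comm]
      exact hx ⟨y, hy⟩
  obtain ⟨x, hx⟩ := Cfsg.Agent.ClassicalGeometry.Discriminant.exists_value h2 B hsymm hBn hd (2 * c)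
  refine ⟨x, x.2, ?_⟩
  rw [hB, polar_self'] at hx
  exact mul_left_cancel₀ h2 hx

end tools

end Cfsg.Agent.H567.EP
end
end

-- part: H778/EP/OmAsm
section
set_option linter.all false

/-!
# S3499, layer III, orthogonal groups: the assembly of `OrthNonRes` (helper778)

The rows `OmRed`, `OmPoint`, `OmC2`, `OmC2t2`, `OmC2b`, `OmC3`, `OmC4`, `OmC5`, `OmC6`, `OmC7` (the tasks Om-*) are stated here
exactly in the form in which the assembly uses them (`H = m.hat A`); `orthNonRes_of` proves the target.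
-/

set_option autoImplicit false

namespace Cfsg.Agent.H778.EP

open Subgroup Cfsg.Agent.H284 Cfsg.Agent.H419.EP QuadraticMap
open Cfsg.Agent.H919 (HermForm WreathData)
open scoped MatrixGroups

/-- the rows: no extremely primitive group with socle `Ω(Qf)` modulo scalars and stabiliser `A` satisfying `C` -/
def OmRow (C : ∀ (F : Type) [Field F] [Fintype F] (ι : Type) [Fintype ι] [DecidableEq ι] (_ : (ι → F) → F)
    (_ : Subgroup (GL ι F)), Prop) : Prop :=
  ∀ {Q : Type} [Group Q] [Finite Q], IsSimpleGroup Q → ∀ {A : Subgroup Q}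
    {Γ : Subgroup (MulAut Q)}, EPT A Γ → ∀ {F : Type} [Field F] [Fintype F] {ι : Type} [Fintype ι] [DecidableEq ι]
    {Qf : (ι → F) → F} (m : Model Q (Cfsg.Geo.omegaGL Qf)), 7 ≤ Fintype.card ι →
    Cfsg.Geo.IsNondegenerateQuadraticForm Qf → C F ι Qf (m.hat A) → False

/-- [Om-POINT] the stabiliser of a nonsingular point -/
def OmPoint : Prop := OmRow fun F _ _ ι _ _ Qf H =>
  ∃ v : ι → F, Qf v ≠ 0 ∧ H ≤ Geo.subspaceStabilizer (Submodule.span F {v})

/-- [Om-C2t2, first part] the stabiliser of `{W, W⊥}`, `W` nondegenerate of dimension `n / 2` -/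
def OmC2t2 : Prop := OmRow fun F _ _ ι _ _ Qf H =>
  ∃ (k : ℕ) (D : Fin 2 → Submodule F (ι → F)), 2 * k = Fintype.card ι ∧
    Geo.IsNondegenerateMDecomposition (polar Qf) k D ∧ H ≤ Geo.decompositionStabilizer D

/-- [Om-C2t2, second part] pairs of complementary totally singular subspaces -/
def OmC2b : Prop := OmRow fun F _ _ ι _ _ Qf H =>
  Geo.ActsIrreducibly (Geo.matrixSet H) ∧ ∃ (k : ℕ) (D : Fin 2 → Submodule F (ι → F)), 2 * k = Fintype.card ι ∧
    Geo.IsMDecomposition k D ∧ (∀ i, Geo.IsTotallySingularQuad Qf (D i)) ∧ H ≤ Geo.decompositionStabilizer D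

/-- [Om-RED] reducible stabilisers -/
def OmRed : Prop := OmPoint → OmC2t2 → OmRow fun _ _ _ _ _ _ _ H => ¬ Geo.ActsIrreducibly (Geo.matrixSet H)

/-- [Om-C2] orthogonal decompositions into `t ≥ 3` subspaces -/
def OmC2 : Prop := OmRow fun F _ _ ι _ _ Qf H =>
  Geo.ActsIrreducibly (Geo.matrixSet H) ∧ ∃ (t k : ℕ) (D : Fin t → Submodule F (ι → F)), t * k = Fintype.card ι ∧ 3 ≤ t ∧
    Geo.IsOrthogonalMDecomposition Qf k D ∧ H ≤ Geo.decompositionStabilizer D ∧
    (∀ i j, ∃ h ∈ H, (D i).map (Matrix.toLin' (h : Matrix ι ι F)) = D j)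

/-- [Om-C3] extension fields -/
def OmC3 : Prop := OmRow fun F _ _ ι _ _ Qf H =>
  Geo.ActsIrreducibly (Geo.matrixSet H) ∧ ∃ (r : ℕ) (K : Subalgebra F (Matrix ι ι F)), r.Prime ∧ r ∣ Fintype.card ι ∧
    Geo.IsFieldSubalgebra r K ∧ Geo.IsAdjointClosedFor (polar Qf) K ∧ H ≤ Geo.subalgebraNormalizer K

/-- [Om-C4C7, first part] tensor products -/
def OmC4 : Prop := OmRow fun F _ _ ι _ _ Qf H =>
  Geo.ActsIrreducibly (Geo.matrixSet H) ∧ ∃ (n₁ n₂ : ℕ) (e : ι ≃ Fin n₁ × Fin n₂) (P : GL ι F) (ε : F)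
    (f₁ : (Fin n₁ → F) → (Fin n₁ → F) → F) (f₂ : (Fin n₂ → F) → (Fin n₂ → F) → F), 2 ≤ n₁ ∧ 2 ≤ n₂ ∧
    n₁ * n₂ = Fintype.card ι ∧ (ε = 1 ∨ ε = -1) ∧ HermForm (RingEquiv.refl F) ε f₁ ∧ HermForm (RingEquiv.refl F) ε f₂ ∧
    Geo.IsTensorFormStructure id (polar Qf) f₁ f₂ e P ∧ H ≤ Geo.tensorProductSubgroup n₁ n₂ e P

/-- [Om-C5] subfields -/
def OmC5 : Prop := OmRow fun F _ _ ι _ _ Qf H =>
  Geo.ActsIrreducibly (Geo.matrixSet H) ∧ ∃ (F₁ : Subfield F) (r : ℕ) (B : GL ι F) (ζ : F), F₁ ≠ ⊤ ∧ r.Prime ∧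
    Nat.card F = Nat.card F₁ ^ r ∧ ζ ≠ 0 ∧ Geo.IsFormRationalStructure (polar Qf) F₁ ζ B ∧ H ≤ Geo.subfieldSubgroup F₁ B

/-- [Om-C6] symplectic type groups -/
def OmC6 : Prop := OmRow fun F _ _ ι _ _ _ H =>
  Geo.ActsIrreducibly (Geo.matrixSet H) ∧ ∃ (r m : ℕ) (R : Subgroup (GL ι F)), R ≤ H ∧
    (∀ h ∈ H, ∀ x ∈ R, h * x * h⁻¹ ∈ R) ∧
    H ≤ Geo.subgroupNormalizer R ∧ Geo.ActsAbsolutelyIrreducibly (Geo.matrixSet R) ∧
    Geo.IsSymplecticTypeGroup r R ∧
    ringChar F ≠ r ∧ 1 ≤ m ∧ Fintype.card ι = r ^ m ∧ Subgroup.center R = (Geo.scalars ι F).subgroupOf R ∧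
    ((Odd r ∧ Nat.card (Subgroup.center R) = r ∧ Nat.card R = r ^ (1 + 2 * m)) ∨
     (r = 2 ∧ Nat.card (Subgroup.center R) = 4 ∧ Nat.card R = 2 ^ (2 + 2 * m)) ∨
     (r = 2 ∧ Nat.card (Subgroup.center R) = 2 ∧ Nat.card R = 2 ^ (1 + 2 * m))) ∧
    (∀ F₀ : Subfield F, F₀ ≠ ⊤ → ¬ Geo.RealisableOver F₀ (Geo.matrixSet R))

/-- [Om-C4C7, second part] tensor powers -/
def OmC7 : Prop := OmRow fun F _ _ ι _ _ _ H =>
  Geo.ActsIrreducibly (Geo.matrixSet H) ∧ ∃ (k t : ℕ) (e : ι ≃ (Fin t → Fin k)) (P : GL ι F)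
    (E : Fin t → Subgroup (GL ι F)), k ^ t = Fintype.card ι ∧ WreathData H k t e P E

theorem omegaGL_le {F : Type*} [Field F] {ι : Type} [Fintype ι] [DecidableEq ι] (Qf : (ι → F) → F) :
    Geo.omegaGL Qf ≤ isometryGroup F Qf := by
  rintro _ ⟨x, _, rfl⟩
  exact x.2

/-- **The assembly.** -/
theorem orthNonRes_of (hRed : OmRed) (hPoint : OmPoint) (hC2 : OmC2) (hC2t2 : OmC2t2) (hC2b : OmC2b) (hC3 : OmC3)
    (hC4 : OmC4) (hC5 : OmC5) (hC6 : OmC6) (hC7 : OmC7) : OrthNonRes := by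
  intro Q _ _ hs A Γ h F _ _ ι _ _ Qf m h7 hQ hres
  by_cases hirr : Geo.ActsIrreducibly (Geo.matrixSet (m.hat A))
  · have hH : m.hat A ≤ isometryGroup F Qf := (m.hat_le A).trans (omegaGL_le Qf)
    rcases Cfsg.Agent.H925.orth_irreducible_fine (by omega) hQ hH hirr with
      ⟨t, k, D, htk, hD, hHD, htr⟩ | ⟨k, D, hk, hD, hts, hHD⟩ | ⟨r, K, hr, hrd, hK, hadj, hHK⟩ |
      ⟨n₁, n₂, e, P, ε, f₁, f₂, h1, h2, h12, hε, hf1, hf2, hT, hHT⟩ | ⟨F₁, r, B, ζ, hF, hr, hcard, hζ, hform, hHB⟩ |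
      h6 | ⟨k, t, e, P, E, hkt, hw⟩ | hS
    · have h2t : 2 ≤ t := hD.decomp.decomp.two_le
      rcases Nat.eq_or_lt_of_le h2t with ht2 | ht3
      · subst ht2
        exact hC2t2 hs h m h7 hQ ⟨k, D, htk, hD.decomp, hHD⟩
      · exact hC2 hs h m h7 hQ ⟨hirr, t, k, D, htk, ht3, hD, hHD, htr⟩
    · exact hC2b hs h m h7 hQ ⟨hirr, k, D, hk, hD, hts, hHD⟩
    · exact hC3 hs h m h7 hQ ⟨hirr, r, K, hr, hrd, hK, hadj, hHK⟩
    · exact hC4 hs h m h7 hQ ⟨hirr, n₁, n₂, e, P, ε, f₁, f₂, h1, h2, h12, hε, hf1, hf2, hT, hHT⟩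
    · exact hC5 hs h m h7 hQ ⟨hirr, F₁, r, B, ζ, hF, hr, hcard, hζ, hform, hHB⟩
    · exact hC6 hs h m h7 hQ ⟨hirr, h6⟩
    · exact hC7 hs h m h7 hQ ⟨hirr, k, t, e, P, E, hkt, hw⟩
    · exact hres hS
  · exact hRed hPoint hC2t2 hs h m h7 hQ hirr

end Cfsg.Agent.H778.EP
end
end
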